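import Mathlib

/-!
# Representations of a matrix algebra over a truncated polynomial ring

`Loc A q` records a central idempotent `f` of an algebra together with a central `u` and matrix
units over a corner spanned by the powers of `u`. Intertwiners between two representations cut by
`f` are then the intertwiners of the nilpotent operators induced by `u` on the corners; this gives
the extension of endomorphisms of the kernel of `u` preserving its height filtration.
-/

set_option autoImplicit false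

namespace Cfsg.Lib.Blocks.CyclicDefect

open Module

/-- A central idempotent whose corner is a truncated polynomial ring, with matrix units. -/
structure Loc (k A : Type*) [Field k] [Ring A] [Algebra k A] (q : ℕ) where
  /-- The number of matrix units. -/
  n : ℕ
  /-- The idempotent. -/
  f : A
  /-- The generator of the radical of the centre. -/
  u : A
  /-- The corner idempotent. -/
  e : A
  /-- The column units. -/
  U : Fin n → A
  /-- The row units. -/
  V : Fin n → A
  f_idem : f * f = f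
  f_comm : ∀ a, f * a = a * f
  u_comm : ∀ a, u * a = a * u
  fu : f * u = u
  u_pow : u ^ q = 0
  e_idem : e * e = e
  fe : f * e = e
  Ue : ∀ i, U i * e = U i
  eV : ∀ i, e * V i = V i
  sum_UV : ∑ i, U i * V i = f
  corner : ∀ a, e * a * e ∈ Submodule.span k (Set.range fun l : Fin q => u ^ (l : ℕ) * e)
  indep : LinearIndependent k fun l : Fin q => u ^ (l : ℕ) * e

namespace Loc

variable {k A : Type*} [Field k] [Ring A] [Algebra k A] {q : ℕ} (L : Loc k A q)
  {W W' : Type*} [AddCommGroup W] [Module k W] [AddCommGroup W'] [Module k W']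
  (ρ : A →ₐ[k] Module.End k W) (ρ' : A →ₐ[k] Module.End k W')

lemma u_comm_pow (l : ℕ) (a : A) : L.u ^ l * a = a * L.u ^ l :=
  ((show Commute L.u a from L.u_comm a).pow_left l).eq

lemma fU (i : Fin L.n) : L.f * L.U i = L.U i := by
  rw [← L.Ue, ← mul_assoc, L.f_comm, mul_assoc, L.fe]

lemma VU_mem (a : A) (i j : Fin L.n) :
    L.V i * a * L.U j ∈ Submodule.span k (Set.range fun l : Fin q => L.u ^ (l : ℕ) * L.e) := by
  have h := L.corner (L.V i * a * L.U j)
  rwa [mul_assoc, mul_assoc (L.V i * a), L.Ue, ← mul_assoc, ← mul_assoc, L.eV] at h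

/-- An intertwiner of the corners extended to the blocks. -/
noncomputable def ext (ψ : W →ₗ[k] W') : W →ₗ[k] W' :=
  ∑ i, (ρ' (L.U i)).comp (ψ.comp (ρ (L.V i)))

lemma ext_apply (ψ : W →ₗ[k] W') (w : W) :
    L.ext ρ ρ' ψ w = ∑ i, ρ' (L.U i) (ψ (ρ (L.V i) w)) := by
  simp [ext]

variable {L ρ ρ'}

lemma comm_corner {K : Submodule k W} (hK : ∀ a, ∀ w ∈ K, ρ a w ∈ K) {ψ : W →ₗ[k] W'}
    (hu : ∀ w ∈ K, ψ (ρ L.u w) = ρ' L.u (ψ w)) (l : ℕ) {w : W} (hw : w ∈ K) :
    ψ (ρ (L.u ^ l) w) = ρ' (L.u ^ l) (ψ w) := by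
  induction l generalizing w with
  | zero => simp
  | succ l ih =>
    rw [pow_succ, map_mul, map_mul, Module.End.mul_apply, Module.End.mul_apply, ih (hK _ _ hw),
      hu w hw]

lemma Vf (i : Fin L.n) : L.V i * L.f = L.V i := by
  rw [← L.f_comm, ← L.eV, ← mul_assoc, L.fe]

lemma VU_eq (a : A) (i j : Fin L.n) : ∃ c : Fin q → k,
    L.V i * a * L.U j = ∑ l : Fin q, c l • (L.u ^ (l : ℕ) * L.e) := by
  obtain ⟨c, hc⟩ := (Submodule.mem_span_range_iff_exists_fun k).1 (L.VU_mem a i j)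
  exact ⟨c, hc.symm⟩

/-- The extension commutes with the algebra. -/
theorem ext_comm {K : Submodule k W} (hK : ∀ a, ∀ w ∈ K, ρ a w ∈ K) {ψ : W →ₗ[k] W'}
    (hu : ∀ w ∈ K, ψ (ρ L.u w) = ρ' L.u (ψ w)) (a : A) {w : W} (hw : w ∈ K) :
    L.ext ρ ρ' ψ (ρ a w) = ρ' a (L.ext ρ ρ' ψ w) := by
  have key : ∀ (i j : Fin L.n) (c : A), c = L.V i * a * L.U j →
      ρ' (L.U i) (ψ (ρ c (ρ (L.V j) w))) = ρ' (L.U i * c) (ψ (ρ (L.V j) w)) := by
    intro i j c hc
    obtain ⟨t, ht⟩ := L.VU_eq a i j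
    rw [hc, ht]
    have he : ρ L.e (ρ (L.V j) w) = ρ (L.V j) w := by
      rw [← Module.End.mul_apply, ← map_mul, L.eV]
    simp only [Finset.mul_sum, mul_smul_comm, map_sum, map_smul, LinearMap.sum_apply,
      LinearMap.smul_apply]
    refine Finset.sum_congr rfl fun l _ => ?_
    rw [map_mul, Module.End.mul_apply, he, comm_corner hK hu _ (hK _ _ hw), ← Module.End.mul_apply,
      ← map_mul]
    simp only [L.u_comm_pow (l : ℕ) L.e]
    simp only [← mul_assoc, L.Ue]
  calc L.ext ρ ρ' ψ (ρ a w)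
      = ∑ i, ∑ j, ρ' (L.U i) (ψ (ρ (L.V i * a * L.U j) (ρ (L.V j) w))) := by
        rw [ext_apply]
        refine Finset.sum_congr rfl fun i _ => ?_
        rw [← map_sum, ← map_sum]
        congr 2
        simp only [← Module.End.mul_apply, ← map_mul, mul_assoc]
        rw [← LinearMap.sum_apply, ← map_sum, ← Finset.mul_sum, ← Finset.mul_sum, L.sum_UV,
          ← L.f_comm, ← mul_assoc, L.Vf]
    _ = ∑ j, ∑ i, ρ' (L.U i * (L.V i * a * L.U j)) (ψ (ρ (L.V j) w)) := by
        rw [Finset.sum_comm]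
        exact Finset.sum_congr rfl fun j _ => Finset.sum_congr rfl fun i _ => key i j _ rfl
    _ = ρ' a (L.ext ρ ρ' ψ w) := by
        rw [ext_apply, map_sum]
        refine Finset.sum_congr rfl fun j _ => ?_
        rw [← LinearMap.sum_apply, ← map_sum, ← Module.End.mul_apply, ← map_mul]
        congr 2
        simp only [← mul_assoc]
        rw [← Finset.sum_mul, ← Finset.sum_mul, L.sum_UV, L.f_comm, mul_assoc, L.fU]

lemma ext_f (ψ : W →ₗ[k] W') (w : W) : ρ' L.f (L.ext ρ ρ' ψ w) = L.ext ρ ρ' ψ w := by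
  rw [ext_apply, map_sum]
  exact Finset.sum_congr rfl fun i _ => by rw [← Module.End.mul_apply, ← map_mul, L.fU]

/-- On the corner the extension is the given map, cut by `e`. -/
lemma e_ext {K : Submodule k W} (hK : ∀ a, ∀ w ∈ K, ρ a w ∈ K) {ψ : W →ₗ[k] W'}
    (hu : ∀ w ∈ K, ψ (ρ L.u w) = ρ' L.u (ψ w)) {w : W} (hw : w ∈ K) :
    L.ext ρ ρ' ψ (ρ L.e w) = ρ' L.e (ψ (ρ L.e w)) := by
  have key : ∀ i, ρ' (L.e * L.U i) (ψ (ρ (L.V i) (ρ L.e w))) =
      ρ' L.e (ψ (ρ (L.e * L.U i * L.V i) (ρ L.e w))) := by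
    intro i
    obtain ⟨c, hc⟩ := (Submodule.mem_span_range_iff_exists_fun k).1 (L.corner (L.U i))
    rw [mul_assoc, L.Ue] at hc
    rw [← hc]
    have he : ρ L.e (ρ (L.V i) (ρ L.e w)) = ρ (L.V i) (ρ L.e w) := by
      rw [← Module.End.mul_apply, ← map_mul, L.eV]
    simp only [Finset.sum_mul, smul_mul_assoc, map_sum, map_smul, LinearMap.sum_apply,
      LinearMap.smul_apply]
    refine Finset.sum_congr rfl fun l _ => ?_
    rw [map_mul ρ, map_mul ρ, Module.End.mul_apply, Module.End.mul_apply, he,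
      comm_corner hK hu _ (hK _ _ (hK _ _ hw)), ← Module.End.mul_apply, ← map_mul,
      L.u_comm_pow (l : ℕ) L.e, map_mul ρ', Module.End.mul_apply]
  have h1 : ρ' L.e (L.ext ρ ρ' ψ (ρ L.e w)) = L.ext ρ ρ' ψ (ρ L.e w) := by
    rw [← ext_comm hK hu L.e (hK _ _ hw), ← Module.End.mul_apply, ← map_mul, L.e_idem]
  rw [← h1, ext_apply, map_sum]
  calc ∑ i, ρ' L.e (ρ' (L.U i) (ψ (ρ (L.V i) (ρ L.e w))))
      = ∑ i, ρ' L.e (ψ (ρ (L.e * L.U i * L.V i) (ρ L.e w))) :=
        Finset.sum_congr rfl fun i _ => by rw [← Module.End.mul_apply, ← map_mul, key]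
    _ = _ := by
        rw [← map_sum, ← map_sum, ← LinearMap.sum_apply, ← map_sum]
        simp only [mul_assoc]
        rw [← Finset.mul_sum, L.sum_UV, ← Module.End.mul_apply, ← map_mul, ← L.f_comm, L.fe,
          L.e_idem]

omit [AddCommGroup W] [Module k W] [AddCommGroup W'] [Module k W'] in
/-- The centre of the corner algebra is spanned by the powers of the generator. -/
lemma central_eq {z : A} (hc : ∀ a, z * a = a * z) (hz : L.f * z = z) :
    ∃ c : Fin q → k, z = ∑ l : Fin q, c l • (L.u ^ (l : ℕ) * L.f) := by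
  obtain ⟨c, hcs⟩ := (Submodule.mem_span_range_iff_exists_fun k).1 (L.corner z)
  refine ⟨c, ?_⟩
  have h : z = ∑ i, L.U i * (L.e * z * L.e) * L.V i := by
    conv_lhs => rw [← hz, ← L.sum_UV, Finset.sum_mul]
    refine Finset.sum_congr rfl fun i _ => ?_
    rw [mul_assoc, ← hc, ← mul_assoc, ← mul_assoc (L.U i), ← mul_assoc (L.U i), L.Ue,
      mul_assoc _ L.e (L.V i), L.eV]
  rw [h, ← hcs]
  simp only [Finset.mul_sum, Finset.sum_mul, mul_smul_comm, smul_mul_assoc]
  rw [Finset.sum_comm]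
  refine Finset.sum_congr rfl fun l _ => ?_
  rw [← Finset.smul_sum, ← L.sum_UV, Finset.mul_sum]
  congr 1
  refine Finset.sum_congr rfl fun i _ => ?_
  rw [← mul_assoc (L.U i), ← L.u_comm_pow, mul_assoc (L.u ^ (l : ℕ)) (L.U i) L.e, L.Ue, mul_assoc]

omit [AddCommGroup W] [Module k W] [AddCommGroup W'] [Module k W'] in
/-- A central nilpotent of the corner algebra is a multiple of the generator. -/
lemma nilpotent_eq {z : A} (hc : ∀ a, z * a = a * z) (hz : L.f * z = z) (hn : IsNilpotent z) :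
    ∃ w, z = w * L.u := by
  rcases q with _ | r
  · have he : L.e = 0 := by rw [← L.e_idem, ← one_mul L.e, ← pow_zero L.u, L.u_pow]; simp
    refine ⟨0, ?_⟩
    rw [zero_mul, ← hz, ← L.sum_UV, Finset.sum_mul]
    exact Finset.sum_eq_zero fun i _ => by rw [← L.Ue i, he, mul_zero, zero_mul, zero_mul]
  obtain ⟨c, rfl⟩ := L.central_eq hc hz
  set w := ∑ l : Fin r, c l.succ • (L.u ^ (l : ℕ) * L.f) with hw
  have hsum : ∑ l : Fin (r + 1), c l • (L.u ^ (l : ℕ) * L.f) = c 0 • L.f + w * L.u := by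
    rw [Fin.sum_univ_succ, hw, Finset.sum_mul]
    simp only [Fin.val_zero, pow_zero, one_mul, Fin.val_succ]
    congr 1
    refine Finset.sum_congr rfl fun l _ => ?_
    rw [smul_mul_assoc, mul_assoc, L.f_comm L.u, ← mul_assoc, ← pow_succ]
  rw [hsum] at hn hc ⊢
  refine ⟨w, ?_⟩
  by_cases h0 : c 0 = 0
  · rw [h0, zero_smul, zero_add]
  exfalso
  have hwu : IsNilpotent (w * L.u) :=
    Commute.isNilpotent_mul_left (L.u_comm w).symm ⟨_, L.u_pow⟩
  have hf : IsNilpotent (c 0 • L.f) := by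
    have := (show Commute (c 0 • L.f + w * L.u) (w * L.u) from hc _).isNilpotent_sub hn hwu
    rwa [add_sub_cancel_right] at this
  obtain ⟨N, hN⟩ := hf
  have h1 : L.u ^ 0 * L.e = 0 := by
    have hp : L.f ^ (N + 1) = L.f :=
      IsIdempotentElem.pow_succ_eq N (show IsIdempotentElem L.f from L.f_idem)
    rw [pow_zero, one_mul, ← L.fe, ← hp, pow_succ]
    rw [smul_pow, smul_eq_zero] at hN
    rcases hN with h | h
    · exact absurd h (pow_ne_zero _ h0)
    · rw [h, zero_mul, zero_mul]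
  exact L.indep.ne_zero 0 h1

/-- Two local structures on one idempotent have the same filtration. -/
lemma range_pow_eq (L' : Loc k A q) (h : L'.f = L.f) (j : ℕ) :
    LinearMap.range (ρ (L'.u ^ j)) ≤ LinearMap.range (ρ (L.u ^ j)) ∧
      LinearMap.ker (ρ L.u) ≤ LinearMap.ker (ρ L'.u) := by
  obtain ⟨w, hw⟩ := L.nilpotent_eq L'.u_comm (h ▸ L'.fu) ⟨_, L'.u_pow⟩
  refine ⟨?_, fun v hv => ?_⟩
  · rintro _ ⟨x, rfl⟩
    rw [hw, (show Commute w L.u from (L.u_comm w).symm).mul_pow, ← L.u_comm_pow, map_mul,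
      Module.End.mul_apply]
    exact ⟨_, rfl⟩
  · rw [LinearMap.mem_ker] at hv ⊢
    rw [hw, map_mul, Module.End.mul_apply, hv, map_zero]

end Loc

end Cfsg.Lib.Blocks.CyclicDefect
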