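import Mathlib
import Cfsg.Agent.Blocks.IBr.EqualDegreeInertia
import Cfsg.Agent.Blocks.Star.NilpotentBlock
import Cfsg.Agent.Blocks.CyclicDefect.Loc

/-!
# The local algebra of a nilpotent block with cyclic defect group

The centre of such a block is the group algebra of the defect group through the Brauer map, and
the corner at the primitive idempotent is the centre.
-/

set_option autoImplicit false
set_option linter.unusedSectionVars false
set_option linter.style.haveILetI false

namespace Cfsg.Lib.Blocks.CyclicDefect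

open Module Cfsg.Lib.Chars Cfsg.Lib.Blocks.Star Cfsg.Lib.Blocks.IBr
open scoped Classical

universe u

local notation "C⟨" Q "⟩" => Subgroup.centralizer (SetLike.coe Q)

variable {G : Type u} [Group G] [Fintype G] {M : Ideal AlgInt} {p : ℕ} {B : Set (IrrCharacter G)}
  {P : Subgroup G}

/-- The block idempotent lies in the ideal of the primitive idempotent of its simple module. -/
lemma blk_mem_span_eps (hM : IsPModular p M) (hB : IsPBlock M B) {i : Ix M G}
    (huniq : ∀ j, InBlk M B j → j = i) :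
    red M (blockElem B) ∈
      Submodule.span (Res M) {x | ∃ a b, x = a * (sys M G).eps i * b} := by
  set f := red M (blockElem B)
  have hf : f * f = f := red_blk_idem hM hB
  set T : MonoidAlgebra (Res M) G → Submodule (Res M) (MonoidAlgebra (Res M) G) := fun e =>
    Submodule.span (Res M) {x | ∃ a b, x = a * e * b} with hT
  have hmem : ∀ e a b, a * e * b ∈ T e := fun e a b => Submodule.subset_span ⟨a, b, rfl⟩
  have hkey := (sys M G).additive_eq_sum T ?_ ?_ ?_ hf
  · have hfT : f ∈ T f := by simpa using hmem f 1 1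
    rw [hkey] at hfT
    refine (?_ : (∑ j, (sys M G).mu j f • T ((sys M G).eps j)) ≤ T ((sys M G).eps i)) hfT
    refine Finset.sum_induction _ (· ≤ T ((sys M G).eps i)) (fun a b ha hb => sup_le ha hb) bot_le
      fun j _ => ?_
    by_cases hj : InBlk M B j
    · rw [huniq j hj]
      induction (sys M G).mu i f with
      | zero => rw [zero_smul]; exact bot_le
      | succ n ih => rw [add_smul, one_smul]; exact sup_le ih le_rfl
    · rw [mu_blk_eq_zero hM hB hj, zero_smul]; exact bot_le
  · exact (Submodule.span_eq_bot.2 fun x ⟨a, b, hx⟩ => by rw [hx, mul_zero, zero_mul])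
  · intro e e' he he' hee' he'e
    refine le_antisymm (Submodule.span_le.2 ?_) (sup_le (Submodule.span_le.2 ?_) (Submodule.span_le.2 ?_))
    · rintro _ ⟨a, b, rfl⟩
      rw [mul_add, add_mul]
      exact Submodule.add_mem_sup (hmem e a b) (hmem e' a b)
    · rintro _ ⟨a, b, rfl⟩
      rw [show a * e * b = a * (e + e') * (e * b) by
        rw [mul_assoc a (e + e'), add_mul, ← mul_assoc e, he, ← mul_assoc e', he'e, zero_mul,
          add_zero, mul_assoc]]
      exact hmem _ _ _
    · rintro _ ⟨a, b, rfl⟩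
      rw [show a * e' * b = a * (e + e') * (e' * b) by
        rw [mul_assoc a (e + e'), add_mul, ← mul_assoc e', he', ← mul_assoc e, hee', zero_mul,
          zero_add, mul_assoc]]
      exact hmem _ _ _
  · intro e e' he he' ⟨u, v, huv, hvu⟩
    refine le_antisymm (Submodule.span_le.2 ?_) (Submodule.span_le.2 ?_)
    · rintro _ ⟨a, b, rfl⟩
      rw [show a * e * b = a * u * e' * (v * b) by
        rw [← hvu]; conv_lhs => rw [← he, ← huv]
        simp only [mul_assoc]]
      exact hmem _ _ _
    · rintro _ ⟨a, b, rfl⟩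
      rw [show a * e' * b = a * v * e * (u * b) by
        rw [← huv]; conv_lhs => rw [← he', ← hvu]
        simp only [mul_assoc]]
      exact hmem _ _ _

variable [Fact p.Prime]

/-- The shifted translates of a block of the centralizer by powers of a generator are independent. -/
lemma indep_shift_bi (hM : IsPModular p M) (hP : IsPGroup p P) {c : Set (IrrCharacter C⟨P⟩)}
    (hc : IsPBlock M c) {g : G} (hg : g ∈ P) {q : ℕ} (hq : orderOf g = q) :
    LinearIndependent (Res M) fun l : Fin q =>
      (MonoidAlgebra.single g (1 : Res M) - 1) ^ (l : ℕ) * bi M C⟨P⟩ c := by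
  haveI := charP_res hM
  set β := bi M C⟨P⟩ c with hβ
  letI := Fintype.ofFinite C⟨P⟩
  obtain ⟨t, ht⟩ : ∃ t, fn β t ≠ 0 := by
    by_contra h0
    push Not at h0
    exact bi_ne_zero hM hc (fn_ext fun g => by rw [h0 g, fn_zero])
  have hregular : ∀ t, fn β t ≠ 0 → ¬ p ∣ orderOf t := fun t ht hdiv => by
    have htC : t ∈ C⟨P⟩ := by by_contra h0; exact ht (suppOn_bi c t h0)
    apply ht
    rw [hβ, show t = ((⟨t, htC⟩ : C⟨P⟩) : G) from rfl, bi_eq_rx, fn_rx_coe, fn_blockElem,
      blockCoeff_eq_zero_of_singular hM hc (by rwa [← Subgroup.orderOf_coe]), res_zero]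
  have htC : t ∈ C⟨P⟩ := by by_contra h0; exact ht (suppOn_bi c t h0)
  have hval : ∀ y ∈ P, fn (MonoidAlgebra.single y (1 : Res M) * β) t = if y = 1 then fn β t else 0 := by
    intro y hy
    rw [fn_single_mul, one_mul]
    split_ifs with h
    · rw [h, inv_one, one_mul]
    · by_contra hne
      refine hregular _ hne ?_
      obtain ⟨j, hj⟩ := IsPGroup.iff_orderOf.1 hP ⟨y⁻¹, P.inv_mem hy⟩
      rw [Subgroup.orderOf_mk] at hj
      have hcm : Commute y⁻¹ t := Subgroup.mem_centralizer_iff.1 htC _ (P.inv_mem hy)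
      rw [hcm.orderOf_mul_eq_mul_orderOf_of_coprime (hj ▸
        (hM.1.coprime_iff_not_dvd.2 (hregular t ht)).pow_left j), hj]
      refine Dvd.dvd.mul_right (dvd_pow_self p ?_) _
      rintro rfl
      rw [pow_zero, orderOf_eq_one_iff, inv_eq_one] at hj
      exact h hj
  have hind : LinearIndependent (Res M) fun l : Fin q =>
      MonoidAlgebra.single (g ^ (l : ℕ)) (1 : Res M) * β := by
    rw [Fintype.linearIndependent_iff]
    intro a ha l
    have h := congrArg (fun z => MonoidAlgebra.single ((g ^ (l : ℕ))⁻¹) (1 : Res M) * z) ha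
    simp only [Finset.mul_sum, mul_smul_comm, ← mul_assoc, MonoidAlgebra.single_mul_single, one_mul,
      mul_zero] at h
    have h' := congrArg (fun z => fn z t) h
    simp only [fn_sum, fn_smul, fn_zero,
      hval _ (P.mul_mem (P.inv_mem (P.pow_mem hg _)) (P.pow_mem hg _))] at h'
    rw [Finset.sum_eq_single l (fun j _ hne => ?_) (by simp), if_pos (inv_mul_cancel _),
      mul_eq_zero] at h'
    · exact h'.resolve_right ht
    · rw [if_neg fun e => hne ?_, mul_zero]
      have e' : g ^ (j : ℕ) = g ^ (l : ℕ) := (inv_mul_eq_one.1 e).symm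
      exact Fin.ext (pow_injOn_Iio_orderOf (Set.mem_Iio.2 (hq ▸ j.2)) (Set.mem_Iio.2 (hq ▸ l.2)) e')
  rw [linearIndependent_iff_card_le_finrank_span, Fintype.card_fin]
  refine le_trans ?_ (Submodule.finrank_mono (Submodule.span_le.2 ?_ :
    Submodule.span (Res M) (Set.range fun l : Fin q =>
      MonoidAlgebra.single (g ^ (l : ℕ)) (1 : Res M) * β) ≤ _))
  · rw [finrank_span_eq_card hind, Fintype.card_fin]
  rintro _ ⟨j, rfl⟩
  show MonoidAlgebra.single (g ^ (j : ℕ)) (1 : Res M) * β ∈ Submodule.span _ _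
  rw [← one_pow (j : ℕ), ← MonoidAlgebra.single_pow,
    show MonoidAlgebra.single g (1 : Res M) = (MonoidAlgebra.single g (1 : Res M) - 1) + 1 from
      (sub_add_cancel _ _).symm, (Commute.one_right _).add_pow, Finset.sum_mul]
  refine Submodule.sum_mem _ fun l hl => ?_
  have hlt : l < q := (Nat.lt_succ_iff.1 (Finset.mem_range.1 hl)).trans_lt j.2
  simp only [one_pow, mul_one, ← Nat.cast_comm, ← nsmul_eq_mul, smul_mul_assoc]
  exact Submodule.smul_of_tower_mem _ _ (Submodule.subset_span ⟨⟨l, hlt⟩, rfl⟩)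

/-- **The local algebra.** -/
theorem exists_loc (hM : IsPModular p M) (hB : IsPBlock M B) (hD : IsDefectGroup p M B P)
    (hnil : IsNilpotentBlock p M B) (hcyc : IsCyclic P) {q : ℕ} (hq : Nat.card P = q) :
    ∃ L : Loc (Res M) (MonoidAlgebra (Res M) G) q, L.f = red M (blockElem B) := by
  haveI := charP_res hM
  haveI : CharP (MonoidAlgebra (Res M) G) p :=
    charP_of_injective_algebraMap (FaithfulSMul.algebraMap_injective (Res M) _) p
  letI := Fintype.ofFinite C⟨P⟩
  have hP : IsPGroup p P := IsDefectGroup.isPGroup hD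
  obtain ⟨g₀, hg₀⟩ := hcyc.exists_generator
  set g : G := (g₀ : G) with hgdef
  have hg : g ∈ P := g₀.2
  have hgq : orderOf g = q := by
    rw [hgdef, Subgroup.orderOf_coe, orderOf_eq_card_of_forall_mem_zpowers hg₀, hq]
  have hgen : ∀ z ∈ P, ∃ n : ℤ, z = g ^ n := fun z hz => by
    obtain ⟨n, hn⟩ := hg₀ ⟨z, hz⟩
    exact ⟨n, (congrArg Subtype.val hn).symm⟩
  have hab : ∀ a ∈ P, ∀ b ∈ P, a * b = b * a := fun a ha b hb => by
    obtain ⟨n, rfl⟩ := hgen a ha
    obtain ⟨m, rfl⟩ := hgen b hb
    exact (Commute.refl g).zpow_zpow n m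
  have hq0 : 0 < q := hq ▸ Nat.card_pos
  obtain ⟨b, hb⟩ := IsPGroup.iff_card.1 hP
  have hqp : q = p ^ b := hq ▸ hb
  set eb := red M (blockElem B) with heb_def
  set w := socElem p M B
  have hwZ := socElem_mem hM hB
  obtain ⟨c, hcP, hwc⟩ : ∃ c, IsPBlock M c ∧ br P w * bi M C⟨P⟩ c ≠ 0 := by
    by_contra h
    push Not at h
    apply br_socElem_ne_zero hM hB hD
    rw [← mul_one (br P w), ← sum_bi hM (H := C⟨P⟩), Finset.mul_sum]
    exact Finset.sum_eq_zero fun c hc => h c ((mem_blocksFinset hM).1 hc)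
  set β := bi M C⟨P⟩ c with hβ
  have hinvP : ∀ z : MonoidAlgebra (Res M) G, IsCentralFn z → InvOn P z := fun z hz =>
    (invOn_top_iff.2 hz).mono le_top
  have hbrinv : ∀ z : MonoidAlgebra (Res M) G, IsCentralFn z → InvOn C⟨P⟩ (br P z) := fun z hz =>
    invOn_br ((invOn_top_iff.2 hz).mono le_top) fun k hk y hy => by
      rw [← Subgroup.mem_centralizer_iff.1 hk y hy, mul_inv_cancel_right]; exact hy
  have hcomm : ∀ z : MonoidAlgebra (Res M) G, IsCentralFn z → br P z * β = β * br P z := fun z hz =>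
    (hbrinv z hz).comm (suppOn_bi c)
  have hebc : IsCentralFn eb := (isCentralFn_blockElem B).red
  have hebr : br P eb * β = β := by
    rcases mul_bi_eq_or hM (suppOn_br P _) (hbrinv _ hebc)
      (by rw [← br_mul hP (hinvP _ hebc) (hinvP _ hebc), red_blk_idem hM hB]) hcP with h | h
    · exact h
    · exfalso
      apply hwc
      have e := br_mul hP (hinvP _ (mem_zBlock.1 hwZ).1) (hinvP _ hebc)
      rw [(mem_zBlock.1 hwZ).1.comm eb, (mem_zBlock.1 hwZ).2] at e
      rw [e, mul_assoc, h, mul_zero]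
  have hpair : IsBrauerPairOf p M B P c :=
    (isBrauerPairOf_iff_br hM B P c).2 ⟨⟨hP, hcP⟩, hB, hebr⟩
  have hmax := isMaximal_of_isDefectGroup hM hpair hD
  -- one simple module
  obtain ⟨χ₀, -, -, Φ, hΦ⟩ := nilpotent_characters hM hmax hnil
  have hPirr : Nat.card (IrrCharacter P) = Nat.card P := by
    rw [card_irrCharacter]
    refine (Nat.card_congr (Equiv.ofBijective ConjClasses.mk ⟨fun a b h => ?_,
      ConjClasses.mk_surjective⟩)).symm
    obtain ⟨x, hx⟩ := isConj_iff.1 (ConjClasses.mk_eq_mk_iff_isConj.1 h)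
    have hcm : x * a = a * x := Subtype.ext (hab _ x.2 _ a.2)
    rw [← hx, hcm, mul_inv_cancel_right]
  have hdeg1 : ∀ ζ : IrrCharacter P, deg (ζ : P → ℂ) = 1 := fun ζ => by
    have hs := sum_deg_sq_nat (G := P)
    rw [← hPirr, Nat.card_eq_fintype_card, Fintype.card_eq_sum_ones] at hs
    have := (Finset.sum_eq_sum_iff_of_le (f := fun _ : IrrCharacter P => 1)
      (fun ζ _ => Nat.one_le_pow 2 _ (deg_irr_pos ζ))).1 hs.symm ζ (Finset.mem_univ _)
    exact (Nat.pow_eq_one.1 this.symm).resolve_right two_ne_zero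
  have hk : Nat.card B = q := by rw [← Nat.card_congr Φ, hPirr, hq]
  obtain ⟨i, hi, hone, huniq⟩ := exists_single hM hB (f := deg (χ₀ : G → ℂ)) fun χ hχ => by
    have h := hΦ (Φ.symm ⟨χ, hχ⟩) 1 (by simpa using (Fact.out : p.Prime).ne_one)
    rw [Φ.apply_symm_apply, irr_apply_one_eq_deg, irr_apply_one_eq_deg, irr_apply_one_eq_deg,
      hdeg1, Nat.cast_one, one_mul] at h
    exact_mod_cast h
  -- injectivity of the Brauer map
  have hmul : ∀ a b, a ∈ zBlock M B → b ∈ zBlock M B →
      br P (a * b) * β = (br P a * β) * (br P b * β) := fun a b ha hb => by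
    rw [br_mul hP (hinvP _ (mem_zBlock.1 ha).1) (hinvP _ (mem_zBlock.1 hb).1),
      mul_assoc (br P a) β, ← mul_assoc β, ← hcomm b (mem_zBlock.1 hb).1, mul_assoc (br P b),
      bi_mul_self hM hcP, mul_assoc]
  have hinj : ∀ z ∈ zBlock M B, br P z * β = 0 → z = 0 := by
    by_contra hne
    push Not at hne
    obtain ⟨z, hzZ, hz0, hzne⟩ := hne
    let S : Set (MonoidAlgebra (Res M) G) := {y | y ∈ zBlock M B ∧ br P y * β = 0 ∧ y ≠ 0}
    let N : MonoidAlgebra (Res M) G → ℕ := fun y =>
      finrank (Res M) ((zBlock M B).map (LinearMap.mulLeft (Res M) y))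
    obtain ⟨m, ⟨y, hy, rfl⟩, hmin⟩ :=
      Nat.lt_wfRel.wf.has_min (N '' S) ⟨N z, z, ⟨hzZ, hz0, hzne⟩, rfl⟩
    obtain ⟨hyZ, hy0, hyne⟩ := hy
    have hann : ∀ n ∈ zBlock M B, IsNilpotent n → y * n = 0 := by
      intro n hn hnil
      by_contra hyn
      have hmemS : y * n ∈ S := ⟨mul_mem_zBlock hyZ hn,
        by rw [hmul y n hyZ hn, hy0, zero_mul], hyn⟩
      refine hmin (N (y * n)) ⟨y * n, hmemS, rfl⟩ ?_
      refine Submodule.finrank_lt_finrank_of_lt (lt_of_le_of_ne ?_ fun heq => ?_)
      · rintro _ ⟨a, ha, rfl⟩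
        exact ⟨n * a, mul_mem_zBlock hn ha, (mul_assoc y n a).symm⟩
      · have hyy : y ∈ (zBlock M B).map (LinearMap.mulLeft (Res M) y) :=
          ⟨_, blk_mem_zBlock hM hB, by
            show y * red M (blockElem B) = y
            rw [(mem_zBlock.1 hyZ).1.comm, (mem_zBlock.1 hyZ).2]⟩
        rw [← heq] at hyy
        obtain ⟨a, ha, hya⟩ := hyy
        change y * n * a = y at hya
        obtain ⟨j, hj⟩ := Commute.isNilpotent_mul_right ((mem_zBlock.1 hn).1.comm a) hnil
        have : ∀ j : ℕ, y * (n * a) ^ j = y := fun j => by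
          induction j with
          | zero => rw [pow_zero, mul_one]
          | succ j ih => rw [pow_succ', ← mul_assoc y, ← mul_assoc y n a, hya, ih]
        exact hyne (by rw [← this j, hj, mul_zero])
    have hwann : ∀ n ∈ zBlock M B, IsNilpotent n → w * n = 0 :=
      fun n hn hnil => socElem_mul_nilpotent hM hn hnil
    set a := fn (w * (sys M G).eps i) 1
    set b' := fn (y * (sys M G).eps i) 1
    have ha : a ≠ 0 := fun h0 => hwc (by
      rw [show w = 0 from socle_line hM hB hi huniq hone hwZ hwann h0, br_zero, zero_mul])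
    have hs : a • y - b' • w = 0 := by
      refine socle_line hM hB hi huniq hone
        ((zBlock M B).sub_mem ((zBlock M B).smul_mem _ hyZ) ((zBlock M B).smul_mem _ hwZ))
        (fun n hn hnil => by
          rw [sub_mul, smul_mul_assoc, smul_mul_assoc, hann n hn hnil, hwann n hn hnil, smul_zero,
            smul_zero, sub_zero]) ?_
      rw [sub_mul, smul_mul_assoc, smul_mul_assoc, fn_sub, fn_smul, fn_smul]
      ring
    have hyw : y = (a⁻¹ * b') • w := by
      rw [sub_eq_zero] at hs
      rw [← smul_smul, ← hs, smul_smul, inv_mul_cancel₀ ha, one_smul]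
    rw [hyw, br_smul' P, smul_mul_assoc, smul_eq_zero] at hy0
    rcases hy0 with h | h
    · exact hyne (by rw [hyw, h, zero_smul])
    · exact hwc h
  -- the local centre
  have hnorm : IsNormalSubpair p M P c P c :=
    (isNormalSubpair_iff hM _ _ _ _).2 ⟨⟨hP, hcP⟩, ⟨hP, hcP⟩, le_rfl, Subgroup.le_normalizer,
      fun y hy => invOn_iff.1 (invOn_bi c) y (Subgroup.mem_centralizer_iff.2 fun z hz => hab z hz y hy),
      by rw [br_bi_centralizer, bi_mul_self hM hcP]⟩
  obtain ⟨T, hT⟩ : ∃ T : Subgroup G, IsPairStab P c T := ⟨_, (isPairStab_iff hM hcP).2 rfl⟩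
  have hl := blockRank_local_eq_one hM hD hpair hab hT le_rfl hnorm fun t _ ht => ht
  have hdef := (defect_of_normalSubpair hM hD hpair hab le_rfl hnorm).1
  have hck : Nat.card c ≤ Nat.card P := by
    obtain ⟨ψ, d, -, hd, hsum⟩ := exists_of_blockRank_one hM hcP hl
    have h1 := IsDefectGroup.card hM hcP hdef
    rw [Nat.card_congr (Subgroup.subgroupOfEquivOfLe
      (le_centralizer_sub hab (le_refl P))).toEquiv] at h1
    rw [h1, ← hsum, sum_finsum_eq, Nat.card_eq_fintype_card, Fintype.card_subtype,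
      Finset.card_eq_sum_ones]
    refine Finset.sum_le_sum fun χ hχ => Nat.one_le_pow _ _ (Nat.pos_of_ne_zero fun h => ?_)
    refine IsIrrCharacter.apply_one_ne_zero χ.2 ?_
    rw [hd χ (Finset.mem_filter.1 hχ).2 1 (by
      show ¬ p ∣ orderOf (1 : C⟨P⟩); rw [orderOf_one]; exact hM.1.not_dvd_one), h, Nat.cast_zero,
      zero_mul]
  let φ : MonoidAlgebra (Res M) G →ₗ[Res M] MonoidAlgebra (Res M) G :=
    { toFun := fun z => br P z * β
      map_add' := fun a b => by rw [br_add', add_mul]
      map_smul' := fun t a => by rw [br_smul', smul_mul_assoc, RingHom.id_apply] }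
  have hφ : ∀ z ∈ zBlock M B, φ z ∈ localCentre M P c := fun z hz => by
    have hzc := (mem_zBlock.1 hz).1
    refine ⟨(suppOn_br P z).mul (suppOn_bi c), (hbrinv z hzc).mul (invOn_bi c), ?_⟩
    show β * (br P z * β) = br P z * β
    rw [← mul_assoc, ← hcomm z hzc, mul_assoc, bi_mul_self hM hcP]
  have hsurj : Function.Surjective (φ.restrict hφ) := by
    have hi' : Function.Injective (φ.restrict hφ) := by
      rw [injective_iff_map_eq_zero]
      intro z hz
      exact Subtype.ext (hinj z z.2 (congrArg Subtype.val hz))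
    refine (LinearMap.injective_iff_surjective_of_finrank_eq_finrank ?_).1 hi'
    refine le_antisymm (LinearMap.finrank_le_finrank_of_injective hi') ?_
    rw [finrank_zBlock hM hB, hk, ← hq]
    exact (finrank_localCentre_le (P := P) hM hcP).trans hck
  -- the generator of the radical
  have hgC : g ∈ C⟨P⟩ := le_centralizer_sub hab (le_refl P) hg
  set s : MonoidAlgebra (Res M) G := MonoidAlgebra.single g 1
  have hsupp : SuppOn C⟨P⟩ (s - 1) := fun x hx => by
    rw [fn_sub, MonoidAlgebra.one_def, fn_single, fn_single, if_neg fun h : g = x => hx (h ▸ hgC),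
      if_neg fun h : (1 : G) = x => hx (h ▸ one_mem _), sub_zero]
  have hinvg : InvOn C⟨P⟩ (s - 1) := fun k hk x => by
    have hkg : k * g * k⁻¹ = g := by
      rw [← Subgroup.mem_centralizer_iff.1 hk g hg, mul_inv_cancel_right]
    rw [fn_sub, fn_sub, MonoidAlgebra.one_def, fn_single, fn_single, fn_single, fn_single]
    have e1 : ∀ y : G, k * y * k⁻¹ = y → ((y = k * x * k⁻¹) ↔ y = x) := fun y hy =>
      ⟨fun h => (mul_left_cancel (mul_right_cancel (hy.trans h))), fun h => by rw [← h, hy]⟩
    simp only [e1 g hkg, e1 1 (by group)]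
  obtain ⟨⟨u, huZ⟩, hu⟩ := hsurj ⟨(s - 1) * β, hsupp.mul (suppOn_bi c), hinvg.mul (invOn_bi c), by
    rw [← mul_assoc, ← hinvg.comm (suppOn_bi c), mul_assoc, bi_mul_self hM hcP]⟩
  have hu' : br P u * β = (s - 1) * β := congrArg Subtype.val hu
  have huc := (mem_zBlock.1 huZ).1
  have hpowZ : ∀ l : ℕ, u ^ l * eb ∈ zBlock M B ∧
      br P (u ^ l * eb) * β = (s - 1) ^ l * β := fun l => by
    induction l with
    | zero =>
      rw [pow_zero, one_mul, pow_zero, one_mul]
      exact ⟨blk_mem_zBlock hM hB, hebr⟩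
    | succ l ih =>
      rw [pow_succ', mul_assoc]
      refine ⟨mul_mem_zBlock huZ ih.1, ?_⟩
      rw [hmul u _ huZ ih.1, hu', ih.2, mul_assoc, ← mul_assoc β ((s - 1) ^ l),
        show β * (s - 1) ^ l = (s - 1) ^ l * β from
          ((show Commute β (s - 1) from (hinvg.comm (suppOn_bi c)).symm).pow_right l).eq,
        mul_assoc ((s - 1) ^ l), bi_mul_self hM hcP, ← mul_assoc, ← pow_succ']
  have hindf : LinearIndependent (Res M) fun l : Fin q => u ^ (l : ℕ) * eb := by
    refine LinearIndependent.of_comp φ ?_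
    have : (φ ∘ fun l : Fin q => u ^ (l : ℕ) * eb) = fun l : Fin q => (s - 1) ^ (l : ℕ) * β :=
      funext fun l => (hpowZ l).2
    rw [this]
    exact indep_shift_bi hM hP hcP hg hgq
  have hspan : Submodule.span (Res M) (Set.range fun l : Fin q => u ^ (l : ℕ) * eb) = zBlock M B := by
    refine Submodule.eq_of_le_of_finrank_le (Submodule.span_le.2 ?_) ?_
    · rintro _ ⟨l, rfl⟩
      exact (hpowZ l).1
    · rw [finrank_zBlock hM hB, finrank_span_eq_card hindf, Fintype.card_fin, hk]
  set e := (sys M G).eps i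
  have heb : eb * e = e := hi
  have hueb : eb * u = u := (mem_zBlock.1 huZ).2
  -- the columns
  obtain ⟨n, a, x, hx⟩ := Submodule.mem_span_set'.1 (blk_mem_span_eps hM hB huniq)
  choose A₁ A₂ hA using fun l => (x l).2
  refine ⟨{
    n := n
    f := eb
    u := u
    e := e
    U := fun l => a l • (eb * A₁ l * e)
    V := fun l => e * A₂ l * eb
    f_idem := red_blk_idem hM hB
    f_comm := fun y => (hebc.comm y)
    u_comm := fun y => huc.comm y
    fu := hueb
    u_pow := ?_
    e_idem := (sys M G).eps_idem i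
    fe := heb
    Ue := fun l => by rw [smul_mul_assoc, mul_assoc, (sys M G).eps_idem i]
    eV := fun l => by rw [← mul_assoc, ← mul_assoc, (sys M G).eps_idem i]
    sum_UV := ?_
    corner := ?_
    indep := ?_ }, rfl⟩
  · obtain ⟨r, hr⟩ := Nat.exists_eq_succ_of_ne_zero hq0.ne'
    have hz : u ^ q * eb = u ^ q := by
      rw [hr, pow_succ, mul_assoc, ← hebc.comm u, hueb]
    rw [← hz]
    refine hinj _ (hpowZ q).1 ?_
    rw [(hpowZ q).2, hqp]
    have : (s - 1) ^ p ^ b = 0 := by
      rw [sub_pow_char_pow_of_commute p b (Commute.one_right s), one_pow, MonoidAlgebra.single_pow,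
        one_pow, ← hqp, ← hgq, pow_orderOf_eq_one, ← MonoidAlgebra.one_def, sub_self]
    rw [this, zero_mul]
  · calc ∑ l, a l • (eb * A₁ l * e) * (e * A₂ l * eb)
        = eb * (∑ l, a l • (x l : MonoidAlgebra (Res M) G)) * eb := by
          rw [Finset.mul_sum, Finset.sum_mul]
          refine Finset.sum_congr rfl fun l _ => ?_
          rw [hA l, smul_mul_assoc, mul_smul_comm, smul_mul_assoc]
          congr 1
          simp only [← mul_assoc]
          rw [mul_assoc (eb * A₁ l) e e, (sys M G).eps_idem i]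
      _ = eb := by rw [hx, red_blk_idem hM hB, red_blk_idem hM hB]
  · intro r
    obtain ⟨z, hz, hze⟩ := exists_central_of_corner hM hB hi huniq hone r
    rw [← hspan] at hz
    obtain ⟨a', ha'⟩ := (Submodule.mem_span_range_iff_exists_fun _).1 hz
    rw [mul_assoc, hze, ← ha', Finset.sum_mul]
    refine Submodule.sum_mem _ fun l _ => ?_
    rw [smul_mul_assoc, mul_assoc, heb]
    exact Submodule.smul_mem _ _ (Submodule.subset_span ⟨l, rfl⟩)
  · rw [Fintype.linearIndependent_iff]
    intro a' ha'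
    refine Fintype.linearIndependent_iff.1 hindf a' (eq_zero_of_mul_eps_single hM hB huniq ?_ ?_)
    · exact Submodule.sum_mem _ fun l _ => Submodule.smul_mem _ _ (hpowZ l).1
    · rw [Finset.sum_mul, ← ha']
      exact Finset.sum_congr rfl fun l _ => by rw [smul_mul_assoc, mul_assoc, heb]

end Cfsg.Lib.Blocks.CyclicDefect
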