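import Mathlib

/-!
# Extending endomorphisms of the kernel of a nilpotent operator

An endomorphism of the kernel of a nilpotent operator that preserves the filtration by the images
of the powers extends to an endomorphism commuting with the operator.
-/

set_option autoImplicit false

namespace Cfsg.Lib.Blocks.CyclicDefect

variable {k : Type*} [Field k] {N : Type*} [AddCommGroup N] [Module k N]

/-- One layer: a map on the kernel at height `j` killing the greater heights. -/
theorem exists_layer (U : Module.End k N) (j : ℕ) (ε : Module.End k N)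
    (hker : ∀ v, U v = 0 → v ∈ LinearMap.range (U ^ j) → U (ε v) = 0 ∧ ε v ∈ LinearMap.range (U ^ j))
    (hzero : ∀ v, U v = 0 → v ∈ LinearMap.range (U ^ (j + 1)) → ε v = 0) :
    ∃ g : Module.End k N, (∀ x, g ((U ^ (j + 1)) x) = 0) ∧ (∀ v, (U ^ (j + 1)) (g v) = 0) ∧
      ∀ v, U v = 0 → v ∈ LinearMap.range (U ^ j) → (U ^ j) (g v) = ε v := by
  obtain ⟨s, hs⟩ := LinearMap.exists_rightInverse_of_surjective (U ^ j).rangeRestrict
    (LinearMap.range_rangeRestrict _)
  obtain ⟨σ, hσ⟩ := LinearMap.exists_extend s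
  have hσ' : ∀ v ∈ LinearMap.range (U ^ j), (U ^ j) (σ v) = v := fun v hv => by
    have h1 : σ v = s ⟨v, hv⟩ := LinearMap.congr_fun hσ ⟨v, hv⟩
    rw [h1]
    exact congrArg Subtype.val (LinearMap.congr_fun hs ⟨v, hv⟩)
  let K : Submodule k N := LinearMap.ker U ⊓ LinearMap.range (U ^ j)
  let X : Submodule k N := LinearMap.range (U ^ (j + 1))
  let π : ↥K →ₗ[k] N ⧸ X := X.mkQ.comp K.subtype
  let φ : ↥K →ₗ[k] N := (σ.comp ε).comp K.subtype
  have hφ : LinearMap.ker π ≤ LinearMap.ker φ := fun v hv => by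
    have hX : (v : N) ∈ X := (Submodule.Quotient.mk_eq_zero X).1 hv
    show σ (ε v) = 0
    rw [hzero v v.2.1 hX, map_zero]
  obtain ⟨g₀, hg₀⟩ := LinearMap.exists_extend
    (((LinearMap.ker π).liftQ φ hφ).comp π.quotKerEquivRange.symm.toLinearMap)
  have hg : ∀ v : K, g₀ (π v) = φ v := fun v => by
    have h := LinearMap.congr_fun hg₀ ⟨π v, v, rfl⟩
    simp only [LinearMap.comp_apply, Submodule.subtype_apply, LinearEquiv.coe_coe] at h
    refine h.trans ?_
    have he : π.quotKerEquivRange.symm ⟨π v, LinearMap.mem_range_self π v⟩ =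
        Submodule.Quotient.mk v := (LinearEquiv.symm_apply_eq _).2 rfl
    exact (congrArg _ he).trans (Submodule.liftQ_apply _ _ _)
  obtain ⟨r, hr⟩ := LinearMap.exists_extend
    (LinearMap.id : ↥(LinearMap.ker (U ^ (j + 1))) →ₗ[k] _)
  let g : Module.End k N := (LinearMap.ker (U ^ (j + 1))).subtype.comp (r.comp (g₀.comp X.mkQ))
  have hgr : ∀ v, g v = (r (g₀ (X.mkQ v)) : N) := fun _ => rfl
  refine ⟨g, fun x => ?_, fun v => (r _).2, fun v hv hv' => ?_⟩
  · rw [hgr, show X.mkQ ((U ^ (j + 1)) x) = 0 from (Submodule.Quotient.mk_eq_zero X).2 ⟨x, rfl⟩,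
      map_zero, map_zero]
    rfl
  · obtain ⟨h1, h2⟩ := hker v hv hv'
    rw [hgr, show X.mkQ v = π ⟨v, hv, hv'⟩ from rfl, hg]
    have hmem : σ (ε v) ∈ LinearMap.ker (U ^ (j + 1)) := by
      rw [LinearMap.mem_ker, pow_succ', Module.End.mul_apply, hσ' _ h2, h1]
    show (U ^ j) (r (σ (ε v)) : N) = ε v
    rw [show r (σ (ε v)) = ⟨σ (ε v), hmem⟩ from LinearMap.congr_fun hr ⟨_, hmem⟩, hσ' _ h2]

/-- The commuting map of a layer. -/
theorem exists_layer_commute (U : Module.End k N) (j : ℕ) (ε : Module.End k N)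
    (hker : ∀ v, U v = 0 → v ∈ LinearMap.range (U ^ j) → U (ε v) = 0 ∧ ε v ∈ LinearMap.range (U ^ j))
    (hzero : ∀ v, U v = 0 → v ∈ LinearMap.range (U ^ (j + 1)) → ε v = 0) :
    ∃ g : Module.End k N,
      Commute U (∑ l ∈ Finset.range (j + 1), U ^ l * g * U ^ (j - l)) ∧
      ∀ v, U v = 0 → v ∈ LinearMap.range (U ^ j) →
        (∑ l ∈ Finset.range (j + 1), U ^ l * g * U ^ (j - l)) v = ε v := by
  obtain ⟨g, h1, h2, h3⟩ := exists_layer U j ε hker hzero
  have z1 : g * U ^ (j + 1) = 0 := LinearMap.ext h1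
  have z2 : U ^ (j + 1) * g = 0 := LinearMap.ext h2
  refine ⟨g, ?_, fun v hv hv' => ?_⟩
  · show U * _ = _ * U
    rw [Finset.mul_sum, Finset.sum_mul, Finset.sum_range_succ, Finset.sum_range_succ']
    rw [show U * (U ^ j * g * U ^ (j - j)) = 0 by
        rw [Nat.sub_self, pow_zero, mul_one, ← mul_assoc, ← pow_succ', z2],
      show U ^ 0 * g * U ^ (j - 0) * U = 0 by
        rw [pow_zero, one_mul, Nat.sub_zero, mul_assoc, ← pow_succ, z1]]
    congr 1
    refine Finset.sum_congr rfl fun l hl => ?_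
    have hlj := Finset.mem_range.1 hl
    rw [show j - l = j - (l + 1) + 1 by omega, pow_succ U (j - (l + 1)), pow_succ' U l]
    simp only [mul_assoc]
  · rw [LinearMap.sum_apply, Finset.sum_range_succ, Finset.sum_eq_zero fun l hl => ?_, zero_add]
    · rw [Nat.sub_self, pow_zero, mul_one, Module.End.mul_apply, h3 v hv hv']
    · have hlj := Finset.mem_range.1 hl
      obtain ⟨c, hc⟩ : ∃ c, j - l = c + 1 := ⟨j - l - 1, by omega⟩
      rw [hc, Module.End.mul_apply, pow_succ, Module.End.mul_apply, Module.End.mul_apply, hv,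
        map_zero, map_zero, map_zero]

/-- **Extension from the kernel.** -/
theorem exists_commute_extend (U : Module.End k N) {q : ℕ} (hq : U ^ q = 0) (ε : Module.End k N)
    (hε : ∀ j v, U v = 0 → v ∈ LinearMap.range (U ^ j) →
      U (ε v) = 0 ∧ ε v ∈ LinearMap.range (U ^ j)) :
    ∃ ψ : Module.End k N, Commute U ψ ∧ ∀ v, U v = 0 → ψ v = ε v := by
  suffices h : ∀ i ≤ q, ∃ ψ : Module.End k N, Commute U ψ ∧
      ∀ v, U v = 0 → v ∈ LinearMap.range (U ^ (q - i)) → ψ v = ε v by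
    obtain ⟨ψ, h1, h2⟩ := h q le_rfl
    exact ⟨ψ, h1, fun v hv => h2 v hv (by rw [Nat.sub_self, pow_zero]; exact ⟨v, rfl⟩)⟩
  intro i
  induction i with
  | zero =>
    exact fun _ => ⟨0, Commute.zero_right U, fun v _ hv => by
      obtain ⟨x, rfl⟩ := hv
      rw [Nat.sub_zero, hq]
      simp⟩
  | succ i ih =>
    intro hi
    obtain ⟨ψ, hc, hψ⟩ := ih (by omega)
    set j := q - (i + 1)
    have hj : q - i = j + 1 := by omega
    rw [hj] at hψ
    have hker : ∀ v, U v = 0 → v ∈ LinearMap.range (U ^ j) →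
        U ((ε - ψ) v) = 0 ∧ (ε - ψ) v ∈ LinearMap.range (U ^ j) := by
      intro v hv hv'
      obtain ⟨e1, e2⟩ := hε j v hv hv'
      obtain ⟨x, rfl⟩ := hv'
      have hUψ : U (ψ ((U ^ j) x)) = 0 := by
        rw [← Module.End.mul_apply, hc.eq, Module.End.mul_apply, hv, map_zero]
      refine ⟨by rw [LinearMap.sub_apply, map_sub, e1, hUψ, sub_zero], ?_⟩
      rw [LinearMap.sub_apply]
      refine Submodule.sub_mem _ e2 ⟨ψ x, ?_⟩
      rw [← Module.End.mul_apply, (hc.pow_left j).eq, Module.End.mul_apply]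
    obtain ⟨g, hg, hg'⟩ := exists_layer_commute U j (ε - ψ) hker
      (fun v hv hv' => by rw [LinearMap.sub_apply, hψ v hv hv', sub_self])
    refine ⟨_, hc.add_right hg, fun v hv hv' => ?_⟩
    rw [LinearMap.add_apply, hg' v hv hv', LinearMap.sub_apply, add_sub_cancel]

/-- A map fixing the kernel at the top height, in the form of a trace. -/
theorem exists_top (U : Module.End k N) {q : ℕ} (hq : U ^ (q + 1) = 0) :
    ∃ g : Module.End k N, Commute U (∑ l ∈ Finset.range (q + 1), U ^ l * g * U ^ (q - l)) ∧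
      ∀ v, v ∈ LinearMap.range (U ^ q) →
        (∑ l ∈ Finset.range (q + 1), U ^ l * g * U ^ (q - l)) v = v := by
  obtain ⟨g, h1, h2⟩ := exists_layer_commute U q 1 (fun v h h' => ⟨h, h'⟩) fun v _ hv => by
    obtain ⟨x, rfl⟩ := hv
    rw [hq, LinearMap.zero_apply, map_zero]
  refine ⟨g, h1, fun v hv => h2 v ?_ hv⟩
  obtain ⟨x, rfl⟩ := hv
  rw [← Module.End.mul_apply, ← pow_succ', hq, LinearMap.zero_apply]

end Cfsg.Lib.Blocks.CyclicDefect
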