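import Mathlib
import Cfsg.Agent.Blocks.CyclicDefect.Loc
import Cfsg.Agent.Blocks.CyclicDefect.Nilp

/-!
# Representations cut by a family of local idempotents

For a representation on which the sum of the idempotents is the identity: endomorphisms of the
kernel of the radical generator preserving the heights extend, submodules of the kernel split,
there is a projective endomorphism fixing the top height, and projective endomorphisms send the
kernel into the top height.
-/

set_option autoImplicit false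
set_option linter.unusedSectionVars false

namespace Cfsg.Lib.Blocks.CyclicDefect

namespace Loc

section Alg

variable {k A : Type*} [Field k] [Ring A] [Algebra k A] {q : ℕ} (L : Loc k A q)
  {W : Type*} [AddCommGroup W] [Module k W] (ρ : A →ₐ[k] Module.End k W)

/-- The generator on the corner. -/
noncomputable def cornerU : Module.End k (LinearMap.range (ρ L.e)) :=
  (ρ L.u).restrict fun v hv => by
    obtain ⟨w, rfl⟩ := hv
    refine ⟨ρ L.u w, ?_⟩
    simp only [← Module.End.mul_apply, ← map_mul, L.u_comm L.e]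

lemma cornerU_pow_coe (j : ℕ) (v : LinearMap.range (ρ L.e)) :
    (((L.cornerU ρ) ^ j) v : W) = ρ (L.u ^ j) v := by
  induction j generalizing v with
  | zero => simp
  | succ j ih =>
    rw [pow_succ, pow_succ, Module.End.mul_apply, ih, map_mul, Module.End.mul_apply]
    rfl

lemma cornerU_pow : (L.cornerU ρ) ^ q = 0 := LinearMap.ext fun v => Subtype.ext <| by
  rw [L.cornerU_pow_coe, L.u_pow, map_zero]; rfl

lemma e_fix {v : W} (hv : v ∈ LinearMap.range (ρ L.e)) : ρ L.e v = v := by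
  obtain ⟨w, rfl⟩ := hv
  rw [← Module.End.mul_apply, ← map_mul, L.e_idem]

/-- The projection to the corner. -/
noncomputable def cornerP : W →ₗ[k] LinearMap.range (ρ L.e) :=
  (ρ L.e).codRestrict _ fun v => ⟨v, rfl⟩

lemma cornerP_coe (v : W) : (L.cornerP ρ v : W) = ρ L.e v := rfl

lemma cornerP_u (w : W) : L.cornerP ρ (ρ L.u w) = L.cornerU ρ (L.cornerP ρ w) := by
  refine Subtype.ext ?_
  show ρ L.e (ρ L.u w) = ρ L.u (ρ L.e w)
  simp only [← Module.End.mul_apply, ← map_mul, L.u_comm]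

lemma comm_apply (a : A) (w : W) : ρ L.u (ρ a w) = ρ a (ρ L.u w) := by
  simp only [← Module.End.mul_apply, ← map_mul, L.u_comm]

/-- Endomorphisms of the kernel extend. -/
theorem exists_extend (ε : Module.End k W) (hc : ∀ a v, ρ L.u v = 0 → ε (ρ a v) = ρ a (ε v))
    (hh : ∀ j v, ρ L.u v = 0 → v ∈ LinearMap.range (ρ (L.u ^ j)) →
      ρ L.u (ε v) = 0 ∧ ε v ∈ LinearMap.range (ρ (L.u ^ j))) :
    ∃ Ψ : Module.End k W, (∀ a v, Ψ (ρ a v) = ρ a (Ψ v)) ∧
      ∀ v, ρ L.u v = 0 → Ψ v = ρ L.f (ε v) := by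
  set N := LinearMap.range (ρ L.e)
  let εN : Module.End k N := (L.cornerP ρ).comp (ε.comp N.subtype)
  obtain ⟨ψN, hcomm, hψN⟩ := exists_commute_extend (L.cornerU ρ) (L.cornerU_pow ρ) εN
    fun j v hv hv' => by
      have hv0 : ρ L.u (v : W) = 0 := congrArg Subtype.val hv
      obtain ⟨x, hx⟩ := hv'
      obtain ⟨h1, ⟨y, hy⟩⟩ := hh j v hv0
        ⟨x, by rw [← hx, L.cornerU_pow_coe]⟩
      refine ⟨Subtype.ext ?_, ⟨L.cornerP ρ y, Subtype.ext ?_⟩⟩
      · show ρ L.u (ρ L.e (ε (v : W))) = 0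
        rw [L.comm_apply, h1, map_zero]
      · rw [L.cornerU_pow_coe]
        show ρ (L.u ^ j) (ρ L.e y) = ρ L.e (ε (v : W))
        rw [← hy]
        simp only [← Module.End.mul_apply, ← map_mul, L.u_comm_pow]
  let ψ : Module.End k W := N.subtype.comp (ψN.comp (L.cornerP ρ))
  have hu : ∀ w ∈ (⊤ : Submodule k W), ψ (ρ L.u w) = ρ L.u (ψ w) := fun w _ => by
    show (ψN (L.cornerP ρ (ρ L.u w)) : W) = ρ L.u (ψN (L.cornerP ρ w) : W)
    rw [L.cornerP_u, ← Module.End.mul_apply, ← hcomm.eq]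
    rfl
  refine ⟨L.ext ρ ρ ψ, fun a v => ext_comm (fun _ _ _ => Submodule.mem_top) hu a (Submodule.mem_top),
    fun v hv => ?_⟩
  rw [ext_apply, ← L.sum_UV, map_sum, LinearMap.sum_apply]
  refine Finset.sum_congr rfl fun i _ => ?_
  have hVv : ρ L.u (ρ (L.V i) v) = 0 := by rw [L.comm_apply, hv, map_zero]
  have hfix : L.cornerP ρ (ρ (L.V i) v) =
      ⟨ρ (L.V i) v, LinearMap.mem_range.2 ⟨ρ (L.V i) v, by
        rw [← Module.End.mul_apply, ← map_mul, L.eV]⟩⟩ :=
    Subtype.ext (by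
      show ρ L.e (ρ (L.V i) v) = ρ (L.V i) v
      rw [← Module.End.mul_apply, ← map_mul, L.eV])
  show ρ (L.U i) (ψN (L.cornerP ρ (ρ (L.V i) v)) : W) = _
  rw [hfix, hψN _ (Subtype.ext (show ρ L.u _ = 0 from hVv))]
  show ρ (L.U i) (ρ L.e (ε (ρ (L.V i) v))) = _
  rw [hc _ _ hv]
  simp only [← Module.End.mul_apply, ← map_mul, ← mul_assoc, L.Ue]

/-- Submodules of the kernel split. -/
theorem exists_proj (X : Submodule k W) (hX : ∀ a, ∀ x ∈ X, ρ a x ∈ X)
    (hX0 : X ≤ LinearMap.ker (ρ L.u)) :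
    ∃ Pj : Module.End k W, (∀ a v, ρ L.u v = 0 → Pj (ρ a v) = ρ a (Pj v)) ∧ (∀ v, Pj v ∈ X) ∧
      ∀ x ∈ X, Pj x = ρ L.f x := by
  obtain ⟨p, hp⟩ := LinearMap.exists_extend (LinearMap.id : X →ₗ[k] X)
  let ψ : Module.End k W := X.subtype.comp (p.comp (ρ L.e))
  have hψ : ∀ v, ψ v ∈ X := fun v => (p (ρ L.e v)).2
  have hu : ∀ w ∈ LinearMap.ker (ρ L.u), ψ (ρ L.u w) = ρ L.u (ψ w) := fun w hw => by
    rw [LinearMap.mem_ker.1 hw, map_zero, LinearMap.mem_ker.1 (hX0 (hψ w))]
  have hK : ∀ a, ∀ w ∈ LinearMap.ker (ρ L.u), ρ a w ∈ LinearMap.ker (ρ L.u) := fun a w hw => by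
    rw [LinearMap.mem_ker, L.comm_apply, LinearMap.mem_ker.1 hw, map_zero]
  refine ⟨L.ext ρ ρ ψ, fun a v hv => ext_comm hK hu a (LinearMap.mem_ker.2 hv),
    fun v => ?_, fun x hx => ?_⟩
  · rw [ext_apply]
    exact X.sum_mem fun i _ => hX _ _ (hψ _)
  · rw [ext_apply, ← L.sum_UV, map_sum, LinearMap.sum_apply]
    refine Finset.sum_congr rfl fun i _ => ?_
    have h1 : ρ L.e (ρ (L.V i) x) = ρ (L.V i) x := by rw [← Module.End.mul_apply, ← map_mul, L.eV]
    show ρ (L.U i) (p (ρ L.e (ρ (L.V i) x)) : W) = _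
    rw [h1, show p (ρ (L.V i) x) = ⟨ρ (L.V i) x, hX _ _ hx⟩ from
      LinearMap.congr_fun hp ⟨_, hX _ _ hx⟩, ← Module.End.mul_apply, ← map_mul]

end Alg

section Group

open MonoidAlgebra

variable {k : Type*} [Field k] {K : Type*} [Group K] [Fintype K] {r : ℕ}
  (L : Loc k (MonoidAlgebra k K) (r + 1))
  {W : Type*} [AddCommGroup W] [Module k W] [FiniteDimensional k W]
  (ρ : MonoidAlgebra k K →ₐ[k] Module.End k W)

/-- The trace from the trivial subgroup. -/
noncomputable def tr1 (ω : Module.End k W) : Module.End k W :=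
  ∑ x : K, ρ (single x 1) * ω * ρ (single x⁻¹ 1)

lemma tr1_apply (ω : Module.End k W) (v : W) :
    tr1 ρ ω v = ∑ x : K, ρ (single x 1) (ω (ρ (single x⁻¹ 1) v)) := by
  simp [tr1]

lemma eq_sum_coeff (a : MonoidAlgebra k K) : a = ∑ x : K, single x (a.coeff x) :=
  (MonoidAlgebra.sum_single a).symm.trans (Finsupp.sum_fintype _ _ fun _ => by simp)

lemma tr1_smulRight {Φ : W →ₗ[k] MonoidAlgebra k K} (hΦ : ∀ a v, Φ (ρ a v) = a * Φ v) (m : W)
    (v : W) :
    tr1 ρ (((Finsupp.lapply (1 : K)).comp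
      ((MonoidAlgebra.coeffLinearEquiv k).toLinearMap.comp Φ)).smulRight m) v = ρ (Φ v) m := by
  rw [tr1_apply, eq_sum_coeff (Φ v), map_sum, LinearMap.sum_apply]
  refine Finset.sum_congr rfl fun x _ => ?_
  simp only [LinearMap.smulRight_apply, LinearMap.comp_apply, map_smul, Finsupp.lapply_apply,
    LinearEquiv.coe_coe, hΦ]
  rw [show (single x ((Φ v).coeff x) : MonoidAlgebra k K) = (Φ v).coeff x • single x 1 by
    rw [smul_single, smul_eq_mul, mul_one], map_smul, LinearMap.smul_apply]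
  congr 1
  show (single x⁻¹ (1 : k) * Φ v).coeff 1 = _
  rw [MonoidAlgebra.single_mul_apply]
  simp

/-- An element killed by the generator is at the top height. -/
theorem exists_top_of_killed {a : MonoidAlgebra k K} (hf : L.f * a = a) (hu : L.u * a = 0) :
    ∃ a', a = L.u ^ r * a' := by
  have haf : a * L.f = a := by rw [← L.f_comm, hf]
  have hexp : a = ∑ i, ∑ j, L.U i * (L.V i * a * L.U j) * L.V j := by
    conv_lhs => rw [← hf, ← haf, ← L.sum_UV]
    simp only [Finset.mul_sum, Finset.sum_mul, mul_assoc]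
    rw [Finset.sum_comm]
  have hz : ∀ i j, ∃ c : k, L.V i * a * L.U j = c • (L.u ^ r * L.e) := by
    intro i j
    obtain ⟨c, hc⟩ := L.VU_eq a i j
    have h0 : L.u * (L.V i * a * L.U j) = 0 := by
      rw [← mul_assoc, ← mul_assoc, L.u_comm, mul_assoc (L.V i), hu, mul_zero, zero_mul]
    rw [hc, Finset.mul_sum, Fin.sum_univ_castSucc] at h0
    simp only [mul_smul_comm, ← mul_assoc, ← pow_succ', Fin.val_last] at h0
    rw [show L.u ^ (r + 1) = 0 from L.u_pow, zero_mul, smul_zero, add_zero] at h0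
    have hli := L.indep.comp (fun l : Fin r => (⟨(l : ℕ) + 1, Nat.succ_lt_succ l.2⟩ : Fin (r + 1)))
      fun a b h => Fin.ext (Nat.succ.inj (congrArg Fin.val h))
    have hc0 := Fintype.linearIndependent_iff.1 hli (fun l => c l.castSucc) (by simpa using h0)
    refine ⟨c (Fin.last r), ?_⟩
    rw [hc, Fin.sum_univ_castSucc, Finset.sum_eq_zero fun l _ => by rw [hc0 l, zero_smul], zero_add,
      Fin.val_last]
  choose c hc using hz
  refine ⟨∑ i, ∑ j, c i j • (L.U i * L.e * L.V j), hexp.trans ?_⟩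
  rw [Finset.mul_sum]
  refine Finset.sum_congr rfl fun i _ => ?_
  rw [Finset.mul_sum]
  refine Finset.sum_congr rfl fun j _ => ?_
  rw [hc, mul_smul_comm, mul_smul_comm, smul_mul_assoc]
  congr 1
  simp only [← mul_assoc, L.u_comm_pow r (L.U i)]

/-- Projective endomorphisms send the kernel into the top height. -/
theorem tr1_ker (ω : Module.End k W) {v : W} (hv : ρ L.u v = 0) :
    tr1 ρ ω (ρ L.f v) ∈ LinearMap.range (ρ (L.u ^ r)) := by
  classical
  let bas := Module.finBasis k W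
  have hdec : ω = ∑ i, ((bas.coord i).comp ω).smulRight (bas i) := LinearMap.ext fun x => by
    simp [bas.sum_repr]
  set w := ρ L.f v
  have hw : ρ L.u w = 0 := by rw [L.comm_apply, hv, map_zero]
  have hwf : ρ L.f w = w := by rw [← Module.End.mul_apply, ← map_mul, L.f_idem]
  let Φ : Fin (Module.finrank k W) → W →ₗ[k] MonoidAlgebra k K := fun i =>
    (MonoidAlgebra.coeffLinearEquiv k).symm.toLinearMap.comp
      ((Finsupp.linearEquivFunOnFinite k k K).symm.toLinearMap.comp
        (LinearMap.pi fun x : K => ((bas.coord i).comp ω).comp (ρ (single x⁻¹ 1))))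
  have hcoef : ∀ i y (x : K), (Φ i y).coeff x = bas.coord i (ω (ρ (single x⁻¹ 1) y)) :=
    fun i y x => rfl
  have heq : ∀ i a y, Φ i (ρ a y) = a * Φ i y := by
    intro i a y
    induction a using MonoidAlgebra.induction_on with
    | of g =>
      refine MonoidAlgebra.coeff_injective (Finsupp.ext fun x => ?_)
      rw [hcoef, MonoidAlgebra.of_apply, MonoidAlgebra.single_mul_apply, one_mul, hcoef]
      congr 2
      rw [← Module.End.mul_apply, ← map_mul, single_mul_single, one_mul]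
      simp
    | add a b ha hb => rw [map_add, LinearMap.add_apply, map_add, ha, hb, add_mul]
    | smul c a ha => rw [map_smul, LinearMap.smul_apply, map_smul, ha, smul_mul_assoc]
  have htr : tr1 ρ ω w = ∑ i, ρ (Φ i w) (bas i) := by
    rw [tr1_apply, Finset.sum_congr rfl fun i (_ : i ∈ Finset.univ) =>
      show ρ (Φ i w) (bas i) = ∑ x : K, ρ (single x ((Φ i w).coeff x)) (bas i) by
        rw [← LinearMap.sum_apply, ← map_sum, ← eq_sum_coeff]]
    simp only [hcoef]
    rw [Finset.sum_comm]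
    refine Finset.sum_congr rfl fun x _ => ?_
    conv_lhs => rw [hdec]
    simp only [LinearMap.sum_apply, LinearMap.smulRight_apply, LinearMap.comp_apply, map_sum,
      map_smul]
    refine Finset.sum_congr rfl fun i _ => ?_
    rw [show (single x (bas.coord i (ω (ρ (single x⁻¹ 1) w))) : MonoidAlgebra k K) =
      bas.coord i (ω (ρ (single x⁻¹ 1) w)) • single x 1 by rw [smul_single, smul_eq_mul, mul_one],
      map_smul, LinearMap.smul_apply]
  rw [htr]
  refine Submodule.sum_mem _ fun i _ => ?_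
  obtain ⟨a', ha'⟩ := L.exists_top_of_killed (a := Φ i w) (by rw [← heq, hwf])
    (by rw [← heq, hw, map_zero])
  exact ⟨ρ a' (bas i), by rw [ha', map_mul, Module.End.mul_apply]⟩

/-- A projective endomorphism fixing the top height. -/
theorem exists_tr1_top : ∃ ω : Module.End k W,
    (∀ a v, tr1 ρ ω (ρ a v) = ρ a (tr1 ρ ω v)) ∧
      ∀ v ∈ LinearMap.range (ρ (L.u ^ r)), tr1 ρ ω v = ρ L.f v := by
  classical
  set N := LinearMap.range (ρ L.e)
  obtain ⟨g, hcomm, hfix⟩ := exists_top (L.cornerU ρ) (q := r) (L.cornerU_pow ρ)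
  let gW : Module.End k W := N.subtype.comp (g.comp (L.cornerP ρ))
  let bas := Module.finBasis k W
  let ψi : Fin (Module.finrank k W) → W →ₗ[k] MonoidAlgebra k K := fun i =>
    ∑ l ∈ Finset.range (r + 1), (((bas.coord i).comp gW).comp (ρ (L.u ^ (r - l)))).smulRight
      (L.u ^ l * L.e)
  let lm : MonoidAlgebra k K →ₐ[k] Module.End k (MonoidAlgebra k K) :=
    Algebra.lmul k (MonoidAlgebra k K)
  have hgW0 : ∀ x, gW (ρ (L.u ^ (r + 1)) x) = 0 := fun x => by
    rw [L.u_pow, map_zero, LinearMap.zero_apply, map_zero]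
  have hui : ∀ i, ∀ w ∈ (⊤ : Submodule k W), ψi i (ρ L.u w) = lm L.u (ψi i w) := by
    intro i w _
    simp only [ψi, lm, LinearMap.sum_apply, LinearMap.smulRight_apply, LinearMap.comp_apply,
      map_sum, map_smul]
    show _ = ∑ l ∈ Finset.range (r + 1), _ • (L.u * (L.u ^ l * L.e))
    rw [Finset.sum_range_succ', Finset.sum_range_succ]
    rw [← Module.End.mul_apply (ρ (L.u ^ (r - 0))), ← map_mul, ← pow_succ, Nat.sub_zero, hgW0,
      map_zero, zero_smul, add_zero,
      show L.u * (L.u ^ r * L.e) = 0 by rw [← mul_assoc, ← pow_succ', L.u_pow, zero_mul],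
      smul_zero, add_zero]
    refine Finset.sum_congr rfl fun l hl => ?_
    have := Finset.mem_range.1 hl
    rw [← Module.End.mul_apply (ρ (L.u ^ (r - (l + 1)))), ← map_mul, ← pow_succ,
      show r - (l + 1) + 1 = r - l by omega, pow_succ', mul_assoc]
  let Φ : Fin (Module.finrank k W) → W →ₗ[k] MonoidAlgebra k K := fun i => L.ext ρ lm (ψi i)
  have hΦ : ∀ i a v, Φ i (ρ a v) = a * Φ i v := fun i a v =>
    ext_comm (fun _ _ _ => Submodule.mem_top) (hui i) a Submodule.mem_top
  refine ⟨∑ i, ((Finsupp.lapply (1 : K)).comp ((MonoidAlgebra.coeffLinearEquiv k).toLinearMap.comp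
      (Φ i))).smulRight (bas i), ?_⟩
  have htr : ∀ v, tr1 ρ (∑ i, ((Finsupp.lapply (1 : K)).comp
      ((MonoidAlgebra.coeffLinearEquiv k).toLinearMap.comp (Φ i))).smulRight (bas i)) v =
      ∑ i, ρ (Φ i v) (bas i) := by
    intro v
    have hadd : ∀ s : Fin (Module.finrank k W) → Module.End k W, tr1 ρ (∑ i, s i) v =
        ∑ i, tr1 ρ (s i) v := fun s => by
      simp only [tr1_apply, LinearMap.sum_apply, map_sum]
      exact Finset.sum_comm
    rw [hadd]
    exact Finset.sum_congr rfl fun i _ => tr1_smulRight ρ (hΦ i) _ v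
  refine ⟨fun a v => ?_, ?_⟩
  · rw [htr, htr, map_sum]
    exact Finset.sum_congr rfl fun i _ => by rw [hΦ, map_mul, Module.End.mul_apply]
  rintro _ ⟨x, rfl⟩
  set v := ρ (L.u ^ r) x
  rw [htr, ← L.sum_UV, map_sum, LinearMap.sum_apply]
  simp only [Φ, ext_apply, map_sum, LinearMap.sum_apply]
  rw [Finset.sum_comm]
  refine Finset.sum_congr rfl fun j _ => ?_
  set y := L.cornerP ρ (ρ (L.V j) v)
  have hy : (y : W) = ρ (L.V j) v := by
    rw [cornerP_coe, ← Module.End.mul_apply, ← map_mul, L.eV]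
  have hyN : y ∈ LinearMap.range (L.cornerU ρ ^ r) := ⟨L.cornerP ρ (ρ (L.V j) x), Subtype.ext (by
    rw [L.cornerU_pow_coe, hy, cornerP_coe]
    simp only [v, ← Module.End.mul_apply, ← map_mul, L.eV, L.u_comm_pow])⟩
  have hkey : ∀ w : W, ∑ i, ρ (ψi i w) (bas i) =
      ∑ l ∈ Finset.range (r + 1), ρ (L.u ^ l * L.e) (gW (ρ (L.u ^ (r - l)) w)) := by
    intro w
    simp only [ψi, LinearMap.sum_apply, LinearMap.smulRight_apply, LinearMap.comp_apply, map_sum,
      map_smul, LinearMap.smul_apply]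
    rw [Finset.sum_comm]
    refine Finset.sum_congr rfl fun l _ => ?_
    conv_rhs => rw [← bas.sum_repr (gW (ρ (L.u ^ (r - l)) w)), map_sum]
    exact Finset.sum_congr rfl fun i _ => by rw [map_smul]; rfl
  calc ∑ i, ρ (lm (L.U j) (ψi i (ρ (L.V j) v))) (bas i)
      = ρ (L.U j) (∑ i, ρ (ψi i (ρ (L.V j) v)) (bas i)) := by
        rw [map_sum]
        exact Finset.sum_congr rfl fun i _ => by
          rw [show lm (L.U j) (ψi i (ρ (L.V j) v)) = L.U j * ψi i (ρ (L.V j) v) from rfl, map_mul,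
            Module.End.mul_apply]
    _ = ρ (L.U j) (((∑ l ∈ Finset.range (r + 1), L.cornerU ρ ^ l * g * L.cornerU ρ ^ (r - l)) y : N) : W) := by
        rw [hkey, LinearMap.sum_apply, AddSubmonoidClass.coe_finsetSum]
        congr 1
        refine Finset.sum_congr rfl fun l _ => ?_
        rw [Module.End.mul_apply, Module.End.mul_apply, cornerU_pow_coe, map_mul,
          Module.End.mul_apply]
        congr 1
        have h1 : L.cornerP ρ (ρ (L.u ^ (r - l)) (ρ (L.V j) v)) = (L.cornerU ρ ^ (r - l)) y :=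
          Subtype.ext (by
            rw [L.cornerU_pow_coe, hy, cornerP_coe, ← Module.End.mul_apply, ← map_mul,
              ← L.u_comm_pow, map_mul, Module.End.mul_apply]
            congr 1)
        show ρ L.e (g (L.cornerP ρ (ρ (L.u ^ (r - l)) (ρ (L.V j) v))) : W) = _
        rw [h1, L.e_fix ρ (g _).2]
    _ = ρ (L.U j * L.V j) v := by
        rw [hfix y hyN, hy, map_mul, Module.End.mul_apply]

end Group

end Loc

end Cfsg.Lib.Blocks.CyclicDefect
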