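import Mathlib
import Cfsg.Agent.Blocks.CyclicDefect.Fam

/-!
# The socle of a representation over a family of local algebras

A finite group `H` with a normal subgroup `K` of index prime to the characteristic, and a
representation on which the idempotents of local algebras of `K` sum to the identity. If each
endomorphism is a scalar plus a trace from the trivial subgroup, then two simple representations
having maps into it that are not such traces are isomorphic.
-/

set_option autoImplicit false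
set_option linter.unusedSectionVars false

namespace Cfsg.Lib.Blocks.CyclicDefect

open MonoidAlgebra
open scoped Classical

variable {k : Type*} [Field k] {H : Type*} [Group H] [Fintype H] {K : Type*} [Group K] [Fintype K]
  {W : Type*} [AddCommGroup W] [Module k W]

/-- The trace of a map between representations from the trivial subgroup. -/
noncomputable def trAll {T : Type*} [AddCommGroup T] [Module k T] (τ : Representation k H T)
    (σ : Representation k H W) (ω : T →ₗ[k] W) : T →ₗ[k] W :=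
  ∑ h : H, (σ h).comp (ω.comp (τ h⁻¹))

/-- The maps that are traces from the trivial subgroup. -/
def IsProj {T : Type*} [AddCommGroup T] [Module k T] (τ : Representation k H T)
    (σ : Representation k H W) (f : T →ₗ[k] W) : Prop :=
  ∃ ω, f = trAll τ σ ω

lemma trAll_apply {T : Type*} [AddCommGroup T] [Module k T] (τ : Representation k H T)
    (σ : Representation k H W) (ω : T →ₗ[k] W) (t : T) :
    trAll τ σ ω t = ∑ h : H, σ h (ω (τ h⁻¹ t)) := by
  simp [trAll]

lemma comp_trAll {T W' : Type*} [AddCommGroup T] [Module k T] [AddCommGroup W'] [Module k W']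
    {τ : Representation k H T} {σ : Representation k H W} {σ' : Representation k H W'}
    {g : W →ₗ[k] W'} (hg : ∀ h w, g (σ h w) = σ' h (g w)) (ω : T →ₗ[k] W) :
    g.comp (trAll τ σ ω) = trAll τ σ' (g.comp ω) := LinearMap.ext fun t => by
  simp only [LinearMap.comp_apply, trAll_apply, map_sum, hg]

lemma trAll_comp {T T' : Type*} [AddCommGroup T] [Module k T] [AddCommGroup T'] [Module k T']
    {τ : Representation k H T} {τ' : Representation k H T'} {σ : Representation k H W}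
    {g : T' →ₗ[k] T} (hg : ∀ h w, g (τ' h w) = τ h (g w)) (ω : T →ₗ[k] W) :
    (trAll τ σ ω).comp g = trAll τ' σ (ω.comp g) := LinearMap.ext fun t => by
  simp only [LinearMap.comp_apply, trAll_apply, hg]

section Average

variable (ι : K →* H) (σ : Representation k H W)

/-- The restriction to `K`, on its group algebra. -/
noncomputable abbrev resK : MonoidAlgebra k K →ₐ[k] Module.End k W :=
  Representation.asAlgebraHom (σ.comp ι : Representation k K W)

lemma resK_single (x : K) : resK ι σ (single x 1) = σ (ι x) :=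
  Representation.asAlgebraHom_single_one _ _

/-- The sum over the cosets. -/
noncomputable def trQ (ε : Module.End k W) : Module.End k W :=
  ∑ c : H ⧸ ι.range, σ c.out * ε * σ c.out⁻¹

lemma trQ_apply (ε : Module.End k W) (v : W) :
    trQ ι σ ε v = ∑ c : H ⧸ ι.range, σ c.out (ε (σ c.out⁻¹ v)) := by
  simp [trQ]

lemma sigma_mul_apply (a b : H) (v : W) : σ a (σ b v) = σ (a * b) v := by
  rw [map_mul, Module.End.mul_apply]

lemma trQ_comm {X : Set W} (hX : ∀ h, ∀ v ∈ X, σ h v ∈ X) {ε : Module.End k W}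
    (hε : ∀ x, ∀ v ∈ X, ε (σ (ι x) v) = σ (ι x) (ε v)) (g : H) {v : W} (hv : v ∈ X) :
    trQ ι σ ε (σ g v) = σ g (trQ ι σ ε v) := by
  rw [trQ_apply, trQ_apply, map_sum,
    ← Equiv.sum_comp (MulAction.toPerm g : Equiv.Perm (H ⧸ ι.range))]
  refine Finset.sum_congr rfl fun c _ => ?_
  rw [MulAction.toPerm_apply, sigma_mul_apply, sigma_mul_apply σ g]
  obtain ⟨⟨_, ⟨x, rfl⟩⟩, hx⟩ := QuotientGroup.mk_out_eq_mul ι.range (g * c.out)
  rw [show (g • c : H ⧸ ι.range).out = g * c.out * ι x by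
    rw [← hx]
    congr 1
    conv_lhs => rw [← QuotientGroup.out_eq' c]
    rfl]
  rw [show (g * c.out * ι x)⁻¹ * g = ι x⁻¹ * c.out⁻¹ by rw [map_inv]; group,
    ← sigma_mul_apply σ (ι x⁻¹), hε _ _ (hX _ _ hv), sigma_mul_apply,
    show g * c.out * ι x * ι x⁻¹ = g * c.out by rw [map_inv, mul_inv_cancel_right]]

lemma trAll_eq_trQ [FiniteDimensional k W] (hι : Function.Injective ι) (ω : Module.End k W) :
    trAll σ σ ω = trQ ι σ (Loc.tr1 (resK ι σ) ω) := by
  classical
  refine LinearMap.ext fun v => ?_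
  rw [trAll_apply, trQ_apply]
  simp only [Loc.tr1_apply, resK_single, map_sum]
  simp only [sigma_mul_apply]
  rw [← Fintype.sum_prod_type' (f := fun (c : H ⧸ ι.range) (x : K) =>
    σ (c.out * ι x) (ω (σ (ι x⁻¹ * c.out⁻¹) v)))]
  refine (Fintype.sum_bijective (fun c : (H ⧸ ι.range) × K => c.1.out * ι c.2) ⟨?_, ?_⟩ _ _
    fun c => by rw [mul_inv_rev, map_inv]).symm
  · rintro ⟨c, x⟩ ⟨c', x'⟩ h
    simp only at h
    obtain rfl : c = c' := by
      rw [← QuotientGroup.out_eq' c, ← QuotientGroup.out_eq' c', QuotientGroup.eq]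
      exact ⟨x * x'⁻¹, by
        rw [map_mul, map_inv, show c.out⁻¹ * c'.out = ι x * (ι x')⁻¹ by
          rw [inv_mul_eq_iff_eq_mul, ← mul_assoc, h, mul_inv_cancel_right]]⟩
    rw [hι (mul_left_cancel h)]
  · intro h
    obtain ⟨⟨_, ⟨x, rfl⟩⟩, hx⟩ := QuotientGroup.mk_out_eq_mul ι.range h
    exact ⟨(QuotientGroup.mk h, x⁻¹), by simp [hx, map_inv]⟩

end Average

section Socle

variable [FiniteDimensional k W] {r : ℕ} {J : Type*} [Fintype J]
  {L : J → Loc k (MonoidAlgebra k K) (r + 1)} {ι : K →* H} {σ : Representation k H W}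

/-- The hypotheses on the representation. -/
structure IsLocalRep (L : J → Loc k (MonoidAlgebra k K) (r + 1)) (ι : K →* H)
    (σ : Representation k H W) : Prop where
  sum_f : ∑ g, resK ι σ (L g).f = 1
  orth : ∀ g g', g ≠ g' → (L g).f * (L g').f = 0
  inj : Function.Injective ι
  index : (Nat.card (H ⧸ ι.range) : k) ≠ 0
  ker : ∀ h v, resK ι σ (∑ g, (L g).u) v = 0 → resK ι σ (∑ g, (L g).u) (σ h v) = 0
  range : ∀ h j v, v ∈ LinearMap.range ((resK ι σ (∑ g, (L g).u)) ^ j) →
    σ h v ∈ LinearMap.range ((resK ι σ (∑ g, (L g).u)) ^ j)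

variable (hS : IsLocalRep L ι σ)

include hS

omit [FiniteDimensional k W] in
lemma IsLocalRep.split (v : W) : v = ∑ g, resK ι σ (L g).f v := by
  rw [← LinearMap.sum_apply, hS.sum_f]; rfl

omit [FiniteDimensional k W] in
lemma IsLocalRep.uf (g : J) (v : W) :
    resK ι σ (∑ g, (L g).u) (resK ι σ (L g).f v) = resK ι σ (L g).u v := by
  classical
  rw [← Module.End.mul_apply, ← map_mul, Finset.sum_mul, Finset.sum_eq_single g
    (fun g' _ hne => by
      rw [← (L g').fu, (L g').f_comm (L g').u, mul_assoc, hS.orth g' g hne, mul_zero])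
    (by simp), ← (L g).f_comm, (L g).fu]

omit [FiniteDimensional k W] in
lemma IsLocalRep.pow_f (g : J) (j : ℕ) (v : W) :
    ((resK ι σ (∑ g, (L g).u)) ^ j) (resK ι σ (L g).f v) =
      resK ι σ ((L g).u ^ j) (resK ι σ (L g).f v) := by
  induction j with
  | zero => simp
  | succ j ih =>
    rw [pow_succ', Module.End.mul_apply, ih, pow_succ', map_mul, Module.End.mul_apply]
    rw [show resK ι σ ((L g).u ^ j) (resK ι σ (L g).f v) =
        resK ι σ (L g).f (resK ι σ ((L g).u ^ j) (resK ι σ (L g).f v)) by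
      simp only [← Module.End.mul_apply, ← map_mul, ← mul_assoc, ← (L g).u_comm_pow]
      rw [mul_assoc, (L g).f_idem], hS.uf]
    simp only [← Module.End.mul_apply, ← map_mul, ← mul_assoc]
    rw [mul_assoc (L g).u (L g).f, (L g).f_comm ((L g).u ^ j), mul_assoc, mul_assoc, mul_assoc,
      (L g).f_idem]

omit [FiniteDimensional k W] in
lemma IsLocalRep.f_pow (g : J) (j : ℕ) (v : W) :
    resK ι σ (L g).f (((resK ι σ (∑ g, (L g).u)) ^ j) v) =
      resK ι σ ((L g).u ^ j) (resK ι σ (L g).f v) := by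
  rw [← hS.pow_f, ← map_pow, ← Module.End.mul_apply, ← map_mul, (L g).f_comm, map_mul,
    Module.End.mul_apply]

omit [FiniteDimensional k W] in
lemma IsLocalRep.mem_ker (g : J) {v : W} (hv : resK ι σ (L g).u v = 0) :
    resK ι σ (∑ g, (L g).u) (resK ι σ (L g).f v) = 0 := by
  rw [hS.uf, hv]

omit [FiniteDimensional k W] in
lemma IsLocalRep.ker_u (g : J) {v : W} (hv : resK ι σ (∑ g, (L g).u) v = 0) :
    resK ι σ (L g).u v = 0 := by
  rw [← hS.uf, ← Module.End.mul_apply, ← map_mul, ← (L g).f_comm, map_mul, Module.End.mul_apply,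
    hv, map_zero]

omit [FiniteDimensional k W] in
lemma IsLocalRep.top_le {v : W}
    (hv : v ∈ LinearMap.range ((resK ι σ (∑ g, (L g).u)) ^ r)) :
    resK ι σ (∑ g, (L g).u) v = 0 := by
  obtain ⟨x, rfl⟩ := hv
  rw [← Module.End.mul_apply, ← pow_succ']
  rw [hS.split x, map_sum]
  exact Finset.sum_eq_zero fun g _ => by rw [hS.pow_f, (L g).u_pow, map_zero]; rfl

omit [FiniteDimensional k W] in
lemma IsLocalRep.alg_comm (a : MonoidAlgebra k K) {ε : Module.End k W} {X : Submodule k W}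
    (hX : ∀ h, ∀ v ∈ X, σ h v ∈ X) (hc : ∀ x, ∀ v ∈ X, ε (σ (ι x) v) = σ (ι x) (ε v))
    {v : W} (hv : v ∈ X) : ε (resK ι σ a v) = resK ι σ a (ε v) := by
  rw [Loc.eq_sum_coeff a]
  simp only [map_sum, LinearMap.sum_apply]
  refine Finset.sum_congr rfl fun x _ => ?_
  rw [show (single x (a.coeff x) : MonoidAlgebra k K) = a.coeff x • single x 1 by
    rw [smul_single, smul_eq_mul, mul_one]]
  simp only [map_smul, LinearMap.smul_apply, resK_single, hc x v hv]

/-- Equivariant endomorphisms of the kernel preserving the heights extend. -/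
theorem IsLocalRep.exists_lift (ε : Module.End k W)
    (hc : ∀ h v, resK ι σ (∑ g, (L g).u) v = 0 → ε (σ h v) = σ h (ε v))
    (h0 : ∀ v, resK ι σ (∑ g, (L g).u) v = 0 → resK ι σ (∑ g, (L g).u) (ε v) = 0)
    (hh : ∀ j v, resK ι σ (∑ g, (L g).u) v = 0 →
      v ∈ LinearMap.range ((resK ι σ (∑ g, (L g).u)) ^ j) →
      ε v ∈ LinearMap.range ((resK ι σ (∑ g, (L g).u)) ^ j)) :
    ∃ Φ : Module.End k W, (∀ h v, Φ (σ h v) = σ h (Φ v)) ∧
      ∀ v, resK ι σ (∑ g, (L g).u) v = 0 → Φ v = ε v := by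
  classical
  set ρ := resK ι σ with hρ
  set U := ρ (∑ g, (L g).u)
  set X := LinearMap.ker U
  have hX : ∀ h, ∀ v ∈ X, σ h v ∈ X := fun h v hv => hS.ker h v hv
  have hca : ∀ a v, U v = 0 → ε (ρ a v) = ρ a (ε v) := fun a v hv =>
    hS.alg_comm a hX (fun x w hw => hc _ w hw) hv
  have hcom : ∀ (g : J) a v, ρ (L g).f (ρ a v) = ρ a (ρ (L g).f v) := fun g a v => by
    simp only [← Module.End.mul_apply, ← map_mul, (L g).f_comm]
  have : ∀ g, ∃ Ψ : Module.End k W, (∀ a v, Ψ (ρ a v) = ρ a (Ψ v)) ∧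
      ∀ v, ρ (L g).u v = 0 → Ψ v = ρ (L g).f (ε (ρ (L g).f v)) := by
    intro g
    refine (L g).exists_extend ρ (ε * ρ (L g).f) (fun a v hv => ?_) (fun j v hv hv' => ?_)
    · rw [Module.End.mul_apply, Module.End.mul_apply, hcom, hca _ _ (hS.mem_ker g hv)]
    · show ρ (L g).u (ε (ρ (L g).f v)) = 0 ∧ ε (ρ (L g).f v) ∈ _
      refine ⟨hS.ker_u g (h0 _ (hS.mem_ker g hv)), ?_⟩
      obtain ⟨y, rfl⟩ := hv'
      have hU : ρ (L g).f (ρ ((L g).u ^ j) y) ∈ LinearMap.range (U ^ j) := by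
        refine ⟨ρ (L g).f y, ?_⟩
        rw [hS.pow_f, hcom]
      obtain ⟨x, hx⟩ := hh j _ (hS.mem_ker g hv) hU
      have hfix : ρ (L g).f (ε (ρ (L g).f (ρ ((L g).u ^ j) y))) =
          ε (ρ (L g).f (ρ ((L g).u ^ j) y)) := by
        rw [← hca _ _ (hS.mem_ker g hv), ← Module.End.mul_apply (ρ (L g).f) (ρ (L g).f), ← map_mul,
          (L g).f_idem]
      rw [← hfix, ← hx, hS.f_pow]
      exact ⟨_, rfl⟩
  choose Ψ hΨ hΨ' using this
  set Ψ' : Module.End k W := ∑ g, Ψ g * ρ (L g).f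
  have hΨa : ∀ a v, Ψ' (ρ a v) = ρ a (Ψ' v) := fun a v => by
    simp only [Ψ', LinearMap.sum_apply, Module.End.mul_apply, map_sum, hcom, hΨ]
  have hΨK : ∀ v, U v = 0 → Ψ' v = ε v := fun v hv => by
    simp only [Ψ', LinearMap.sum_apply, Module.End.mul_apply]
    conv_rhs => rw [hS.split (ε v)]
    refine Finset.sum_congr rfl fun g _ => ?_
    rw [hΨ' g _ (by rw [← hcom, hS.ker_u g hv, map_zero]),
      ← Module.End.mul_apply (ρ (L g).f) (ρ (L g).f), ← map_mul, (L g).f_idem,
      hca _ _ hv, ← Module.End.mul_apply, ← map_mul, (L g).f_idem]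
  refine ⟨(Nat.card (H ⧸ ι.range) : k)⁻¹ • trQ ι σ Ψ', fun h v => ?_, fun v hv => ?_⟩
  · rw [LinearMap.smul_apply, LinearMap.smul_apply, map_smul,
      trQ_comm ι σ (X := Set.univ) (fun _ _ _ => trivial) (fun x w _ => ?_) h trivial]
    rw [← resK_single ι σ x, hΨa]
  · rw [LinearMap.smul_apply, trQ_apply, Finset.sum_congr rfl fun (c : H ⧸ ι.range) _ => show
      σ c.out (Ψ' (σ c.out⁻¹ v)) = ε v by
        rw [hΨK _ (hX _ v hv), hc _ _ hv, sigma_mul_apply, mul_inv_cancel, map_one]; rfl,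
      Finset.sum_const, Finset.card_univ, ← Nat.card_eq_fintype_card, ← Nat.cast_smul_eq_nsmul k,
      smul_smul, inv_mul_cancel₀ hS.index, one_smul]

/-- Subrepresentations of the kernel have equivariant projections. -/
theorem IsLocalRep.exists_projection (Y : Submodule k W) (hY : ∀ h, ∀ v ∈ Y, σ h v ∈ Y)
    (hY0 : ∀ v ∈ Y, resK ι σ (∑ g, (L g).u) v = 0) :
    ∃ ε : Module.End k W, (∀ h v, resK ι σ (∑ g, (L g).u) v = 0 → ε (σ h v) = σ h (ε v)) ∧
      (∀ v, ε v ∈ Y) ∧ ∀ v ∈ Y, ε v = v := by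
  classical
  set ρ := resK ι σ
  have hYA : ∀ a, ∀ v ∈ Y, ρ a v ∈ Y := fun a v hv => by
    rw [Loc.eq_sum_coeff a, map_sum, LinearMap.sum_apply]
    refine Y.sum_mem fun x _ => ?_
    rw [show (single x (a.coeff x) : MonoidAlgebra k K) = a.coeff x • single x 1 by
      rw [smul_single, smul_eq_mul, mul_one], map_smul, LinearMap.smul_apply, resK_single]
    exact Y.smul_mem _ (hY _ _ hv)
  have hcom : ∀ (g : J) a v, ρ (L g).f (ρ a v) = ρ a (ρ (L g).f v) := fun g a v => by
    simp only [← Module.End.mul_apply, ← map_mul, (L g).f_comm]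
  have := fun g => (L g).exists_proj ρ Y hYA
    fun v hv => LinearMap.mem_ker.2 (hS.ker_u g (hY0 v hv))
  choose Pj hPj hPm hPy using this
  set P' : Module.End k W := ∑ g, Pj g * ρ (L g).f
  have hPm' : ∀ v, P' v ∈ Y := fun v => by
    simp only [P', LinearMap.sum_apply, Module.End.mul_apply]
    exact Y.sum_mem fun g _ => hPm g _
  have hPy' : ∀ v ∈ Y, P' v = v := fun v hv => by
    simp only [P', LinearMap.sum_apply, Module.End.mul_apply]
    conv_rhs => rw [hS.split v]
    refine Finset.sum_congr rfl fun g _ => ?_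
    rw [hPy g _ (hYA _ _ hv), ← Module.End.mul_apply, ← map_mul, (L g).f_idem]
  refine ⟨(Nat.card (H ⧸ ι.range) : k)⁻¹ • trQ ι σ P', fun h v hv => ?_, fun v => ?_,
    fun v hv => ?_⟩
  · rw [LinearMap.smul_apply, LinearMap.smul_apply, map_smul,
      trQ_comm ι σ (X := {w | resK ι σ (∑ g, (L g).u) w = 0}) hS.ker (fun x w hw => ?_) h hv]
    rw [← resK_single ι σ x]
    simp only [P', LinearMap.sum_apply, Module.End.mul_apply, map_sum]
    refine Finset.sum_congr rfl fun g _ => ?_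
    rw [hcom, hPj g _ _ (hS.ker_u g (hS.mem_ker g (hS.ker_u g hw)))]
  · rw [LinearMap.smul_apply, trQ_apply]
    exact Y.smul_mem _ (Y.sum_mem fun c _ => hY _ _ (hPm' _))
  · rw [LinearMap.smul_apply, trQ_apply, Finset.sum_congr rfl fun (c : H ⧸ ι.range) _ => show
      σ c.out (P' (σ c.out⁻¹ v)) = v by
        rw [hPy' _ (hY _ _ hv), sigma_mul_apply, mul_inv_cancel, map_one]; rfl,
      Finset.sum_const, Finset.card_univ, ← Nat.card_eq_fintype_card, ← Nat.cast_smul_eq_nsmul k,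
      smul_smul, inv_mul_cancel₀ hS.index, one_smul]

/-- A map into the top height is a trace. -/
theorem IsLocalRep.isProj_of_range_top {T : Type*} [AddCommGroup T] [Module k T]
    {τ : Representation k H T} (f : T →ₗ[k] W) (hf : ∀ h t, f (τ h t) = σ h (f t))
    (htop : ∀ t, f t ∈ LinearMap.range ((resK ι σ (∑ g, (L g).u)) ^ r)) : IsProj τ σ f := by
  classical
  set ρ := resK ι σ
  have := fun g => (L g).exists_tr1_top (W := W) ρ
  choose ω hωc hω using this
  have htr : ∀ v ∈ LinearMap.range ((resK ι σ (∑ g, (L g).u)) ^ r),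
      Loc.tr1 ρ (∑ g, ω g * ρ (L g).f) v = v := fun v hv => by
    rw [Loc.tr1_apply]
    simp only [LinearMap.sum_apply, Module.End.mul_apply, map_sum]
    rw [Finset.sum_comm]
    conv_rhs => rw [hS.split v]
    refine Finset.sum_congr rfl fun g _ => ?_
    have h1 : Loc.tr1 ρ (ω g) (ρ (L g).f v) = ρ (L g).f v := by
      obtain ⟨x, rfl⟩ := hv
      rw [hS.f_pow, hω g _ ⟨_, rfl⟩, ← Module.End.mul_apply, ← map_mul, (L g).f_comm, map_mul,
        Module.End.mul_apply, ← Module.End.mul_apply (ρ (L g).f), ← map_mul, (L g).f_idem]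
    rw [Loc.tr1_apply] at h1
    refine Eq.trans (Finset.sum_congr rfl fun x _ => ?_) h1
    rw [← Module.End.mul_apply (ρ (L g).f), ← map_mul, (L g).f_comm, map_mul, Module.End.mul_apply]
  set c := (Nat.card (H ⧸ ι.range) : k)
  refine ⟨(c⁻¹ • ∑ g, ω g * ρ (L g).f).comp f, ?_⟩
  rw [← trAll_comp (τ := σ) hf, trAll_eq_trQ ι σ hS.inj]
  refine LinearMap.ext fun t => ?_
  rw [LinearMap.comp_apply, trQ_apply, Finset.sum_congr rfl fun (q : H ⧸ ι.range) _ => show
    σ q.out (Loc.tr1 ρ (c⁻¹ • ∑ g, ω g * ρ (L g).f) (σ q.out⁻¹ (f t))) = c⁻¹ • f t by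
      rw [show Loc.tr1 ρ (c⁻¹ • ∑ g, ω g * ρ (L g).f) =
          c⁻¹ • Loc.tr1 ρ (∑ g, ω g * ρ (L g).f) by
        simp only [Loc.tr1, mul_smul_comm, smul_mul_assoc, ← Finset.smul_sum],
        LinearMap.smul_apply, htr _ (hS.range _ r _ (htop t)), map_smul, sigma_mul_apply,
        mul_inv_cancel, map_one, Module.End.one_apply],
    Finset.sum_const, Finset.card_univ, ← Nat.card_eq_fintype_card, ← Nat.cast_smul_eq_nsmul k,
    smul_smul, mul_inv_cancel₀ hS.index, one_smul]

/-- Traces send the kernel into the top height. -/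
theorem IsLocalRep.trAll_ker (ω : Module.End k W) {v : W}
    (hv : resK ι σ (∑ g, (L g).u) v = 0) :
    trAll σ σ ω v ∈ LinearMap.range ((resK ι σ (∑ g, (L g).u)) ^ r) := by
  classical
  set ρ := resK ι σ
  have h1 : ∀ w, resK ι σ (∑ g, (L g).u) w = 0 →
      Loc.tr1 ρ ω w ∈ LinearMap.range ((resK ι σ (∑ g, (L g).u)) ^ r) := fun w hw => by
    have htc : ∀ (y : K) z, Loc.tr1 ρ ω (σ (ι y) z) = σ (ι y) (Loc.tr1 ρ ω z) := fun y z => by
      simp only [Loc.tr1_apply, map_sum, ρ, resK_single, sigma_mul_apply]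
      rw [← Equiv.sum_comp (Equiv.mulLeft y)]
      refine Finset.sum_congr rfl fun x _ => ?_
      simp [map_mul, map_inv, mul_assoc]
    rw [show Loc.tr1 ρ ω w = ∑ g, Loc.tr1 ρ ω (ρ (L g).f w) by
      rw [← map_sum]; exact congrArg _ (hS.split w)]
    refine Submodule.sum_mem _ fun g _ => ?_
    obtain ⟨x, hx⟩ := (L g).tr1_ker ρ ω (hS.ker_u g hw)
    refine ⟨ρ (L g).f x, ?_⟩
    rw [hS.pow_f, ← Module.End.mul_apply, ← map_mul, (L g).u_comm_pow, map_mul,
      Module.End.mul_apply, hx,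
      ← hS.alg_comm (L g).f (X := ⊤) (fun _ _ _ => Submodule.mem_top) (fun y z _ => htc y z)
        Submodule.mem_top,
      ← Module.End.mul_apply (ρ (L g).f) (ρ (L g).f), ← map_mul, (L g).f_idem]
  rw [trAll_eq_trQ ι σ hS.inj, trQ_apply]
  exact Submodule.sum_mem _ fun c _ => hS.range _ r _ (h1 _ (hS.ker _ _ hv))

/-- **The kernel over the top height is zero or simple.** -/
theorem IsLocalRep.eq_ker_or (hend : ∀ Φ : Module.End k W, (∀ h v, Φ (σ h v) = σ h (Φ v)) →
      ∃ (a : k) (ω : Module.End k W), Φ = a • 1 + trAll σ σ ω)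
    (Y : Submodule k W) (hY : ∀ h, ∀ v ∈ Y, σ h v ∈ Y)
    (hY0 : Y ≤ LinearMap.ker (resK ι σ (∑ g, (L g).u)))
    (htop : LinearMap.range ((resK ι σ (∑ g, (L g).u)) ^ r) ≤ Y) :
    Y = LinearMap.ker (resK ι σ (∑ g, (L g).u)) ∨
      Y = LinearMap.range ((resK ι σ (∑ g, (L g).u)) ^ r) := by
  classical
  set U := resK ι σ (∑ g, (L g).u) with hU
  set top := LinearMap.range (U ^ r) with htopdef
  -- a projection preserving the heights is zero or one
  have key : ∀ Z : Submodule k W, (∀ h, ∀ v ∈ Z, σ h v ∈ Z) → Z ≤ LinearMap.ker U → top ≤ Z →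
      (∀ j, Z ≤ LinearMap.range (U ^ j) ∨ LinearMap.ker U ⊓ LinearMap.range (U ^ j) ≤ Z) →
      Z = LinearMap.ker U ∨ Z = top := by
    intro Z hZ hZ0 hZt hcomp
    obtain ⟨ε, hεc, hεm, hεy⟩ := hS.exists_projection Z hZ fun v hv => LinearMap.mem_ker.1 (hZ0 hv)
    obtain ⟨Φ, hΦc, hΦ⟩ := hS.exists_lift ε hεc (fun v _ => LinearMap.mem_ker.1 (hZ0 (hεm v)))
      fun j v hv hv' => (hcomp j).elim (fun h => h (hεm v))
        (fun h => by rw [hεy v (h ⟨hv, hv'⟩)]; exact hv')
    obtain ⟨a, ω, hω⟩ := hend Φ hΦc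
    have hmod : ∀ v, U v = 0 → ε v - a • v ∈ top := fun v hv => by
      rw [← hΦ v hv, hω, LinearMap.add_apply, LinearMap.smul_apply, Module.End.one_apply,
        add_sub_cancel_left]
      exact hS.trAll_ker ω hv
    by_cases ha : a = 1
    · left
      refine le_antisymm hZ0 fun v hv => ?_
      have h := hmod v hv
      rw [ha, one_smul] at h
      rw [show v = ε v - (ε v - v) by abel]
      exact Z.sub_mem (hεm v) (hZt h)
    · right
      refine le_antisymm (fun v hv => ?_) hZt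
      have h := hmod v (LinearMap.mem_ker.1 (hZ0 hv))
      rw [hεy v hv, show v - a • v = (1 - a) • v by rw [sub_smul, one_smul]] at h
      exact (Submodule.smul_mem_iff _ (sub_ne_zero.2 (Ne.symm ha))).1 h
  -- the heights are extreme
  have hanti : ∀ i j, i ≤ j → LinearMap.range (U ^ j) ≤ LinearMap.range (U ^ i) := by
    intro i j hij
    obtain ⟨d, rfl⟩ := Nat.exists_eq_add_of_le hij
    rw [pow_add]
    exact LinearMap.range_comp_le_range _ _
  have hlev : ∀ j, LinearMap.ker U ⊓ LinearMap.range (U ^ j) = LinearMap.ker U ∨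
      LinearMap.ker U ⊓ LinearMap.range (U ^ j) ≤ top := by
    intro j
    rcases le_or_gt j r with hj | hj
    · refine (key _ (fun h v hv => Submodule.mem_inf.2
        ⟨hS.ker h v hv.1, hS.range h j v hv.2⟩) inf_le_left
        (le_inf (fun v hv => hS.top_le hv) (hanti j r hj)) fun i => ?_).imp id fun h => h.le
      rcases le_total i j with h | h
      · exact Or.inl (inf_le_right.trans (hanti i j h))
      · exact Or.inr (inf_le_inf le_rfl (hanti j i h))
    · exact Or.inr (inf_le_right.trans (hanti r j hj.le))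
  refine key Y hY hY0 htop fun j => ?_
  rcases hlev j with h | h
  · exact Or.inl (hY0.trans (h ▸ inf_le_right))
  · exact Or.inr (h.trans htop)

/-- A simple representation with such a map is the kernel over the top height. -/
theorem IsLocalRep.injective_range (hend : ∀ Φ : Module.End k W, (∀ h v, Φ (σ h v) = σ h (Φ v)) →
      ∃ (a : k) (ω : Module.End k W), Φ = a • 1 + trAll σ σ ω)
    {T : Type*} [AddCommGroup T] [Module k T] {τ : Representation k H T}
    (hT : ∀ Y : Submodule k T, (∀ h, ∀ v ∈ Y, τ h v ∈ Y) → Y = ⊥ ∨ Y = ⊤)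
    (g : T →ₗ[k] W) (hg : ∀ h t, g (τ h t) = σ h (g t))
    (hg0 : ∀ t, resK ι σ (∑ g, (L g).u) (g t) = 0) (hgP : ¬ IsProj τ σ g) :
    Function.Injective ((LinearMap.range ((resK ι σ (∑ g, (L g).u)) ^ r)).mkQ.comp g) ∧
      LinearMap.range ((LinearMap.range ((resK ι σ (∑ g, (L g).u)) ^ r)).mkQ.comp g) =
        (LinearMap.ker (resK ι σ (∑ g, (L g).u))).map
          (LinearMap.range ((resK ι σ (∑ g, (L g).u)) ^ r)).mkQ := by
  set U := resK ι σ (∑ g, (L g).u) with hU
  set top := LinearMap.range (U ^ r) with htopdef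
  have htσ : ∀ h, ∀ v ∈ top, σ h v ∈ top := fun h v hv => hS.range h r v hv
  have hne : LinearMap.ker (top.mkQ.comp g) ≠ ⊤ := fun h => hgP <| hS.isProj_of_range_top g hg
    fun t => (Submodule.Quotient.mk_eq_zero top).1 (LinearMap.mem_ker.1
      (show t ∈ LinearMap.ker (top.mkQ.comp g) from h ▸ Submodule.mem_top))
  refine ⟨LinearMap.ker_eq_bot.1 ((hT _ fun h v hv => ?_).resolve_right hne), ?_⟩
  · rw [LinearMap.mem_ker, LinearMap.comp_apply, hg]
    exact (Submodule.Quotient.mk_eq_zero _).2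
      (htσ h _ ((Submodule.Quotient.mk_eq_zero _).1 (LinearMap.mem_ker.1 hv)))
  have hsup : LinearMap.range g ⊔ top = LinearMap.ker U := by
    refine (hS.eq_ker_or hend _ (fun h v hv => ?_) (sup_le ?_ fun v hv => hS.top_le hv)
      le_sup_right).resolve_right fun h => hne ?_
    · obtain ⟨a, ⟨t, rfl⟩, b, hb, rfl⟩ := Submodule.mem_sup.1 hv
      rw [map_add, ← hg]
      exact Submodule.add_mem_sup ⟨_, rfl⟩ (htσ h _ hb)
    · rintro _ ⟨t, rfl⟩
      exact hg0 t
    · refine eq_top_iff.2 fun t _ => LinearMap.mem_ker.2 ((Submodule.Quotient.mk_eq_zero _).2 ?_)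
      have : g t ∈ LinearMap.range g ⊔ top := Submodule.mem_sup_left ⟨t, rfl⟩
      exact h.le this
  rw [LinearMap.range_comp, ← hsup, Submodule.map_sup,
    show top.map top.mkQ = ⊥ by rw [← LinearMap.le_ker_iff_map, Submodule.ker_mkQ], sup_bot_eq]

/-- **Two simple representations with maps that are not traces are isomorphic.** -/
theorem IsLocalRep.exists_equiv (hend : ∀ Φ : Module.End k W, (∀ h v, Φ (σ h v) = σ h (Φ v)) →
      ∃ (a : k) (ω : Module.End k W), Φ = a • 1 + trAll σ σ ω)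
    {T T' : Type*} [AddCommGroup T] [Module k T] [AddCommGroup T'] [Module k T']
    {τ : Representation k H T} {τ' : Representation k H T'}
    (hT : ∀ Y : Submodule k T, (∀ h, ∀ v ∈ Y, τ h v ∈ Y) → Y = ⊥ ∨ Y = ⊤)
    (hT' : ∀ Y : Submodule k T', (∀ h, ∀ v ∈ Y, τ' h v ∈ Y) → Y = ⊥ ∨ Y = ⊤)
    (f : T →ₗ[k] W) (hf : ∀ h t, f (τ h t) = σ h (f t))
    (hf0 : ∀ t, resK ι σ (∑ g, (L g).u) (f t) = 0) (hfP : ¬ IsProj τ σ f)
    (f' : T' →ₗ[k] W) (hf' : ∀ h t, f' (τ' h t) = σ h (f' t))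
    (hf'0 : ∀ t, resK ι σ (∑ g, (L g).u) (f' t) = 0) (hfP' : ¬ IsProj τ' σ f') :
    ∃ Θ : T ≃ₗ[k] T', ∀ h t, Θ (τ h t) = τ' h (Θ t) := by
  classical
  set U := resK ι σ (∑ g, (L g).u) with hU
  set top := LinearMap.range (U ^ r) with htopdef
  set Qt := top.mkQ
  have htσ : ∀ h, top ≤ top.comap (σ h) := fun h v hv => hS.range h r v hv
  obtain ⟨h1, h2⟩ := hS.injective_range hend hT f hf hf0 hfP
  obtain ⟨h1', h2'⟩ := hS.injective_range hend hT' f' hf' hf'0 hfP'
  let Θ : T ≃ₗ[k] T' := (LinearEquiv.ofInjective _ h1).trans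
    ((LinearEquiv.ofEq _ _ (h2.trans h2'.symm)).trans (LinearEquiv.ofInjective _ h1').symm)
  have hΘ : ∀ t, Qt (f' (Θ t)) = Qt (f t) := fun t => by
    have : (LinearEquiv.ofInjective _ h1' (Θ t) : W ⧸ top) = Qt (f t) := by
      simp only [Θ, LinearEquiv.trans_apply, LinearEquiv.apply_symm_apply]
      rfl
    exact this
  refine ⟨Θ, fun h t => h1' ?_⟩
  show Qt (f' _) = Qt (f' _)
  rw [hΘ, hf, hf']
  have hQ : ∀ a b : W, Qt a = Qt b → Qt (σ h a) = Qt (σ h b) := fun a b hab => by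
    rw [← sub_eq_zero, ← map_sub, ← map_sub]
    exact (Submodule.Quotient.mk_eq_zero top).2 (htσ h ((Submodule.Quotient.mk_eq_zero top).1
      (by rw [← Submodule.mkQ_apply, map_sub, sub_eq_zero]; exact hab)))
  exact (hQ _ _ (hΘ t)).symm

end Socle

end Cfsg.Lib.Blocks.CyclicDefect
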