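import Mathlib
import Cfsg.Agent.Blocks.CyclicDefect.Socle
import Cfsg.Agent.Blocks.Embed

/-!
# The conjugates of a local algebra

The conjugates of a local algebra of a normal subgroup form a family of orthogonal local algebras,
and each representation on which their idempotents sum to the identity is a local representation.
-/

set_option autoImplicit false
set_option linter.unusedSectionVars false

namespace Cfsg.Lib.Blocks.CyclicDefect

open MonoidAlgebra
open scoped Classical

namespace Loc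

variable {k A A' : Type*} [Field k] [Ring A] [Algebra k A] [Ring A'] [Algebra k A'] {q : ℕ}

/-- Transport along an isomorphism of algebras. -/
def map (L : Loc k A q) (φ : A ≃ₐ[k] A') : Loc k A' q where
  n := L.n
  f := φ L.f
  u := φ L.u
  e := φ L.e
  U i := φ (L.U i)
  V i := φ (L.V i)
  f_idem := by rw [← map_mul, L.f_idem]
  f_comm a := by rw [← φ.apply_symm_apply a, ← map_mul, ← map_mul, L.f_comm]
  u_comm a := by rw [← φ.apply_symm_apply a, ← map_mul, ← map_mul, L.u_comm]
  fu := by rw [← map_mul, L.fu]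
  u_pow := by rw [← map_pow, L.u_pow, map_zero]
  e_idem := by rw [← map_mul, L.e_idem]
  fe := by rw [← map_mul, L.fe]
  Ue i := by rw [← map_mul, L.Ue]
  eV i := by rw [← map_mul, L.eV]
  sum_UV := by simp only [← map_mul, ← map_sum, L.sum_UV]
  corner a := by
    have h := Submodule.mem_map_of_mem (f := φ.toLinearMap) (L.corner (φ.symm a))
    rw [Submodule.map_span, ← Set.range_comp] at h
    rw [show φ L.e * a * φ L.e = φ.toLinearMap (L.e * φ.symm a * L.e) by simp,
      show (fun l : Fin q => φ L.u ^ (l : ℕ) * φ L.e) =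
        φ.toLinearMap ∘ fun l : Fin q => L.u ^ (l : ℕ) * L.e from funext fun l => by simp]
    exact h
  indep := by
    rw [show (fun l : Fin q => φ L.u ^ (l : ℕ) * φ L.e) =
      φ.toLinearMap ∘ fun l : Fin q => L.u ^ (l : ℕ) * L.e from funext fun l => by simp]
    exact L.indep.map' φ.toLinearMap (LinearMap.ker_eq_bot.2 φ.injective)

variable (L : Loc k A q)

/-- A central idempotent contains the idempotent or misses it. -/
lemma idem_mul_eq_or {x : A} (hx : x * x = x) (hc : ∀ a, x * a = a * x) :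
    L.f * x = 0 ∨ L.f * x = L.f := by
  rcases q with _ | r
  · left
    have he : L.e = 0 := by rw [← L.e_idem, ← one_mul L.e, ← pow_zero L.u, L.u_pow]; simp
    rw [← L.sum_UV, Finset.sum_mul]
    exact Finset.sum_eq_zero fun i _ => by rw [← L.Ue i, he, mul_zero, zero_mul, zero_mul]
  set y := L.f * x with hy
  have hyc : ∀ a, y * a = a * y := fun a => by
    rw [hy, mul_assoc, hc, ← mul_assoc, L.f_comm, mul_assoc]
  have hyf : L.f * y = y := by rw [hy, ← mul_assoc, L.f_idem]
  have hyy : IsIdempotentElem y := by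
    show y * y = y
    rw [hy, mul_assoc, ← mul_assoc x, hc, mul_assoc L.f x x, hx, ← mul_assoc, L.f_idem]
  obtain ⟨c, hcs⟩ := L.central_eq hyc hyf
  have hsum : y = c 0 • L.f + (∑ l : Fin r, c l.succ • (L.u ^ (l : ℕ) * L.f)) * L.u := by
    rw [hcs, Fin.sum_univ_succ, Finset.sum_mul]
    simp only [Fin.val_zero, pow_zero, one_mul, Fin.val_succ]
    congr 1
    refine Finset.sum_congr rfl fun l _ => ?_
    rw [smul_mul_assoc, mul_assoc, L.f_comm L.u, ← mul_assoc, ← pow_succ]
  set w := ∑ l : Fin r, c l.succ • (L.u ^ (l : ℕ) * L.f)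
  have hnil : IsNilpotent (w * L.u) :=
    Commute.isNilpotent_mul_left (L.u_comm w).symm ⟨_, L.u_pow⟩
  by_cases h0 : c 0 = 0
  · left
    obtain ⟨N, hN⟩ := hnil
    rw [h0, zero_smul, zero_add] at hsum
    rw [← hyy.pow_succ_eq N, hsum, pow_succ, hN, zero_mul]
  · right
    have hcompl : IsIdempotentElem (L.f - y) := by
      show (L.f - y) * (L.f - y) = L.f - y
      rw [sub_mul, mul_sub, mul_sub, L.f_idem, hyf, hyc L.f, hyf, hyy.eq, sub_self, sub_zero]
    -- the part killed by the scalar
    have hyu : (L.f - y) * (c 0 • L.f) = -((L.f - y) * (w * L.u)) := by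
      rw [eq_neg_iff_add_eq_zero, ← mul_add, ← hsum, sub_mul, hyf, hyy.eq, sub_self]
    have hcf : c 0 • (L.f - y) = -((L.f - y) * (w * L.u)) := by
      rw [← hyu, mul_smul_comm, sub_mul, L.f_idem, hyc L.f, hyf]
    have hz : IsNilpotent (L.f - y) := by
      have hcm : Commute (L.f - y) (w * L.u) :=
        (show ∀ a, (L.f - y) * a = a * (L.f - y) from fun a => by
          rw [sub_mul, mul_sub, L.f_comm, hyc]) _
      have := ((hcm.isNilpotent_mul_left hnil).neg).smul (c 0)⁻¹
      rwa [← hcf, smul_smul, inv_mul_cancel₀ h0, one_smul] at this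
    obtain ⟨N, hN⟩ := hz
    rw [eq_comm, ← sub_eq_zero, ← hcompl.pow_succ_eq N, pow_succ, hN, zero_mul]

end Loc

variable {k : Type*} [Field k] {G : Type*} [Group G] [Fintype G]

section Emb

variable (N : Subgroup G)

/-- The embedding of a subgroup algebra, as a map of algebras. -/
noncomputable def embAlg : MonoidAlgebra k N →ₐ[k] MonoidAlgebra k G :=
  MonoidAlgebra.mapDomainAlgHom k k N.subtype

lemma embAlg_single (x : N) (r : k) : embAlg N (single x r) = single (x : G) r := by
  simp [embAlg]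

lemma embAlg_eq_emb (a : MonoidAlgebra k N) : embAlg N a = emb N a := by
  rw [Loc.eq_sum_coeff a, map_sum]
  refine fn_ext fun g => ?_
  simp only [embAlg_single, fn_sum, fn_single]
  by_cases hg : g ∈ N
  · rw [fn_emb_mem N _ hg, fn_sum, Finset.sum_eq_single (⟨g, hg⟩ : N)
      (fun x _ hx => if_neg fun h : (x : G) = g => hx (Subtype.ext h)) (by simp), if_pos rfl,
      Finset.sum_eq_single (⟨g, hg⟩ : N) (fun x _ hx => by rw [fn_single, if_neg hx]) (by simp),
      fn_single, if_pos rfl]
  · rw [fn_emb_not_mem N _ hg]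
    exact Finset.sum_eq_zero fun x _ => if_neg fun h : (x : G) = g => hg (h ▸ x.2)

lemma resK_subgroup {H : Subgroup G} (hNH : N ≤ H) {V : Type*} [AddCommGroup V] [Module k V]
    (σ : Representation k G V) (a : MonoidAlgebra k N) :
    resK (Subgroup.inclusion hNH) (σ.comp H.subtype : Representation k H V) a =
      σ.asAlgebraHom (embAlg N a) := by
  rw [Loc.eq_sum_coeff a]
  simp only [map_sum, LinearMap.sum_apply, embAlg_single]
  refine Finset.sum_congr rfl fun x _ => ?_
  rw [Representation.asAlgebraHom_single, Representation.asAlgebraHom_single]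
  rfl

end Emb

section Conj

variable (N H : Subgroup G) (hnorm : ∀ h ∈ H, ∀ x ∈ N, h * x * h⁻¹ ∈ N)

/-- Conjugation of a normal subgroup. -/
def conjEquiv (h : H) : N ≃* N where
  toFun x := ⟨h * x * (h : G)⁻¹, hnorm _ h.2 _ x.2⟩
  invFun x := ⟨(h : G)⁻¹ * x * ((h : G)⁻¹)⁻¹, hnorm _ (H.inv_mem h.2) _ x.2⟩
  left_inv x := Subtype.ext (by group)
  right_inv x := Subtype.ext (by group)
  map_mul' x y := Subtype.ext (by simp only [Subgroup.coe_mul]; group)

/-- Conjugation of the algebra of a normal subgroup. -/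
noncomputable def conjAlg (h : H) : MonoidAlgebra k N ≃ₐ[k] MonoidAlgebra k N :=
  MonoidAlgebra.domCongr k k (conjEquiv N H hnorm h)

lemma conjAlg_single (h : H) (x : N) (r : k) :
    conjAlg N H hnorm h (single x r) = single (conjEquiv N H hnorm h x) r := by
  simp [conjAlg]

lemma embAlg_conjAlg (h : H) (a : MonoidAlgebra k N) :
    embAlg N (conjAlg N H hnorm h a) = cj (h : G) (embAlg N a) := by
  rw [Loc.eq_sum_coeff a]
  simp only [map_sum, conjAlg_single, embAlg_single, cj_sum]
  refine Finset.sum_congr rfl fun x _ => fn_ext fun g => ?_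
  rw [fn_cj, fn_single, fn_single]
  refine if_congr ⟨fun e => ?_, fun e => ?_⟩ rfl rfl
  · rw [← e]
    show (x : G) = (h : G)⁻¹ * ((h : G) * x * (h : G)⁻¹) * h
    group
  · show (h : G) * x * (h : G)⁻¹ = g
    rw [show (x : G) = (h : G)⁻¹ * g * h from e]
    group

lemma conjAlg_mul (g h : H) (a : MonoidAlgebra k N) :
    conjAlg N H hnorm g (conjAlg N H hnorm h a) = conjAlg N H hnorm (g * h) a := by
  rw [Loc.eq_sum_coeff a]
  simp only [map_sum, conjAlg_single]
  refine Finset.sum_congr rfl fun x _ => ?_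
  congr 1
  refine Subtype.ext ?_
  show (g : G) * ((h : G) * x * (h : G)⁻¹) * (g : G)⁻¹ = ((g * h : H) : G) * x * ((g * h : H) : G)⁻¹
  rw [Subgroup.coe_mul]
  group

lemma conjAlg_one (a : MonoidAlgebra k N) : conjAlg N H hnorm 1 a = a := by
  rw [Loc.eq_sum_coeff a]
  simp only [map_sum, conjAlg_single]
  refine Finset.sum_congr rfl fun x _ => ?_
  congr 1
  exact Subtype.ext (by show ((1 : H) : G) * x * ((1 : H) : G)⁻¹ = x; simp)

lemma conj_apply (hNH : N ≤ H) {W : Type*} [AddCommGroup W] [Module k W]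
    (τ : Representation k H W) (h : H) (a : MonoidAlgebra k N) (w : W) :
    τ h (resK (Subgroup.inclusion hNH) τ a w) =
      resK (Subgroup.inclusion hNH) τ (conjAlg N H hnorm h a) (τ h w) := by
  rw [Loc.eq_sum_coeff a]
  simp only [map_sum, LinearMap.sum_apply, conjAlg_single]
  refine Finset.sum_congr rfl fun x _ => ?_
  have h1 : ∀ (y : N), (single y (a.coeff x) : MonoidAlgebra k N) = a.coeff x • single y 1 :=
    fun y => by rw [smul_single, smul_eq_mul, mul_one]
  rw [h1 x, h1 (conjEquiv N H hnorm h x)]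
  simp only [map_smul, LinearMap.smul_apply, resK_single, ← Module.End.mul_apply, ← map_mul]
  congr 3
  exact Subtype.ext (by
    show (h : G) * x = (h : G) * x * (h : G)⁻¹ * h
    group)

/-- The orbit of an idempotent. -/
noncomputable def orbit (f : MonoidAlgebra k N) : Finset (MonoidAlgebra k N) :=
  Finset.univ.image fun h : H => conjAlg N H hnorm h f

variable {N H hnorm}

lemma mem_orbit {f x : MonoidAlgebra k N} :
    x ∈ orbit N H hnorm f ↔ ∃ h : H, conjAlg N H hnorm h f = x := by
  simp [orbit]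

lemma self_mem_orbit (f : MonoidAlgebra k N) : f ∈ orbit N H hnorm f :=
  mem_orbit.2 ⟨1, conjAlg_one N H hnorm f⟩

lemma conj_mem_orbit {f x : MonoidAlgebra k N} (g : H) (hx : x ∈ orbit N H hnorm f) :
    conjAlg N H hnorm g x ∈ orbit N H hnorm f := by
  obtain ⟨h, rfl⟩ := mem_orbit.1 hx
  exact mem_orbit.2 ⟨g * h, (conjAlg_mul N H hnorm g h f).symm⟩

variable {q : ℕ} (L₀ : Loc k (MonoidAlgebra k N) q)

/-- The local algebra at a conjugate. -/
noncomputable def orbitLoc (x : orbit N H hnorm L₀.f) : Loc k (MonoidAlgebra k N) q :=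
  L₀.map (conjAlg N H hnorm (mem_orbit.1 x.2).choose)

lemma orbitLoc_f (x : orbit N H hnorm L₀.f) : (orbitLoc L₀ x).f = (x : MonoidAlgebra k N) :=
  (mem_orbit.1 x.2).choose_spec

lemma orbitLoc_orth (x y : orbit N H hnorm L₀.f) (hne : x ≠ y) :
    (orbitLoc L₀ x).f * (orbitLoc L₀ y).f = 0 := by
  rcases (orbitLoc L₀ x).idem_mul_eq_or (orbitLoc L₀ y).f_idem (orbitLoc L₀ y).f_comm with h | h
  · exact h
  rcases (orbitLoc L₀ y).idem_mul_eq_or (orbitLoc L₀ x).f_idem (orbitLoc L₀ x).f_comm with h' | h'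
  · rw [← (orbitLoc L₀ y).f_comm, h']
  · refine absurd (Subtype.ext ?_) hne
    rw [← (orbitLoc L₀ y).f_comm, h'] at h
    rw [← orbitLoc_f L₀ x, ← orbitLoc_f L₀ y]
    exact h.symm

/-- The sum of the orbit is fixed. -/
lemma conjAlg_sum_orbit (g : H) (f : MonoidAlgebra k N) :
    conjAlg N H hnorm g (∑ x ∈ orbit N H hnorm f, x) = ∑ x ∈ orbit N H hnorm f, x := by
  rw [map_sum]
  refine Finset.sum_nbij' (conjAlg N H hnorm g) (conjAlg N H hnorm g⁻¹)
    (fun x hx => conj_mem_orbit g hx) (fun x hx => conj_mem_orbit g⁻¹ hx) (fun x _ => ?_)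
    (fun x _ => ?_) fun x _ => rfl
  · rw [conjAlg_mul, inv_mul_cancel, conjAlg_one]
  · rw [conjAlg_mul, mul_inv_cancel, conjAlg_one]

lemma exists_index (hNH : N ≤ H) (hidx : ((N.subgroupOf H).index : k) ≠ 0) :
    (Nat.card (H ⧸ (Subgroup.inclusion hNH).range) : k) ≠ 0 := by
  rw [← Subgroup.index_eq_card, Subgroup.inclusion_range]
  exact hidx

/-- **Representations cut by the orbit are local.** -/
theorem isLocalRep_orbit {r : ℕ} (L : Loc k (MonoidAlgebra k N) (r + 1)) (hNH : N ≤ H)
    (hidx : ((N.subgroupOf H).index : k) ≠ 0) {W : Type*} [AddCommGroup W] [Module k W]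
    {τ : Representation k H W}
    (hb : resK (Subgroup.inclusion hNH) τ (∑ x ∈ orbit N H hnorm L.f, x) = 1) :
    IsLocalRep (fun x : orbit N H hnorm L.f => orbitLoc L x) (Subgroup.inclusion hNH) τ := by
  set ι := Subgroup.inclusion hNH
  set ρ := resK ι τ with hρ
  have hsum : ∑ x : orbit N H hnorm L.f, ρ (orbitLoc L x).f = 1 := by
    rw [← map_sum, ← hb]
    congr 1
    simp only [orbitLoc_f]
    exact Finset.sum_coe_sort (orbit N H hnorm L.f) id
  have horth := orbitLoc_orth (hnorm := hnorm) L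
  set u := fun x : orbit N H hnorm L.f => (orbitLoc L x).u
  set U := ρ (∑ x, u x)
  have hUf : ∀ x w, U (ρ (orbitLoc L x).f w) = ρ (u x) w := fun x w => by
    rw [← Module.End.mul_apply, ← map_mul, Finset.sum_mul, Finset.sum_eq_single x
      (fun x' _ hne => by
        show (orbitLoc L x').u * _ = 0
        rw [← (orbitLoc L x').fu, (orbitLoc L x').f_comm, mul_assoc, horth x' x hne, mul_zero])
      (by simp), ← (orbitLoc L x).f_comm, (orbitLoc L x).fu]
  have hsplit : ∀ w : W, w = ∑ x, ρ (orbitLoc L x).f w := fun w => by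
    rw [← LinearMap.sum_apply, hsum]; rfl
  -- comparison with the transported structure
  have hcmp : ∀ (g : H) (x : orbit N H hnorm L.f), ∃ x' : orbit N H hnorm L.f,
      (x' : MonoidAlgebra k N) = conjAlg N H hnorm g x ∧
      (∀ j w, τ g (ρ (u x ^ j) w) ∈ LinearMap.range (ρ (u x' ^ j))) ∧
      ∀ w, ρ (u x) w = 0 → ρ (u x') (τ g w) = 0 := by
    intro g x
    set x' : orbit N H hnorm L.f := ⟨_, conj_mem_orbit g x.2⟩
    set Lg := (orbitLoc L x).map (conjAlg N H hnorm g) with hLg
    have hf : Lg.f = (orbitLoc L x').f := by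
      rw [orbitLoc_f]
      show conjAlg N H hnorm g (orbitLoc L x).f = _
      rw [orbitLoc_f]
    refine ⟨x', rfl, ?_, ?_⟩
    · intro j w
      rw [hρ, conj_apply N H hnorm hNH τ g]
      refine (Loc.range_pow_eq (L := orbitLoc L x') (ρ := ρ) Lg hf j).1 ⟨τ g w, ?_⟩
      rw [show Lg.u = conjAlg N H hnorm g (u x) from rfl, ← map_pow]
    · intro w hw
      have h2 : ρ Lg.u (τ g w) = 0 := by
        rw [show Lg.u = conjAlg N H hnorm g (u x) from rfl, hρ,
          ← conj_apply N H hnorm hNH τ g, ← hρ, hw, map_zero]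
      exact (Loc.range_pow_eq (L := Lg) (ρ := ρ) (orbitLoc L x') hf.symm 0).2 (LinearMap.mem_ker.2 h2)
  refine ⟨hsum, horth, Subgroup.inclusion_injective hNH, exists_index hNH hidx, ?_, ?_⟩
  · intro g v hv
    have hker : ∀ x, ρ (u x) v = 0 := fun x => by
      rw [← hUf, ← Module.End.mul_apply, ← map_mul, ← (orbitLoc L x).f_comm, map_mul,
        Module.End.mul_apply, hv, map_zero]
    rw [map_sum, LinearMap.sum_apply]
    refine Finset.sum_eq_zero fun y _ => ?_
    obtain ⟨x', hx', -, hk⟩ := hcmp g ⟨_, conj_mem_orbit g⁻¹ y.2⟩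
    obtain rfl : x' = y := Subtype.ext (by
      rw [hx']
      show conjAlg N H hnorm g (conjAlg N H hnorm g⁻¹ (y : MonoidAlgebra k N)) = (y : MonoidAlgebra k N)
      rw [conjAlg_mul, mul_inv_cancel, conjAlg_one])
    exact hk v (hker _)
  · rintro g j _ ⟨w, rfl⟩
    have hpow : ∀ x z, (U ^ j) (ρ (orbitLoc L x).f z) = ρ (u x ^ j) (ρ (orbitLoc L x).f z) := by
      intro x z
      induction j with
      | zero => simp
      | succ j ih =>
        rw [pow_succ', Module.End.mul_apply, ih, pow_succ', map_mul, Module.End.mul_apply,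
          show ρ (u x ^ j) (ρ (orbitLoc L x).f z) =
            ρ (orbitLoc L x).f (ρ (u x ^ j) (ρ (orbitLoc L x).f z)) by
          simp only [← Module.End.mul_apply, ← map_mul, ← mul_assoc]
          rw [(orbitLoc L x).f_comm (u x ^ j), mul_assoc (u x ^ j), (orbitLoc L x).f_idem], hUf]
        simp only [← Module.End.mul_apply, ← map_mul, ← mul_assoc]
        congr 2
        rw [mul_assoc (u x) (orbitLoc L x).f, (orbitLoc L x).f_comm (u x ^ j), mul_assoc,
          mul_assoc, mul_assoc, (orbitLoc L x).f_idem]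
    show τ g ((U ^ j) w) ∈ LinearMap.range (U ^ j)
    rw [hsplit w, map_sum, map_sum]
    refine Submodule.sum_mem _ fun x _ => ?_
    rw [hpow]
    obtain ⟨x', hx', hr, -⟩ := hcmp g x
    obtain ⟨y, hy⟩ := hr j (ρ (orbitLoc L x).f w)
    refine ⟨ρ (orbitLoc L x').f y, ?_⟩
    rw [hpow, ← Module.End.mul_apply, ← map_mul, ← (orbitLoc L x').f_comm (u x' ^ j), map_mul,
      Module.End.mul_apply, hy, hρ, orbitLoc_f L x', hx', conj_apply N H hnorm hNH τ g (u x ^ j),
      ← Module.End.mul_apply, ← map_mul, ← map_mul (conjAlg N H hnorm g), ← orbitLoc_f L x]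
    rw [show (orbitLoc L x).f * u x ^ j = u x ^ j * (orbitLoc L x).f from
      (orbitLoc L x).f_comm _, map_mul (conjAlg N H hnorm g), map_mul, Module.End.mul_apply,
      conj_apply N H hnorm hNH τ g]
    congr 1
    rw [← Module.End.mul_apply (resK ι τ (conjAlg N H hnorm g (orbitLoc L x).f)), ← map_mul,
      ← map_mul (conjAlg N H hnorm g), (orbitLoc L x).f_idem]

end Conj

end Cfsg.Lib.Blocks.CyclicDefect
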