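import Mathlib
import Cfsg.Agent.Blocks.CyclicDefect.Orbit
import Cfsg.Agent.Blocks.Third
import Cfsg.Agent.Blocks.Star.Trace

/-!
# Relative projectivity at the defect group

The idempotent of a block with a local algebra is a trace from its defect group, as the class sum
of a defect class is invertible in the local centre.
-/

set_option autoImplicit false
set_option linter.unusedSectionVars false

namespace Cfsg.Lib.Blocks.CyclicDefect

open Cfsg.Lib.Chars MonoidAlgebra
open scoped Classical

universe u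

variable {G : Type u} [Group G] [Fintype G] {M : Ideal AlgInt} {p : ℕ} [Fact p.Prime]
  {B : Set (IrrCharacter G)} {D : Subgroup G}

/-- A multiple of a class sum is a trace from a Sylow subgroup of the centralizer. -/
theorem exists_cls_eq_trace {R : Type*} [CommRing R] (g : G)
    (S : Sylow p (Subgroup.centralizer ({g} : Set G)))
    (hD : D = (S : Subgroup (Subgroup.centralizer ({g} : Set G))).map
      (Subgroup.centralizer ({g} : Set G)).subtype) :
    ∃ m : ℕ, ¬ p ∣ m ∧ (∀ u ∈ D, cj u (single g (1 : R)) = single g 1) ∧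
      ∑ c : G ⧸ D, cj c.out (single g (1 : R)) = (m : R) • cls R g := by
  have hDC : D ≤ (Subgroup.centralizer ({g} : Set G)) := hD ▸ Subgroup.map_subtype_le _
  have hDS : D.subgroupOf (Subgroup.centralizer ({g} : Set G)) = (S : Subgroup (Subgroup.centralizer ({g} : Set G))) := by
    rw [hD]; exact Subgroup.comap_map_eq_self_of_injective (Subgroup.centralizer ({g} : Set G)).subtype_injective _
  have hcm : ∀ u ∈ (Subgroup.centralizer ({g} : Set G)), u * g = g * u := fun u hu => Subgroup.mem_centralizer_singleton_iff.1 hu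
  have hfix : ∀ u ∈ D, cj u (single g (1 : R)) = single g 1 := fun u hu => fn_ext fun x => by
    rw [fn_cj, fn_single, fn_single]
    refine if_congr ⟨fun e => ?_, fun e => ?_⟩ rfl rfl
    · calc g = u * g * u⁻¹ := by rw [hcm u (hDC hu), mul_inv_cancel_right]
        _ = x := by rw [e]; group
    · rw [← e]
      calc g = u⁻¹ * (u * g) := by group
        _ = _ := by rw [hcm u (hDC hu), mul_assoc]
  have hkey : ∀ (k x : G), g = k⁻¹ * x * k ↔ k * g * k⁻¹ = x := fun k x =>
    ⟨fun e => by rw [e]; group, fun e => by rw [← e]; group⟩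
  refine ⟨(D.subgroupOf (Subgroup.centralizer ({g} : Set G))).index, hDS ▸ S.not_dvd_index, hfix, fn_ext fun x => ?_⟩
  rw [fn_sum, fn_smul, fn_cls]
  simp only [fn_cj, fn_single, hkey]
  rw [Finset.sum_boole]
  by_cases hx : IsConj g x
  · obtain ⟨a, ha⟩ := isConj_iff.1 hx
    rw [if_pos hx, mul_one, Subgroup.index_eq_card, Nat.card_eq_fintype_card, ← Finset.card_univ]
    congr 1
    symm
    refine Finset.card_bij (fun c _ => (QuotientGroup.mk (a * ((c.out : (Subgroup.centralizer ({g} : Set G))) : G)) : G ⧸ D))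
      (fun c _ => ?_) (fun c _ c' _ h => ?_) fun y hy => ?_
    · refine Finset.mem_filter.2 ⟨Finset.mem_univ _, ?_⟩
      obtain ⟨⟨u, hu⟩, he⟩ := QuotientGroup.mk_out_eq_mul D (a * ((c.out : (Subgroup.centralizer ({g} : Set G))) : G))
      rw [he, show a * ((c.out : (Subgroup.centralizer ({g} : Set G))) : G) * u * g * (a * ((c.out : (Subgroup.centralizer ({g} : Set G))) : G) * u)⁻¹ =
        a * ((((c.out : (Subgroup.centralizer ({g} : Set G))) : G) * u * g) * (((c.out : (Subgroup.centralizer ({g} : Set G))) : G) * u)⁻¹) * a⁻¹ by group,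
        hcm _ ((Subgroup.centralizer ({g} : Set G)).mul_mem (c.out : (Subgroup.centralizer ({g} : Set G))).2 (hDC hu)), mul_inv_cancel_right, ha]
    · rw [QuotientGroup.eq] at h
      rw [← QuotientGroup.out_eq' c, ← QuotientGroup.out_eq' c', QuotientGroup.eq,
        Subgroup.mem_subgroupOf]
      simpa [mul_assoc] using h
    · have hy' := (Finset.mem_filter.1 hy).2
      have hmem : a⁻¹ * y.out ∈ (Subgroup.centralizer ({g} : Set G)) := Subgroup.mem_centralizer_singleton_iff.2 (by
        calc a⁻¹ * y.out * g = a⁻¹ * (y.out * g * y.out⁻¹) * y.out := by group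
          _ = g * (a⁻¹ * y.out) := by rw [hy', ← ha]; group)
      obtain ⟨⟨u, hu⟩, he⟩ := QuotientGroup.mk_out_eq_mul (D.subgroupOf (Subgroup.centralizer ({g} : Set G))) (⟨_, hmem⟩ : (Subgroup.centralizer ({g} : Set G)))
      refine ⟨QuotientGroup.mk ⟨_, hmem⟩, Finset.mem_univ _, ?_⟩
      rw [he]
      conv_rhs => rw [← QuotientGroup.out_eq' y]
      rw [QuotientGroup.eq]
      simpa [mul_assoc] using D.inv_mem (Subgroup.mem_subgroupOf.1 hu)
  · rw [if_neg hx, mul_zero, Finset.filter_eq_empty_iff.2 fun c _ h => hx (isConj_iff.2 ⟨_, h⟩)]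
    simp

/-- **The block idempotent is a trace from the defect group.** -/
theorem exists_trace_idem (hM : IsPModular p M) (hB : IsPBlock M B)
    (hD : IsDefectGroup p M B D) {r : ℕ}
    (L : Loc (Res M) (MonoidAlgebra (Res M) G) (r + 1)) (hf : L.f = red M (blockElem B)) :
    ∃ y : MonoidAlgebra (Res M) G, (∀ u ∈ D, cj u y = y) ∧
      L.f = ∑ c : G ⧸ D, cj c.out y := by
  haveI := charP_res hM
  obtain ⟨g, hg, S, hS⟩ := hD
  obtain ⟨m, hm, hfix, htr⟩ := exists_cls_eq_trace (R := Res M) g S hS
  obtain ⟨χ, hχ⟩ := IsPBlock.nonempty hM hB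
  have hKc : IsCentralFn (cls (Res M) g : MonoidAlgebra (Res M) G) := isCentralFn_cls g
  have hfc : IsCentralFn L.f := hf ▸ (isCentralFn_blockElem B).red
  set z := cls (Res M) g * L.f with hz
  have hzc : ∀ a, z * a = a * z := fun a => by
    rw [hz, mul_assoc, L.f_comm, ← mul_assoc, hKc.comm, mul_assoc]
  have hzf : L.f * z = z := by rw [hz, ← mul_assoc, L.f_comm, mul_assoc, L.f_idem]
  have hnot : ¬ IsNilpotent z := by
    rintro ⟨N, hN⟩
    have hint : Integral M (cls ℂ g * blockElem B) :=
      (integral_cls g).mul (integral_blockElem hM hB)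
    have hc : IsCentralFn (cls ℂ g * blockElem B) :=
      (isCentralFn_cls g).mul (isCentralFn_blockElem B)
    have hred : red M (cls ℂ g * blockElem B) = z := by
      rw [red_mul (integral_cls g) (integral_blockElem hM hB), red_cls, hz, hf]
    have h := res_omega_eq_of_red_eq hM χ (hc.pow (N + 1)) (hint.pow (N + 1))
      (b := 0) (fun _ _ => by simp) (fun _ => by simp [zero_mem]) (by
        rw [red_pow hint, hred, pow_succ, hN, zero_mul]
        exact fn_ext fun x => by simp [fn_red])
    have hpow : ∀ n : ℕ, omega (χ : G → ℂ) ((cls ℂ g * blockElem B) ^ n) =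
        centralChar (χ : G → ℂ) g ^ n := fun n => by
      induction n with
      | zero => rw [pow_zero, pow_zero, omega_one]
      | succ n ih =>
        rw [pow_succ, omega_mul χ (hc.pow n), ih, omega_mul χ (isCentralFn_cls g), omega_cls_irr,
          omega_blockElem, if_pos hχ, mul_one, pow_succ]
    have hpl : centralChar (χ : G → ℂ) g ∈ place M := centralChar_mem_place hM χ g
    rw [hpow, omega_zero, res_zero, res_eq_zero_iff (pow_mem hpl _)] at h
    have hv := ((isDefectClass_iff hM hB g).1 hg).2 χ hχ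
    refine hv (small_iff.2 ?_)
    have h1 := small_iff.1 h
    rw [map_pow] at h1
    by_contra hle
    exact absurd h1 (not_lt.2 (one_le_pow₀ (not_lt.1 hle)))
  obtain ⟨c, hcs⟩ := L.central_eq hzc hzf
  set w := ∑ l : Fin r, c l.succ • (L.u ^ (l : ℕ) * L.f)
  have hsum : z = c 0 • L.f + w * L.u := by
    rw [hcs, Fin.sum_univ_succ, Finset.sum_mul]
    simp only [Fin.val_zero, pow_zero, one_mul, Fin.val_succ]
    congr 1
    refine Finset.sum_congr rfl fun l _ => ?_
    rw [smul_mul_assoc, mul_assoc, L.f_comm L.u, ← mul_assoc, ← pow_succ]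
  have hnil : IsNilpotent (w * L.u) :=
    Commute.isNilpotent_mul_left (L.u_comm w).symm ⟨_, L.u_pow⟩
  have h0 : c 0 ≠ 0 := fun h => hnot (by rw [hsum, h, zero_smul, zero_add]; exact hnil)
  -- a unit extending it
  have hwu : ∀ a, w * L.u * a = a * (w * L.u) := fun a => by
    rw [show w * L.u = z - c 0 • L.f by rw [hsum, add_sub_cancel_left], sub_mul, mul_sub, hzc,
      smul_mul_assoc, mul_smul_comm, L.f_comm]
  have hunit : IsUnit (c 0 • L.f + (1 - L.f) + w * L.u) := by
    refine IsNilpotent.isUnit_add_left_of_commute hnil ?_ (hwu _)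
    refine ⟨⟨c 0 • L.f + (1 - L.f), (c 0)⁻¹ • L.f + (1 - L.f), ?_, ?_⟩, rfl⟩
    all_goals
      have key : ∀ a b : Res M, (a • L.f + (1 - L.f)) * (b • L.f + (1 - L.f)) =
          (a * b) • L.f + (1 - L.f) := fun a b => by
        have h1 : L.f * (1 - L.f) = 0 := by rw [mul_sub, mul_one, L.f_idem, sub_self]
        have h2 : (1 - L.f) * L.f = 0 := by rw [sub_mul, one_mul, L.f_idem, sub_self]
        have h3 : (1 - L.f) * (1 - L.f) = 1 - L.f := by rw [sub_mul, one_mul, h1, sub_zero]
        rw [add_mul, mul_add, mul_add, smul_mul_smul_comm, L.f_idem, smul_mul_assoc, h1, smul_zero,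
          mul_smul_comm, h2, smul_zero, h3, add_zero, zero_add]
    · rw [key, mul_inv_cancel₀ h0, one_smul, add_sub_cancel]
    · rw [key, inv_mul_cancel₀ h0, one_smul, add_sub_cancel]
  obtain ⟨v, hv⟩ := hunit
  have hfv : L.f * (v : MonoidAlgebra (Res M) G) = z := by
    rw [hv, mul_add, mul_add, mul_smul_comm, L.f_idem, mul_sub, mul_one, L.f_idem, sub_self,
      add_zero, ← mul_assoc, L.f_comm w, mul_assoc, L.fu, ← hsum]
  have hvc : ∀ a, (v : MonoidAlgebra (Res M) G) * a = a * v := fun a => by
    rw [hv, add_mul, add_mul, mul_add, mul_add, hwu, smul_mul_assoc, mul_smul_comm, sub_mul,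
      mul_sub, one_mul, mul_one, L.f_comm]
  have hvic : ∀ a, ((v⁻¹ : (MonoidAlgebra (Res M) G)ˣ) : MonoidAlgebra (Res M) G) * a = a * ↑v⁻¹ :=
    fun a => ((show Commute (v : MonoidAlgebra (Res M) G) a from hvc a).units_inv_left).eq
  have hm0 : (m : Res M) ≠ 0 := fun h => hm ((CharP.cast_eq_zero_iff (Res M) p m).1 h)
  set t := L.f * ((v⁻¹ : (MonoidAlgebra (Res M) G)ˣ) : MonoidAlgebra (Res M) G)
  have htc : ∀ x : G, cj x t = t := fun x => by
    have hcomm : ∀ a, t * a = a * t := fun a => by
      show L.f * _ * a = a * (L.f * _)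
      rw [mul_assoc, hvic, ← mul_assoc, L.f_comm, mul_assoc]
    refine (invOn_iff (H := ⊤)).1 (fun h _ g' => ?_) x (Subgroup.mem_top x)
    have h1 := congrArg (fun a => fn a (h * g')) (hcomm (single h (1 : Res M)))
    simp only [fn_single_mul, fn_mul_single, one_mul, mul_one, inv_mul_cancel_left] at h1
    exact h1
  refine ⟨(m : Res M)⁻¹ • (t * single g 1), fun u hu => ?_, ?_⟩
  · rw [Star.cj_smul', cj_mul, htc, hfix u hu]
  · simp only [Star.cj_smul', cj_mul, htc]
    rw [← Finset.smul_sum, ← Finset.mul_sum, htr, mul_smul_comm, smul_smul,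
      inv_mul_cancel₀ hm0, one_smul]
    show L.f = L.f * _ * cls (Res M) g
    rw [mul_assoc, hvic, ← mul_assoc, L.f_comm, ← hz, ← hfv, mul_assoc, Units.mul_inv, mul_one]

end Cfsg.Lib.Blocks.CyclicDefect
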