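import Mathlib
import Cfsg.Agent.Blocks.CyclicDefect.Local
import Cfsg.Agent.Blocks.CyclicDefect.Relative
import Cfsg.Agent.Blocks.AbelianSubsections

/-!
# The local blocks at the subgroup of order `p` of a cyclic defect group

The block below the maximal pair has a local algebra, its conjugates under the normalizer of the
subgroup of order `p` sum to the Brauer image of the block, and that image is a trace from the
defect group.
-/

set_option autoImplicit false
set_option linter.unusedSectionVars false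
set_option linter.style.haveILetI false

namespace Cfsg.Lib.Blocks.CyclicDefect

open Cfsg.Lib.Chars MonoidAlgebra Cfsg.Lib.Blocks.IBr Cfsg.Lib.Blocks.Star
open scoped Classical

universe u

local notation "C⟨" Q "⟩" => Subgroup.centralizer (SetLike.coe Q)

variable {G : Type u} [Group G] [Fintype G] {M : Ideal AlgInt} {p : ℕ} [Fact p.Prime]

/-- An element of order `p` below every nontrivial element of a cyclic `p`-group. -/
theorem exists_bottom {P : Subgroup G} (hP : IsPGroup p P) (hcyc : IsCyclic P) (hP1 : P ≠ ⊥) :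
    ∃ z ∈ P, orderOf z = p ∧ (∀ u ∈ P, u ≠ 1 → z ∈ Subgroup.zpowers u) ∧
      ∀ u ∈ P, u ^ p = 1 → u ∈ Subgroup.zpowers z := by
  haveI : Nontrivial P := (Subgroup.nontrivial_iff_ne_bot P).2 hP1
  have hdvd : p ∣ Nat.card P := by
    obtain ⟨n, hn0, hn⟩ := (IsPGroup.nontrivial_iff_card hP).1 inferInstance
    rw [hn]; exact dvd_pow_self p hn0.ne'
  obtain ⟨z₀, hz₀⟩ := exists_prime_orderOf_dvd_card' p hdvd
  have hpow : ∀ u ∈ P, u ^ p = 1 → u ∈ Subgroup.zpowers (z₀ : G) := by
    intro u hu hup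
    have hset : (Finset.univ.filter fun a : P => a ^ p = 1).card ≤ p :=
      IsCyclic.card_pow_eq_one_le (Fact.out : p.Prime).pos
    have hsub : (Finset.univ.filter fun a : P => a ∈ Subgroup.zpowers z₀) ⊆
        Finset.univ.filter fun a : P => a ^ p = 1 := fun a ha => by
      obtain ⟨n, rfl⟩ := (Finset.mem_filter.1 ha).2
      refine Finset.mem_filter.2 ⟨Finset.mem_univ _, ?_⟩
      rw [← zpow_natCast, ← zpow_mul, mul_comm, zpow_mul, zpow_natCast, ← hz₀, pow_orderOf_eq_one,
        one_zpow]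
    have hc : (Finset.univ.filter fun a : P => a ∈ Subgroup.zpowers z₀).card = p := by
      rw [← hz₀, ← Nat.card_zpowers, Nat.card_eq_fintype_card, Fintype.card_subtype]
    have heq := Finset.eq_of_subset_of_card_le hsub (by rw [hc]; exact hset)
    have : (⟨u, hu⟩ : P) ∈ Finset.univ.filter fun a : P => a ^ p = 1 :=
      Finset.mem_filter.2 ⟨Finset.mem_univ _, Subtype.ext hup⟩
    rw [← heq] at this
    obtain ⟨n, hn⟩ := (Finset.mem_filter.1 this).2
    exact ⟨n, congrArg Subtype.val hn⟩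
  refine ⟨z₀, z₀.2, by rw [Subgroup.orderOf_coe, hz₀], fun u hu hu1 => ?_, hpow⟩
  obtain ⟨k, hk⟩ := IsPGroup.iff_orderOf.1 hP ⟨u, hu⟩
  rw [Subgroup.orderOf_mk] at hk
  obtain ⟨k, rfl⟩ : ∃ k', k = k' + 1 :=
    ⟨k - 1, by rcases k with _ | k <;> simp_all⟩
  set v := u ^ p ^ k
  have hvp : orderOf v = p := by
    rw [orderOf_pow_of_dvd (pow_ne_zero _ (Fact.out : p.Prime).ne_zero)
      (by rw [hk]; exact pow_dvd_pow _ (Nat.le_succ k)), hk, pow_succ,
      Nat.mul_div_cancel_left _ (pow_pos (Fact.out : p.Prime).pos k)]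
  have hv : v ∈ Subgroup.zpowers (z₀ : G) :=
    hpow v (P.pow_mem hu _) (by rw [← hvp, pow_orderOf_eq_one])
  have heq : Subgroup.zpowers v = Subgroup.zpowers (z₀ : G) :=
    Subgroup.eq_of_le_of_card_ge (Subgroup.zpowers_le.2 hv)
      (by rw [Nat.card_zpowers, Nat.card_zpowers, hvp, Subgroup.orderOf_coe, hz₀])
  refine Subgroup.zpowers_le.2 (Subgroup.pow_mem _ (Subgroup.mem_zpowers u) (p ^ k)) ?_
  show (z₀ : G) ∈ Subgroup.zpowers v
  rw [heq]
  exact Subgroup.mem_zpowers _

/-- An element sending a generator of a subgroup of prime order into it normalises it. -/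
lemma mem_normalizer_of_conj {z : G} (hz : orderOf z = p) {g : G}
    (h : g * z * g⁻¹ ∈ Subgroup.zpowers z) : g ∈ Subgroup.normalizer (Subgroup.zpowers z : Set G) := by
  have hle : (Subgroup.zpowers z).map (MulAut.conj g).toMonoidHom ≤ Subgroup.zpowers z := by
    rw [MonoidHom.map_zpowers, Subgroup.zpowers_le]
    simpa using h
  have heq := Subgroup.eq_of_le_of_card_ge hle (card_map_conj _ g).ge
  refine Subgroup.mem_normalizer_iff.2 fun a => ?_
  constructor
  · intro ha
    exact heq.le ⟨a, ha, by simp⟩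
  · intro ha
    obtain ⟨b, hb, hba⟩ := heq.symm.le ha
    rwa [← (MulAut.conj g).injective hba]

lemma normalizer_conj (z : G) : ∀ h ∈ Subgroup.normalizer (Subgroup.zpowers z : Set G),
    ∀ x ∈ C⟨Subgroup.zpowers z⟩, h * x * h⁻¹ ∈ C⟨Subgroup.zpowers z⟩ := by
  intro h hh x hx
  refine Subgroup.mem_centralizer_iff.2 fun y hy => ?_
  have h1 := Subgroup.mem_centralizer_iff.1 hx _
    ((Subgroup.mem_normalizer_iff.1 (inv_mem hh) y).1 hy)
  rw [inv_inv] at h1
  calc y * (h * x * h⁻¹) = h * (h⁻¹ * y * h * x) * h⁻¹ := by group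
    _ = h * x * h⁻¹ * y := by rw [h1]; group

/-- **The exponent character.** -/
theorem exists_exponent_hom (k : Type*) [Field k] [CharP k p] {z : G} (hz : orderOf z = p) :
    ∃ ω : Subgroup.normalizer (Subgroup.zpowers z : Set G) →* kˣ,
      ∀ h : Subgroup.normalizer (Subgroup.zpowers z : Set G),
        ω h = 1 ↔ (h : G) ∈ C⟨Subgroup.zpowers z⟩ := by
  set H := Subgroup.normalizer (Subgroup.zpowers z : Set G)
  choose n hn using fun h : H => Subgroup.mem_zpowers_iff.1
    ((Subgroup.mem_normalizer_iff.1 h.2 z).1 (Subgroup.mem_zpowers z))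
  have hiff : ∀ a b : ℤ, (a : k) = b ↔ z ^ a = z ^ b := fun a b => by
    rw [CharP.intCast_eq_intCast k p, zpow_eq_zpow_iff_modEq, hz]
  let f : H →* k :=
    { toFun := fun h => ((n h : ℤ) : k)
      map_one' := by
        rw [← Int.cast_one, hiff, hn, zpow_one]
        simp
      map_mul' := fun a b => by
        rw [← Int.cast_mul, hiff, hn, zpow_mul, hn a, conj_zpow, hn b]
        simp only [Subgroup.coe_mul]
        group }
  refine ⟨f.toHomUnits, fun h => ?_⟩
  rw [← Units.val_inj, MonoidHom.coe_toHomUnits, Units.val_one]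
  show ((n h : ℤ) : k) = 1 ↔ _
  rw [← Int.cast_one, hiff, hn, zpow_one, centralizer_zpowers,
    Subgroup.mem_centralizer_singleton_iff, mul_inv_eq_iff_eq_mul]

/-- The index of the kernel of a character is prime to the characteristic. -/
lemma index_cast_ne_zero {k : Type*} [Field k] [CharP k p] {H : Type*} [Group H] [Finite H]
    (ω : H →* kˣ) : (ω.ker.index : k) ≠ 0 := by
  intro h
  rw [CharP.cast_eq_zero_iff k p, Subgroup.index_ker] at h
  haveI : Finite ω.range := Finite.of_surjective ω.rangeRestrict ω.rangeRestrict_surjective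
  obtain ⟨x, hx⟩ := exists_prime_orderOf_dvd_card' p h
  have h1 : ((x : kˣ) : k) ^ p = 1 := by
    rw [← Units.val_pow_eq_pow_val, ← Units.val_one, ← hx, ← Subgroup.coe_pow, pow_orderOf_eq_one,
      Subgroup.coe_one]
  have h2 : (((x : kˣ) : k) - 1) ^ p = 0 := by rw [sub_pow_char, h1, one_pow, sub_self]
  have h3 : x = 1 := Subtype.ext (Units.ext (sub_eq_zero.1 (eq_zero_of_pow_eq_zero h2)))
  rw [h3, orderOf_one] at hx
  exact (Fact.out : p.Prime).ne_one hx.symm

/-- The number of cosets fixing an element of an orbit, and the orbit sum. -/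
lemma sum_quotient_orbit {k : Type*} [Field k] {N H : Subgroup G}
    {hnorm : ∀ h ∈ H, ∀ x ∈ N, h * x * h⁻¹ ∈ N} {f : MonoidAlgebra k N}
    (hN : ∀ h : H, (h : G) ∈ N → conjAlg N H hnorm h f = f) :
    ∃ d : ℕ, d ∣ (N.subgroupOf H).index ∧
      ∑ c : H ⧸ N.subgroupOf H, conjAlg N H hnorm c.out f = d • ∑ x ∈ orbit N H hnorm f, x := by
  set Q := H ⧸ N.subgroupOf H
  set F : Q → MonoidAlgebra k N := fun c => conjAlg N H hnorm c.out f
  have hmk : ∀ h : H, F (QuotientGroup.mk h) = conjAlg N H hnorm h f := fun h => by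
    obtain ⟨⟨u, hu⟩, he⟩ := QuotientGroup.mk_out_eq_mul (N.subgroupOf H) h
    show conjAlg N H hnorm (QuotientGroup.mk h : Q).out f = _
    rw [he, ← conjAlg_mul, hN u (Subgroup.mem_subgroupOf.1 hu)]
  have hF : ∀ (g : H) (c : Q), F (g • c) = conjAlg N H hnorm g (F c) := fun g c => by
    conv_lhs => rw [← QuotientGroup.out_eq' c]
    show F (QuotientGroup.mk (g * c.out)) = _
    rw [hmk, ← conjAlg_mul]
  set d := (Finset.univ.filter fun c : Q => F c = f).card with hd
  have hfib : ∀ x ∈ orbit N H hnorm f, (Finset.univ.filter fun c : Q => F c = x).card = d := by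
    intro x hx
    obtain ⟨g, rfl⟩ := mem_orbit.1 hx
    refine Finset.card_nbij' (fun c => g⁻¹ • c) (fun c => g • c) (fun c hc => ?_) (fun c hc => ?_)
      (fun c _ => by simp) fun c _ => by simp
    · refine Finset.mem_filter.2 ⟨Finset.mem_univ _, ?_⟩
      rw [hF, (Finset.mem_filter.1 hc).2, conjAlg_mul, inv_mul_cancel, conjAlg_one]
    · refine Finset.mem_filter.2 ⟨Finset.mem_univ _, ?_⟩
      rw [hF, (Finset.mem_filter.1 hc).2]
  have hmaps : ∀ c ∈ (Finset.univ : Finset Q), F c ∈ orbit N H hnorm f :=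
    fun c _ => mem_orbit.2 ⟨_, rfl⟩
  refine ⟨d, ⟨(orbit N H hnorm f).card, ?_⟩, ?_⟩
  · rw [Subgroup.index_eq_card, Nat.card_eq_fintype_card, ← Finset.card_univ,
      Finset.card_eq_sum_card_fiberwise hmaps, Finset.sum_congr rfl hfib, Finset.sum_const,
      smul_eq_mul, mul_comm]
  · show ∑ c, F c = _
    rw [← Finset.sum_fiberwise_of_maps_to hmaps F, Finset.smul_sum]
    refine Finset.sum_congr rfl fun x hx => ?_
    rw [Finset.sum_congr rfl fun c hc => (Finset.mem_filter.1 hc).2, Finset.sum_const, hfib x hx]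

variable {B : Set (IrrCharacter G)} {P : Subgroup G} {c : Set (IrrCharacter C⟨P⟩)}

/-- **The local blocks.** -/
theorem exists_local_blocks (hM : IsPModular p M) (hD : IsDefectGroup p M B P)
    (hc : IsBrauerPairOf p M B P c) (hcyc : IsCyclic P) {T : Subgroup G} (hT : IsPairStab P c T)
    (hfree : ∀ y ∈ P, y ≠ 1 → ∀ t ∈ T, t * y * t⁻¹ = y → t ∈ C⟨P⟩)
    {z : G} (hzP : z ∈ P) (hzord : orderOf z = p) :
    let H := Subgroup.normalizer (Subgroup.zpowers z : Set G)
    let C₀ := C⟨Subgroup.zpowers z⟩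
    ∃ (r : ℕ) (L : Loc (Res M) (MonoidAlgebra (Res M) C₀) (r + 1)) (i₀ : Ix M C₀),
      L.f ≠ 0 ∧
      (∀ j, (sys M C₀).hom L.f j ≠ 0 → j = i₀) ∧
      embAlg C₀ (∑ x ∈ orbit C₀ H (normalizer_conj z) L.f, x) =
        br (Subgroup.zpowers z) (red M (blockElem B)) ∧
      (∀ (t : H), (t : G) ∈ T → conjAlg C₀ H (normalizer_conj z) t L.f = L.f) ∧
      ∃ Y : MonoidAlgebra (Res M) G, (∀ u ∈ P, cj u Y = Y) ∧
        br (Subgroup.zpowers z) (red M (blockElem B)) =
          ∑ c : H ⧸ P.subgroupOf H, cj ((c.out : H) : G) Y := by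
  intro H C₀
  haveI := charP_res hM
  letI := Fintype.ofFinite C₀
  have hgen := hcyc.exists_generator
  obtain ⟨g₀, hg₀⟩ := hgen
  have hab : ∀ a ∈ P, ∀ b ∈ P, a * b = b * a := fun a ha b hb => by
    obtain ⟨m, hm⟩ := hg₀ ⟨a, ha⟩
    obtain ⟨n, hn⟩ := hg₀ ⟨b, hb⟩
    rw [← show ((g₀ ^ m : P) : G) = a from congrArg Subtype.val hm,
      ← show ((g₀ ^ n : P) : G) = b from congrArg Subtype.val hn]
    exact congrArg Subtype.val ((Commute.refl g₀).zpow_zpow m n).eq
  have hz1 : z ≠ 1 := fun h => by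
    rw [h, orderOf_one] at hzord
    exact (Fact.out : p.Prime).ne_one hzord.symm
  have hzP' : Subgroup.zpowers z ≤ P := Subgroup.zpowers_le.2 hzP
  have hPC₀ : P ≤ C₀ := le_centralizer_zpowers hab hzP
  have hC₀H : C₀ ≤ H := Subgroup.centralizer_le_normalizer _
  obtain ⟨f, hf⟩ := exists_below hM hc.1 hab hzP
  obtain ⟨hfD, hfc⟩ := hf.defect hM hD hc hab hzP
  have hn := hf.normalSubpair hM hc.1 hab hzP
  have htriv : ∀ t ∈ T, t ∈ C₀ → t ∈ C⟨P⟩ := fun t ht htC => hfree z hzP hz1 t ht (by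
    rw [← Subgroup.mem_centralizer_iff.1 htC z (Subgroup.mem_zpowers z), mul_inv_cancel_right])
  have hnil := (nilpotent_local_iff hM hD hc hab hT hzP' hn).2 htriv
  have hl := blockRank_local_eq_one hM hD hc hab hT hzP' hn htriv
  have hcyc' : IsCyclic (P.subgroupOf C₀) :=
    (Subgroup.subgroupOfEquivOfLe hPC₀).isCyclic.2 hcyc
  obtain ⟨r, hr⟩ : ∃ r, Nat.card (P.subgroupOf C₀) = r + 1 :=
    ⟨_, (Nat.succ_pred_eq_of_pos Nat.card_pos).symm⟩
  obtain ⟨L, hL⟩ := exists_loc hM hf.1 hfD hnil hcyc' hr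
  rw [blockRank_eq_card hM hf.1, Finset.card_eq_one] at hl
  obtain ⟨i₀, hi₀⟩ := hl
  have hLf0 : L.f ≠ 0 := fun h => L.indep.ne_zero 0 (by
    rw [Fin.val_zero, pow_zero, one_mul, ← L.fe, h, zero_mul])
  have hembf : embAlg C₀ L.f = bi M C₀ f := by rw [embAlg_eq_emb, hL, emb_red_blockElem]
  refine ⟨r, L, i₀, hLf0, fun j hj => ?_, ?_⟩
  · have hjB : InBlk M f j := by
      by_contra h
      refine hj ?_
      rw [hL]
      exact rank_eq_zero_iff'.1 (mu_blk_eq_zero hM hf.1 h)
    have : j ∈ Finset.univ.filter (InBlk M f) := by simp [hjB]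
    rw [hi₀, Finset.mem_singleton] at this
    exact this
  set hnorm := normalizer_conj z
  set eb := br (Subgroup.zpowers z) (red M (blockElem B))
  have hpairf := hf.pair hM hc hab hzP
  have hebf : eb * bi M C₀ f = bi M C₀ f := ((isBrauerPairOf_iff_br hM B _ _).1 hpairf).2.2
  have hebinv : ∀ h : H, cj (h : G) eb = eb := fun h => by
    rw [cj_br, map_conj_of_mem_normalizer h.2,
      invOn_iff.1 (invOn_top_iff.2 (isCentralFn_blockElem B).red) _ (Subgroup.mem_top _)]
  have heborb : ∀ x ∈ orbit C₀ H hnorm L.f, eb * embAlg C₀ x = embAlg C₀ x := by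
    intro x hx
    obtain ⟨h, rfl⟩ := mem_orbit.1 hx
    conv_lhs => rw [embAlg_conjAlg, hembf, ← hebinv h, ← cj_mul, hebf]
    rw [embAlg_conjAlg, hembf]
  have hTf : ∀ t : H, (t : G) ∈ T → conjAlg C₀ H hnorm t L.f = L.f := fun t ht => by
    refine (emb_injective C₀) ?_
    rw [← embAlg_eq_emb, ← embAlg_eq_emb, embAlg_conjAlg, hembf]
    have htN := ((hT (t : G)).1 ht).1
    have hstab := (stabilizes_iff_of_normalizer hM hc.1.2 htN).1 ((hT (t : G)).1 ht).2
    have key : ∀ (z' : G) (f' : Set (IrrCharacter C⟨Subgroup.zpowers z'⟩)),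
        Subgroup.zpowers z' = Subgroup.zpowers z → z' ∈ P → IsBelow M P c z' f' →
          bi M C⟨Subgroup.zpowers z'⟩ f' = bi M C₀ f := by
      intro z' f' hz' hz'P hf'
      have key' : ∀ (Q : Subgroup G) (f' : Set (IrrCharacter C⟨Q⟩)), Q = Subgroup.zpowers z →
          IsNormalSubpair p M Q f' P c → bi M C⟨Q⟩ f' = bi M C₀ f := by
        rintro _ f' rfl hf'
        rw [(existsUnique_normalSubpair hM hc.1 hzP'
          (hPC₀.trans (Subgroup.centralizer_le_normalizer _))).unique hf' hn]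
      exact key' _ f' hz' (hf'.normalSubpair hM hc.1 hab hz'P)
    have hzt : Subgroup.zpowers ((t : G) * z * (t : G)⁻¹) = Subgroup.zpowers z := by
      refine Subgroup.eq_of_le_of_card_ge (Subgroup.zpowers_le.2
        ((Subgroup.mem_normalizer_iff.1 t.2 z).1 (Subgroup.mem_zpowers z))) ?_
      rw [Nat.card_zpowers, Nat.card_zpowers]
      exact (orderOf_injective (MulAut.conj (t : G)).toMonoidHom (MulAut.conj (t : G)).injective z).ge
    conv_rhs => rw [← key _ _ hzt ((Subgroup.mem_normalizer_iff.1 htN z).1 hzP)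
      (hf.conj hM hc.1 hT ht), bi_conjSet (isConjSub_zpowers (t : G) z)]
  -- the Brauer image is the orbit sum
  have hb : embAlg C₀ (∑ x ∈ orbit C₀ H hnorm L.f, x) = eb := by
    have hterm : ∀ d ∈ blocksFinset M C₀, eb * bi M C₀ d = bi M C₀ d →
        ∃ x ∈ orbit C₀ H hnorm L.f, embAlg C₀ x = bi M C₀ d := by
      intro d hd hed
      have hdB : IsPBlock M d := (mem_blocksFinset hM).1 hd
      obtain ⟨g, y, fy, hy, hfy, hgy, hgf⟩ := exists_below_conj hM hD hc hab
        ((isBrauerPairOf_iff_br hM B _ d).2 ⟨⟨(IsDefectGroup.isPGroup hD).to_le hzP', hdB⟩,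
          hc.2.1, hed⟩)
      have hyord : orderOf y = p := by
        rw [← hzord, ← hgy]
        exact (orderOf_injective (MulAut.conj g).toMonoidHom (MulAut.conj g).injective y).symm
      obtain ⟨z₁, hz₁P, hz₁, -, hpow⟩ := exists_bottom (IsDefectGroup.isPGroup hD) hcyc
        (fun h => hz1 (by rw [h, Subgroup.mem_bot] at hzP; exact hzP))
      have hzz : ∀ u ∈ P, orderOf u = p → Subgroup.zpowers u = Subgroup.zpowers z₁ := fun u hu hu' =>
        Subgroup.eq_of_le_of_card_ge (Subgroup.zpowers_le.2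
          (hpow u hu (by rw [← hu', pow_orderOf_eq_one]))) (by
            rw [Nat.card_zpowers, Nat.card_zpowers, hz₁, hu'])
      have hyz : Subgroup.zpowers y = Subgroup.zpowers z :=
        (hzz y hy hyord).trans (hzz z hzP hzord).symm
      have hgH : g ∈ H := by
        obtain ⟨n, hn'⟩ := (Subgroup.mem_zpowers_iff).1 (hyz ▸ Subgroup.mem_zpowers z :
          z ∈ Subgroup.zpowers y)
        refine mem_normalizer_of_conj hzord ⟨n, ?_⟩
        conv_lhs => rw [← hgy]
        show (g * y * g⁻¹) ^ n = g * z * g⁻¹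
        rw [conj_zpow, hn']
      have key' : ∀ (Q : Subgroup G) (f' : Set (IrrCharacter C⟨Q⟩)), Q = Subgroup.zpowers z →
          IsNormalSubpair p M Q f' P c → bi M C⟨Q⟩ f' = bi M C₀ f := by
        rintro _ f' rfl hf'
        rw [(existsUnique_normalSubpair hM hc.1 hzP'
          (hPC₀.trans (Subgroup.centralizer_le_normalizer _))).unique hf' hn]
      refine ⟨_, mem_orbit.2 ⟨⟨g, hgH⟩, rfl⟩, ?_⟩
      rw [embAlg_conjAlg, hembf, ← key' _ fy hyz (hfy.normalSubpair hM hc.1 hab hy)]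
      exact hgf
    have hsum : eb = ∑ d ∈ blocksFinset M C₀, eb * bi M C₀ d := by
      rw [← Finset.mul_sum, sum_bi hM, mul_one]
    have hsupp : SuppOn C₀ eb := suppOn_br _ _
    have hinv : InvOn C₀ eb := invOn_iff.2 fun x hx => hebinv ⟨x, hC₀H hx⟩
    have hidem : eb * eb = eb := by
      have hP' : IsPGroup p (Subgroup.zpowers z) := (IsDefectGroup.isPGroup hD).to_le hzP'
      have hi : InvOn (Subgroup.zpowers z) (red M (blockElem B)) :=
        (invOn_top_iff.2 (isCentralFn_blockElem B).red).mono le_top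
      rw [← br_mul hP' hi hi, red_blk_idem hM hc.2.1]
    have horth : ∀ d ∈ blocksFinset M C₀, ∀ x ∈ orbit C₀ H hnorm L.f,
        eb * bi M C₀ d = 0 → embAlg C₀ x * bi M C₀ d = 0 := fun d _ x hx h0 => by
      rw [← heborb x hx, show eb * embAlg C₀ x * bi M C₀ d = embAlg C₀ x * (eb * bi M C₀ d) by
        rw [← mul_assoc (embAlg C₀ x),
          hinv.comm (b := embAlg C₀ x) (by rw [embAlg_eq_emb]; exact suppOn_emb _ _)], h0, mul_zero]
    calc embAlg C₀ (∑ x ∈ orbit C₀ H hnorm L.f, x)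
        = (∑ x ∈ orbit C₀ H hnorm L.f, embAlg C₀ x) * ∑ d ∈ blocksFinset M C₀, bi M C₀ d := by
          rw [map_sum, sum_bi hM, mul_one]
      _ = eb := by
          conv_rhs => rw [hsum]
          rw [Finset.mul_sum]
          refine Finset.sum_congr rfl fun d hd => ?_
          rcases mul_bi_eq_or hM hsupp hinv hidem ((mem_blocksFinset hM).1 hd) with h | h
          · obtain ⟨x₀, hx₀, hxd⟩ := hterm d hd h
            rw [h, Finset.sum_mul, Finset.sum_eq_single x₀ (fun x hx hne => ?_)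
              (fun h' => absurd hx₀ h'), ← hxd, ← map_mul]
            · have h2 := (orbitLoc L ⟨x₀, hx₀⟩).f_idem
              simp only [orbitLoc_f] at h2
              rw [h2]
            · have h2 := orbitLoc_orth (hnorm := hnorm) L ⟨x, hx⟩ ⟨x₀, hx₀⟩
                (fun e => hne (congrArg Subtype.val e))
              simp only [orbitLoc_f] at h2
              rw [← hxd, ← map_mul, h2, map_zero]
          · rw [h, Finset.sum_mul]
            exact Finset.sum_eq_zero fun x hx => horth d hd x hx h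
  refine ⟨hb, hTf, ?_⟩
  -- the trace
  obtain ⟨y, hy, hfy⟩ := exists_trace_idem hM hf.1 hfD L hL
  set Y₀ := embAlg C₀ y
  have hY₀ : ∀ u ∈ P, cj u Y₀ = Y₀ := fun u hu => by
    rw [show Y₀ = emb C₀ y from embAlg_eq_emb C₀ y, show u = ((⟨u, hPC₀ hu⟩ : C₀) : G) from rfl,
      cj_emb, hy _ hu]
  obtain ⟨d, hdvd, hd⟩ := sum_quotient_orbit (N := C₀) (H := H) (hnorm := hnorm) (f := L.f)
    fun h hh => by
      refine (emb_injective C₀) ?_
      rw [← embAlg_eq_emb, ← embAlg_eq_emb, embAlg_conjAlg, hembf]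
      exact invOn_iff.1 (invOn_bi f) _ hh
  obtain ⟨ω, hω⟩ := exists_exponent_hom (p := p) (Res M) hzord
  have hd0 : (d : Res M) ≠ 0 := fun h => by
    obtain ⟨e, he⟩ := hdvd
    refine index_cast_ne_zero (p := p) ω ?_
    rw [show ω.ker = C₀.subgroupOf H from Subgroup.ext fun x => by
      rw [MonoidHom.mem_ker, hω, Subgroup.mem_subgroupOf], he, Nat.cast_mul, h, zero_mul]
  refine ⟨(d : Res M)⁻¹ • Y₀, fun u hu => by rw [Star.cj_smul', hY₀ u hu], ?_⟩
  simp only [Star.cj_smul']
  rw [← Finset.smul_sum]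
  have hpairs : ∀ (q : H ⧸ C₀.subgroupOf H) (e : C₀ ⧸ P.subgroupOf C₀),
      cj ((q.out : H) : G) (cj ((e.out : C₀) : G) Y₀) =
      cj (((QuotientGroup.mk (q.out * Subgroup.inclusion hC₀H e.out) :
        H ⧸ P.subgroupOf H).out : H) : G) Y₀ := fun q e => by
    obtain ⟨⟨u, hu⟩, he⟩ := QuotientGroup.mk_out_eq_mul (P.subgroupOf H)
      (q.out * Subgroup.inclusion hC₀H e.out)
    rw [he, Subgroup.coe_mul, Subgroup.coe_mul, cj_cj]
    conv_rhs => rw [← cj_cj, hY₀ _ (Subgroup.mem_subgroupOf.1 hu)]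
    rfl
  have htot : ∑ c : H ⧸ P.subgroupOf H, cj ((c.out : H) : G) Y₀ =
      ∑ q : H ⧸ C₀.subgroupOf H, cj ((q.out : H) : G) (embAlg C₀ L.f) := by
    rw [hfy, map_sum]
    simp only [cj_sum]
    rw [← Fintype.sum_prod_type' (f := fun (q : H ⧸ C₀.subgroupOf H) (e : C₀ ⧸ P.subgroupOf C₀) =>
      cj ((q.out : H) : G) (embAlg C₀ (cj e.out y)))]
    symm
    refine Fintype.sum_bijective (fun qe : (H ⧸ C₀.subgroupOf H) × (C₀ ⧸ P.subgroupOf C₀) =>
      (QuotientGroup.mk (qe.1.out * Subgroup.inclusion hC₀H qe.2.out) : H ⧸ P.subgroupOf H))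
      ⟨?_, ?_⟩ _ _ fun qe => by
        rw [← hpairs qe.1 qe.2, embAlg_eq_emb, ← cj_emb, ← embAlg_eq_emb]
    · rintro ⟨q, e⟩ ⟨q', e'⟩ h
      rw [QuotientGroup.eq, Subgroup.mem_subgroupOf] at h
      simp only [Subgroup.coe_mul, Subgroup.coe_inv, mul_inv_rev, Subgroup.coe_inclusion] at h
      have hq : q = q' := by
        rw [← QuotientGroup.out_eq' q, ← QuotientGroup.out_eq' q', QuotientGroup.eq,
          Subgroup.mem_subgroupOf, Subgroup.coe_mul, Subgroup.coe_inv]
        have h' := C₀.mul_mem (C₀.mul_mem (e.out : C₀).2 (hPC₀ h))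
          (C₀.inv_mem (e'.out : C₀).2)
        simpa [mul_assoc] using h'
      subst hq
      have he : e = e' := by
        rw [← QuotientGroup.out_eq' e, ← QuotientGroup.out_eq' e', QuotientGroup.eq,
          Subgroup.mem_subgroupOf, Subgroup.coe_mul, Subgroup.coe_inv]
        simpa [mul_assoc] using h
      rw [he]
    · intro x
      have hx : ((QuotientGroup.mk x.out : H ⧸ C₀.subgroupOf H).out)⁻¹ * x.out ∈
          C₀.subgroupOf H := QuotientGroup.eq.1 (QuotientGroup.out_eq' _)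
      rw [Subgroup.mem_subgroupOf] at hx
      set e : C₀ := ⟨_, hx⟩
      refine ⟨(QuotientGroup.mk x.out, QuotientGroup.mk e), ?_⟩
      conv_rhs => rw [← QuotientGroup.out_eq' x]
      obtain ⟨⟨u, hu⟩, he⟩ := QuotientGroup.mk_out_eq_mul (P.subgroupOf C₀) e
      simp only [he]
      rw [QuotientGroup.eq, Subgroup.mem_subgroupOf]
      simp only [Subgroup.coe_mul, Subgroup.coe_inv, mul_inv_rev, Subgroup.coe_inclusion, e]
      simpa [mul_assoc] using P.inv_mem (Subgroup.mem_subgroupOf.1 hu)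
  have hd' := congrArg (embAlg C₀) hd
  rw [map_sum, map_nsmul, hb] at hd'
  simp only [embAlg_conjAlg] at hd'
  rw [htot, hd', ← Nat.cast_smul_eq_nsmul (Res M), smul_smul, inv_mul_cancel₀ hd0, one_smul]

end Cfsg.Lib.Blocks.CyclicDefect
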