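import Mathlib
import Cfsg.Agent.Blocks.IBr.Wedderburn

/-!
# Simple modules through a semisimple quotient map

The column modules of the matrix factors are simple and exhaust the simple modules; the powers of
the kernel give a filtration ending in zero.
-/

set_option autoImplicit false
set_option linter.unusedSectionVars false

namespace Cfsg.Lib.Blocks.CyclicDefect

open Cfsg.Lib.Blocks.IBr

variable {k : Type*} [Field k] {A : Type*} [Ring A] [Algebra k A] [FiniteDimensional k A]
  (S : SimpleSystem k A)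

/-- The kernel of the quotient map. -/
def kerIdeal : Ideal A := RingHom.ker S.hom

lemma mem_kerIdeal {a : A} : a ∈ kerIdeal S ↔ S.hom a = 0 := Iff.rfl

lemma exists_kerIdeal_pow : ∃ N : ℕ, kerIdeal S ^ N = ⊥ := by
  haveI : IsArtinianRing A := IsArtinianRing.of_finite k A
  have hle : kerIdeal S ≤ Ring.jacobson A := by
    intro x hx
    rw [← Ideal.jacobson_bot]
    refine Ideal.mem_jacobson_iff.2 fun y => ?_
    obtain ⟨u, hu⟩ := (S.ker_nil (y * x)
      (mem_kerIdeal S |>.1 ((kerIdeal S).mul_mem_left y hx))).isUnit_one_add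
    refine ⟨((u⁻¹ : Aˣ) : A), ?_⟩
    rw [Ideal.mem_bot, show ((u⁻¹ : Aˣ) : A) * y * x + ((u⁻¹ : Aˣ) : A) - 1 =
      ((u⁻¹ : Aˣ) : A) * (1 + y * x) - 1 by noncomm_ring, ← hu, Units.inv_mul, sub_self]
  obtain ⟨N, hN⟩ : IsNilpotent (Ring.jacobson A) := IsSemiprimaryRing.isNilpotent
  exact ⟨N, le_bot_iff.1 ((Ideal.pow_right_mono hle N).trans (le_of_eq hN))⟩

/-- The column representation of a factor. -/
noncomputable def colRep (i : Fin S.num) : A →ₐ[k] Module.End k (Fin (S.dim i) → k) :=
  (Matrix.toLinAlgEquiv' : Matrix (Fin (S.dim i)) (Fin (S.dim i)) k ≃ₐ[k] _).toAlgHom.comp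
    ((Pi.evalAlgHom k _ i).comp S.hom)

lemma colRep_apply (i : Fin S.num) (a : A) (v : Fin (S.dim i) → k) :
    colRep S i a v = (S.hom a i).mulVec v := rfl

/-- A preimage of a matrix unit. -/
noncomputable def eij (i : Fin S.num) (r s : Fin (S.dim i)) : A :=
  (S.surj (Pi.single i (Matrix.single r s 1))).choose

lemma hom_eij (i : Fin S.num) (r s : Fin (S.dim i)) :
    S.hom (eij S i r s) = Pi.single i (Matrix.single r s 1) :=
  (S.surj (Pi.single i (Matrix.single r s 1))).choose_spec

/-- The row of a product. -/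
lemma eij_mul_mem (i : Fin S.num) (r t : Fin (S.dim i)) (a : A) :
    eij S i r t * a - ∑ s, S.hom a i t s • eij S i r s ∈ kerIdeal S := by
  rw [mem_kerIdeal, map_sub, map_mul, map_sum, hom_eij, sub_eq_zero]
  funext j
  rw [Pi.mul_apply, Finset.sum_apply]
  simp only [map_smul, hom_eij, Pi.smul_apply]
  by_cases hj : j = i
  · subst hj
    simp only [Pi.single_eq_same]
    ext x y
    rw [Matrix.sum_apply]
    simp only [Matrix.smul_apply, smul_eq_mul, Matrix.single_apply, mul_ite, mul_one, mul_zero]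
    by_cases hx : r = x
    · subst hx
      rw [Matrix.single_mul_apply_same, one_mul, Finset.sum_eq_single y (fun s _ hs => by simp [hs])
        (by simp), if_pos ⟨rfl, rfl⟩]
    · rw [Matrix.single_mul_apply_of_ne _ _ _ _ _ (Ne.symm hx)]
      exact (Finset.sum_eq_zero fun s _ => by simp [hx]).symm
  · simp [Pi.single_eq_of_ne hj]

/-- The column of a product. -/
lemma mul_eij_mem (i : Fin S.num) (t s : Fin (S.dim i)) (a : A) :
    a * eij S i t s - ∑ r, S.hom a i r t • eij S i r s ∈ kerIdeal S := by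
  rw [mem_kerIdeal, map_sub, map_mul, map_sum, hom_eij, sub_eq_zero]
  funext j
  rw [Pi.mul_apply, Finset.sum_apply]
  simp only [map_smul, hom_eij, Pi.smul_apply]
  by_cases hj : j = i
  · subst hj
    simp only [Pi.single_eq_same]
    ext x y
    rw [Matrix.sum_apply]
    simp only [Matrix.smul_apply, smul_eq_mul, Matrix.single_apply, mul_ite, mul_one, mul_zero]
    by_cases hy : s = y
    · subst hy
      rw [Matrix.mul_single_apply_same, mul_one, Finset.sum_eq_single x (fun r _ hr => by simp [hr])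
        (by simp), if_pos ⟨rfl, rfl⟩]
    · rw [Matrix.mul_single_apply_of_ne _ _ _ _ _ (Ne.symm hy)]
      exact (Finset.sum_eq_zero fun r _ => by simp [hy]).symm
  · simp [Pi.single_eq_of_ne hj]

/-- The resolution of the identity by the matrix units. -/
lemma one_sub_sum_mem :
    1 - ∑ i, ∑ r : Fin (S.dim i), eij S i r (S.zeroIdx i) * eij S i (S.zeroIdx i) r ∈
      kerIdeal S := by
  rw [mem_kerIdeal, map_sub, map_one, map_sum, sub_eq_zero]
  simp only [map_sum, map_mul, hom_eij, ← Pi.single_mul, Matrix.single_mul_single_same, one_mul]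
  funext j
  rw [Finset.sum_apply, Finset.sum_eq_single j (fun i _ hi => by
    rw [Finset.sum_apply]; exact Finset.sum_eq_zero fun r _ => Pi.single_eq_of_ne (Ne.symm hi) _)
    (by simp), Finset.sum_apply]
  ext x y
  simp only [Pi.single_eq_same, Pi.one_apply, Matrix.sum_apply, Matrix.single_apply]
  by_cases hxy : x = y
  · subst hxy
    rw [Matrix.one_apply_eq, Finset.sum_eq_single x (fun r _ hr => by simp [hr]) (by simp)]
    simp
  · rw [Matrix.one_apply_ne hxy]
    exact (Finset.sum_eq_zero fun r _ => if_neg fun (h : r = x ∧ r = y) => hxy (h.1.symm.trans h.2)).symm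

/-- The column modules are simple. -/
lemma colRep_simple (i : Fin S.num) (Y : Submodule k (Fin (S.dim i) → k))
    (hY : ∀ a, ∀ v ∈ Y, colRep S i a v ∈ Y) : Y = ⊥ ∨ Y = ⊤ := by
  classical
  by_cases h : Y = ⊥
  · exact Or.inl h
  right
  obtain ⟨v, hv, hv0⟩ := Y.ne_bot_iff.1 h
  obtain ⟨s, hs⟩ := Function.ne_iff.1 hv0
  have hs' : v s ≠ 0 := hs
  refine eq_top_iff.2 fun w _ => ?_
  rw [show w = ∑ r, (w r * (v s)⁻¹) • colRep S i (eij S i r s) v by
    funext x
    rw [Finset.sum_apply]
    simp only [colRep_apply, hom_eij, Pi.single_eq_same, Pi.smul_apply, smul_eq_mul,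
      Matrix.single_mulVec, one_mul]
    rw [Finset.sum_eq_single x (fun r _ hr => by simp [Function.update_of_ne (Ne.symm hr)])
      (by simp), Function.update_self]
    field_simp]
  exact Y.sum_mem fun r _ => Y.smul_mem _ (hY _ _ hv)

/-- **The simple modules are the column modules.** -/
theorem exists_colRep_equiv {X : Type*} [AddCommGroup X] [Module k X] [Nontrivial X]
    (ρ : A →ₐ[k] Module.End k X)
    (hs : ∀ Y : Submodule k X, (∀ a, ∀ v ∈ Y, ρ a v ∈ Y) → Y = ⊥ ∨ Y = ⊤) :
    ∃ i, ∃ Θ : X ≃ₗ[k] (Fin (S.dim i) → k), ∀ a x, Θ (ρ a x) = colRep S i a (Θ x) := by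
  classical
  -- the kernel acts as zero
  have hker : ∀ a ∈ kerIdeal S, ρ a = 0 := by
    set Y : Submodule k X := Submodule.span k {y | ∃ a ∈ kerIdeal S, ∃ x, y = ρ a x} with hYdef
    have hYi : ∀ b, ∀ v ∈ Y, ρ b v ∈ Y := fun b v hv => by
      refine (Submodule.span_le.2 ?_ : Y ≤ Y.comap (ρ b)) hv
      rintro _ ⟨a, ha, x, rfl⟩
      refine Submodule.subset_span ⟨b * a, (kerIdeal S).mul_mem_left b ha, x, ?_⟩
      rw [map_mul, Module.End.mul_apply]
    rcases hs Y hYi with h | h
    · intro a ha
      refine LinearMap.ext fun x => ?_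
      have : ρ a x ∈ Y := Submodule.subset_span ⟨a, ha, x, rfl⟩
      rw [h, Submodule.mem_bot] at this
      rw [this, LinearMap.zero_apply]
    · obtain ⟨N, hN⟩ := exists_kerIdeal_pow S
      exfalso
      have hall : ∀ d ≤ N, ∀ a ∈ kerIdeal S ^ (N - d), ρ a = 0 := by
        intro d hd
        induction d with
        | zero =>
          intro a ha
          rw [Nat.sub_zero, hN, Ideal.mem_bot] at ha
          rw [ha, map_zero]
        | succ d ih =>
          intro a ha
          refine LinearMap.ext fun x => ?_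
          have hx : x ∈ LinearMap.ker (ρ a) := by
            refine (Submodule.span_le.2 ?_ : Y ≤ LinearMap.ker (ρ a))
              (show x ∈ Y from h.symm.le Submodule.mem_top)
            rintro _ ⟨b, hb, y, rfl⟩
            rw [SetLike.mem_coe, LinearMap.mem_ker, ← Module.End.mul_apply, ← map_mul,
              ih (by omega) _ (by
                rw [show N - d = N - (d + 1) + 1 by omega, Submodule.pow_succ]
                exact Submodule.mul_mem_mul ha hb), LinearMap.zero_apply]
          exact hx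
      have h1 := hall N le_rfl 1 (by rw [Nat.sub_self, Submodule.pow_zero, Ideal.one_eq_top]; exact Submodule.mem_top)
      rw [map_one] at h1
      obtain ⟨x, hx⟩ := exists_ne (0 : X)
      exact hx (LinearMap.congr_fun h1 x)
  -- a nonzero map to a column module
  obtain ⟨x₀, hx₀⟩ := exists_ne (0 : X)
  obtain ⟨i, r₀, hr₀⟩ : ∃ (i : Fin S.num) (r : Fin (S.dim i)),
      ρ (eij S i (S.zeroIdx i) r) x₀ ≠ 0 := by
    by_contra h
    push Not at h
    refine hx₀ ?_
    have h1 := LinearMap.congr_fun (hker _ (one_sub_sum_mem S)) x₀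
    rw [map_sub, map_one, LinearMap.sub_apply, Module.End.one_apply, LinearMap.zero_apply,
      sub_eq_zero] at h1
    rw [h1, map_sum, LinearMap.sum_apply]
    refine Finset.sum_eq_zero fun i _ => ?_
    rw [map_sum, LinearMap.sum_apply]
    exact Finset.sum_eq_zero fun r _ => by rw [map_mul, Module.End.mul_apply, h i r, map_zero]
  obtain ⟨ξ, hξ⟩ : ∃ ξ : Module.Dual k X, ξ (ρ (eij S i (S.zeroIdx i) r₀) x₀) ≠ 0 := by
    by_contra h
    push Not at h
    exact hr₀ ((Module.forall_dual_apply_eq_zero_iff k _).1 h)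
  let π : X →ₗ[k] Fin (S.dim i) → k :=
    LinearMap.pi fun r => ξ.comp (ρ (eij S i (S.zeroIdx i) r))
  have hπ : ∀ a x, π (ρ a x) = colRep S i a (π x) := fun a x => by
    funext r
    have h1 := LinearMap.congr_fun (hker _ (eij_mul_mem S i (S.zeroIdx i) r a)) x
    rw [map_sub, LinearMap.sub_apply, LinearMap.zero_apply, sub_eq_zero, map_mul,
      Module.End.mul_apply] at h1
    show ξ (ρ (eij S i (S.zeroIdx i) r) (ρ a x)) = _
    rw [h1]
    simp only [map_sum, map_smul, LinearMap.sum_apply, LinearMap.smul_apply, colRep_apply,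
      Matrix.mulVec, dotProduct, smul_eq_mul]
    rfl
  have hne : π x₀ ≠ 0 := fun h => hξ (congrFun h r₀)
  have hinj : Function.Injective π := LinearMap.ker_eq_bot.1
    ((hs _ fun a v hv => by rw [LinearMap.mem_ker, hπ, LinearMap.mem_ker.1 hv, map_zero]).resolve_right
      fun h => hne (LinearMap.mem_ker.1 (h ▸ Submodule.mem_top)))
  have hsurj : Function.Surjective π := LinearMap.range_eq_top.1
    ((colRep_simple S i _ fun a v hv => by
      obtain ⟨x, rfl⟩ := hv
      exact ⟨ρ a x, hπ a x⟩).resolve_left fun h => hne (by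
        have : π x₀ ∈ LinearMap.range π := ⟨x₀, rfl⟩
        rwa [h, Submodule.mem_bot] at this))
  exact ⟨i, LinearEquiv.ofBijective π ⟨hinj, hsurj⟩, hπ⟩

end Cfsg.Lib.Blocks.CyclicDefect
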