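import Mathlib
import Cfsg.Agent.Blocks.CyclicDefect.Simple
import Cfsg.Agent.Blocks.CyclicDefect.Socle

/-!
# From the local subgroup to the group

A simple representation of a subgroup having a map, that is not a trace, into a representation of
the group has one into a column module. An endomorphism over the subgroup of a representation with
scalar endomorphisms over the group is a scalar plus a trace, away from a trivial intersection.
-/

set_option autoImplicit false
set_option linter.unusedSectionVars false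

namespace Cfsg.Lib.Blocks.CyclicDefect

open MonoidAlgebra Cfsg.Lib.Blocks.IBr
open scoped Classical

variable {k : Type*} [Field k] {G : Type*} [Group G] [Fintype G] {H : Subgroup G}

/-- A column module as a representation. -/
noncomputable def colGroupRep (S : SimpleSystem k (MonoidAlgebra k G)) (i : Fin S.num) :
    Representation k G (Fin (S.dim i) → k) :=
  (MonoidAlgebra.lift k _ G).symm (colRep S i)

lemma asAlgebraHom_colGroupRep (S : SimpleSystem k (MonoidAlgebra k G)) (i : Fin S.num) :
    (colGroupRep S i).asAlgebraHom = colRep S i := by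
  exact Equiv.apply_symm_apply _ _

/-- The kernel times its powers. -/
lemma mul_mem_kerIdeal_pow {A : Type*} [Ring A] [Algebra k A] [FiniteDimensional k A]
    (S : SimpleSystem k A) {a : A}
    (ha : a ∈ kerIdeal S) : ∀ (l : ℕ) {b : A}, b ∈ kerIdeal S ^ l → a * b ∈ kerIdeal S ^ (l + 1) := by
  intro l
  induction l with
  | zero =>
    intro b _
    rw [zero_add, Submodule.pow_one, mem_kerIdeal, map_mul, mem_kerIdeal S |>.1 ha, zero_mul]
  | succ l ih =>
    intro b hb
    rw [Submodule.pow_succ] at hb ⊢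
    refine Submodule.mul_induction_on (C := fun z => a * z ∈ kerIdeal S ^ (l + 1) * kerIdeal S) hb
      (fun x hx y hy => ?_) fun x y hx hy => ?_
    · rw [← mul_assoc]; exact Submodule.mul_mem_mul (ih hx) hy
    · rw [mul_add]; exact Submodule.add_mem _ hx hy

/-- **Some column module receives a map that is not a trace.** -/
theorem exists_colRep_nonproj (S : SimpleSystem k (MonoidAlgebra k G))
    {T : Type*} [AddCommGroup T] [Module k T] [FiniteDimensional k T] (τ : Representation k H T)
    {W : Type*} [AddCommGroup W] [Module k W] [FiniteDimensional k W] (σ : Representation k G W)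
    {e : MonoidAlgebra k G} (he : ∀ a, e * a = a * e) (hee : e * e = e)
    (f : T →ₗ[k] W) (hf : ∀ (h : H) t, f (τ h t) = σ (h : G) (f t))
    (hef : ∀ t, σ.asAlgebraHom e (f t) = f t) (hP : ¬ IsProj τ (σ.comp H.subtype) f) :
    ∃ i, S.hom e i ≠ 0 ∧ ∃ g : T →ₗ[k] (Fin (S.dim i) → k),
      (∀ (h : H) t, g (τ h t) = colGroupRep S i (h : G) (g t)) ∧
      (∀ t, colRep S i e (g t) = g t) ∧ ¬ IsProj τ ((colGroupRep S i).comp H.subtype) g := by
  set A := σ.asAlgebraHom with hA
  have hσA : ∀ (x : G) w, σ x w = A (single x 1) w := fun x w => by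
    rw [hA, Representation.asAlgebraHom_single_one]
  set X : ℕ → Submodule k W := fun l =>
    Submodule.span k {w | ∃ a ∈ kerIdeal S ^ l, ∃ v, w = A a v} with hX
  have hXA : ∀ l a, ∀ w ∈ X l, A a w ∈ X l := fun l a w hw => by
    refine (Submodule.span_le.2 ?_ : X l ≤ (X l).comap (A a)) hw
    rintro _ ⟨b, hb, v, rfl⟩
    refine Submodule.subset_span ⟨a * b, (kerIdeal S ^ l).mul_mem_left a hb, v, ?_⟩
    rw [map_mul, Module.End.mul_apply]
  have hXJ : ∀ l, ∀ a ∈ kerIdeal S, ∀ w ∈ X l, A a w ∈ X (l + 1) := fun l a ha w hw => by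
    refine (Submodule.span_le.2 ?_ : X l ≤ (X (l + 1)).comap (A a)) hw
    rintro _ ⟨b, hb, v, rfl⟩
    exact Submodule.subset_span ⟨a * b, mul_mem_kerIdeal_pow S ha l hb, v,
      by rw [map_mul, Module.End.mul_apply]⟩
  by_contra hno
  -- maps that are not traces go arbitrarily deep
  have hdeep : ∀ l, ∃ g : T →ₗ[k] W, (∀ (h : H) t, g (τ h t) = σ (h : G) (g t)) ∧
      (∀ t, A e (g t) = g t) ∧ ¬ IsProj τ (σ.comp H.subtype) g ∧ ∀ t, g t ∈ X l := by
    intro l
    induction l with
    | zero =>
      refine ⟨f, hf, hef, hP, fun t => Submodule.subset_span ⟨1, ?_, f t, by simp⟩⟩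
      rw [Submodule.pow_zero, Ideal.one_eq_top]; exact Submodule.mem_top
    | succ l ih =>
      obtain ⟨g, hg, hge, hgP, hgX⟩ := ih
      set q := (X (l + 1)).mkQ with hq
      let bs := Module.finBasis k ((X l).map q)
      choose c hc using fun j => LinearMap.exists_extend (bs.coord j)
      choose y hyX hy using fun j => (bs j).2
      have hexp : ∀ w ∈ X l, w - ∑ j, c j (q w) • y j ∈ X (l + 1) := by
        intro w hw
        rw [← Submodule.Quotient.mk_eq_zero, Submodule.Quotient.mk_sub, sub_eq_zero]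
        show q w = q _
        rw [map_sum]
        simp only [map_smul, hy]
        have h1 := congrArg Subtype.val (bs.sum_repr ⟨q w, w, hw, rfl⟩)
        simp only [AddSubmonoidClass.coe_finsetSum, SetLike.val_smul] at h1
        refine h1.symm.trans (Finset.sum_congr rfl fun j _ => ?_)
        congr 1
        exact (LinearMap.congr_fun (hc j) ⟨q w, w, hw, rfl⟩).symm
      -- the projections and injections of the layer
      let π : ∀ i, Fin (Module.finrank k ((X l).map q)) → W →ₗ[k] Fin (S.dim i) → k := fun i j =>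
        LinearMap.pi fun r => ((c j).comp q).comp (A (eij S i (S.zeroIdx i) r))
      let ν : ∀ i, Fin (Module.finrank k ((X l).map q)) → (Fin (S.dim i) → k) →ₗ[k] W := fun i j =>
        ∑ r, (LinearMap.proj r).smulRight (A (eij S i r (S.zeroIdx i)) (y j))
      have hπ : ∀ i j a, ∀ w ∈ X l, π i j (A a w) = colRep S i a (π i j w) := by
        intro i j a w hw
        funext r
        have h1 : q (A (eij S i (S.zeroIdx i) r * a - ∑ s, S.hom a i r s • eij S i (S.zeroIdx i) s) w)
            = 0 := (Submodule.Quotient.mk_eq_zero _).2 (hXJ l _ (eij_mul_mem S i _ r a) w hw)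
        rw [map_sub, LinearMap.sub_apply, map_sub, sub_eq_zero, map_mul, Module.End.mul_apply] at h1
        show c j (q (A (eij S i (S.zeroIdx i) r) (A a w))) = _
        rw [h1]
        simp only [map_sum, map_smul, LinearMap.sum_apply, LinearMap.smul_apply, colRep_apply,
          Matrix.mulVec, dotProduct, smul_eq_mul]
        rfl
      have hν : ∀ i j a v, ν i j (colRep S i a v) - A a (ν i j v) ∈ X (l + 1) := by
        intro i j a v
        have h1 : ∀ s, A (a * eij S i s (S.zeroIdx i) -
            ∑ r, S.hom a i r s • eij S i r (S.zeroIdx i)) (y j) ∈ X (l + 1) :=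
          fun s => hXJ l _ (mul_eij_mem S i s _ a) _ (hyX j)
        have h2 : A a (ν i j v) - ν i j (colRep S i a v) =
            ∑ s, v s • A (a * eij S i s (S.zeroIdx i) -
              ∑ r, S.hom a i r s • eij S i r (S.zeroIdx i)) (y j) := by
          simp only [ν, LinearMap.sum_apply, LinearMap.smulRight_apply, LinearMap.proj_apply,
            map_sum, map_smul, map_sub, map_mul, LinearMap.sub_apply, Module.End.mul_apply,
            LinearMap.smul_apply, smul_sub, Finset.sum_sub_distrib, Finset.smul_sum, smul_smul,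
            colRep_apply, Matrix.mulVec, dotProduct, Finset.sum_smul]
          rw [Finset.sum_comm]
          congr 1
          exact Finset.sum_congr rfl fun r _ => Finset.sum_congr rfl fun s _ => by rw [mul_comm]
        rw [← neg_sub, h2]
        exact (X (l + 1)).neg_mem ((X (l + 1)).sum_mem fun s _ => (X (l + 1)).smul_mem _ (h1 s))
      have hproj : ∀ i j, ∃ ω, (π i j).comp g = trAll τ ((colGroupRep S i).comp H.subtype) ω := by
        intro i j
        have hec : ∀ t, colRep S i e (π i j (g t)) = π i j (g t) := fun t => by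
          rw [← hπ i j e _ (hgX t), hge]
        by_cases hi : S.hom e i = 0
        · refine ⟨0, LinearMap.ext fun t => ?_⟩
          rw [LinearMap.comp_apply, ← hec t, colRep_apply, hi, Matrix.zero_mulVec, trAll_apply]
          simp
        · by_contra hcon
          refine hno ⟨i, hi, (π i j).comp g, fun h t => ?_, hec, hcon⟩
          rw [LinearMap.comp_apply, hg, hσA, hπ i j _ _ (hgX t), LinearMap.comp_apply,
            ← asAlgebraHom_colGroupRep, Representation.asAlgebraHom_single_one]
      choose ω hω using hproj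
      set Ω : T →ₗ[k] W := (A e).comp (∑ i, ∑ j, (ν i j).comp (ω i j)) with hΩ
      set g' := g - trAll τ (σ.comp H.subtype) Ω with hg'
      have hAe : ∀ x w, A e (σ x w) = σ x (A e w) := fun x w => by
        rw [hσA, hσA, ← Module.End.mul_apply, ← map_mul, he, map_mul, Module.End.mul_apply]
      have hσ' : ∀ (h : H) w, (σ.comp H.subtype) h w = σ (h : G) w := fun _ _ => rfl
      refine ⟨g', fun h t => ?_, fun t => ?_, ?_, fun t => ?_⟩
      · simp only [hg', LinearMap.sub_apply, hg, map_sub, trAll_apply, map_sum, hσ']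
        congr 1
        rw [← Equiv.sum_comp (Equiv.mulLeft h)]
        refine Finset.sum_congr rfl fun x _ => ?_
        rw [Equiv.coe_mulLeft, Subgroup.coe_mul, map_mul, Module.End.mul_apply, mul_inv_rev,
          map_mul τ x⁻¹, Module.End.mul_apply, ← Module.End.mul_apply (τ h⁻¹), ← map_mul,
          inv_mul_cancel, map_one, Module.End.one_apply]
      · simp only [hg', LinearMap.sub_apply, map_sub, hge, trAll_apply, map_sum, hσ', hAe]
        congr 1
        refine Finset.sum_congr rfl fun x _ => ?_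
        rw [hΩ, LinearMap.comp_apply, ← Module.End.mul_apply (A e), ← map_mul, hee]
      · rintro ⟨ω', hω'⟩
        refine hgP ⟨ω' + Ω, LinearMap.ext fun t => ?_⟩
        have h1 := LinearMap.congr_fun hω' t
        simp only [hg', LinearMap.sub_apply, sub_eq_iff_eq_add] at h1
        rw [h1]
        simp [trAll_apply, Finset.sum_add_distrib]
      · -- the layer is cleared
        have h1 : g t - A e (∑ i, ∑ j, ν i j (π i j (g t))) ∈ X (l + 1) := by
          conv => arg 2; arg 1; rw [← hge t]
          rw [← map_sub]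
          refine hXA _ _ _ ?_
          have hone := hXJ l _ (one_sub_sum_mem S) _ (hgX t)
          rw [map_sub, map_one, LinearMap.sub_apply, Module.End.one_apply, map_sum,
            LinearMap.sum_apply] at hone
          refine (Submodule.sub_mem_iff_left _ ?_).1
            (show (g t - ∑ i, A (∑ r, eij S i r (S.zeroIdx i) * eij S i (S.zeroIdx i) r) (g t)) +
              (∑ i, A (∑ r, eij S i r (S.zeroIdx i) * eij S i (S.zeroIdx i) r) (g t) -
                ∑ i, ∑ j, ν i j (π i j (g t))) - 0 ∈ X (l + 1) from ?_) |> fun h => by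
              simpa using h
          · exact Submodule.zero_mem _
          rw [sub_zero]
          refine Submodule.add_mem _ hone ?_
          rw [← Finset.sum_sub_distrib]
          refine Submodule.sum_mem _ fun i _ => ?_
          simp only [ν, π, map_sum, LinearMap.sum_apply, LinearMap.smulRight_apply,
            LinearMap.proj_apply, LinearMap.pi_apply, LinearMap.comp_apply, map_mul,
            Module.End.mul_apply]
          rw [Finset.sum_comm, ← Finset.sum_sub_distrib]
          refine Submodule.sum_mem _ fun r _ => ?_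
          rw [show ∑ j, c j (q (A (eij S i (S.zeroIdx i) r) (g t))) •
              A (eij S i r (S.zeroIdx i)) (y j) = A (eij S i r (S.zeroIdx i))
              (∑ j, c j (q (A (eij S i (S.zeroIdx i) r) (g t))) • y j) by
            simp only [map_sum, map_smul], ← map_sub]
          exact hXA _ _ _ (hexp _ (hXA _ _ _ (hgX t)))
        have h2 : A e (∑ i, ∑ j, ν i j (π i j (g t))) - trAll τ (σ.comp H.subtype) Ω t ∈
            X (l + 1) := by
          have h3 : ∀ i j, π i j (g t) = trAll τ ((colGroupRep S i).comp H.subtype) (ω i j) t :=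
            fun i j => LinearMap.congr_fun (hω i j) t
          have h4 : trAll τ (σ.comp H.subtype) Ω t =
              A e (∑ i, ∑ j, ∑ x : H, σ (x : G) (ν i j (ω i j (τ x⁻¹ t)))) := by
            simp only [trAll_apply, hΩ, LinearMap.comp_apply, LinearMap.sum_apply, map_sum, hσ',
              hAe]
            rw [Finset.sum_comm]
            exact Finset.sum_congr rfl fun i _ => Finset.sum_comm
          rw [h4, ← map_sub]
          refine hXA _ _ _ ?_
          rw [← Finset.sum_sub_distrib]
          refine Submodule.sum_mem _ fun i _ => ?_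
          rw [← Finset.sum_sub_distrib]
          refine Submodule.sum_mem _ fun j _ => ?_
          rw [h3, trAll_apply, map_sum, ← Finset.sum_sub_distrib]
          refine Submodule.sum_mem _ fun x _ => ?_
          rw [hσA]
          show ν i j (colGroupRep S i (x : G) (ω i j (τ x⁻¹ t))) - _ ∈ _
          rw [show colGroupRep S i (x : G) = colRep S i (single (x : G) 1) from rfl]
          exact hν i j _ _
        have := (X (l + 1)).add_mem h1 h2
        rw [hg', LinearMap.sub_apply]
        simpa using this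
  obtain ⟨N, hN⟩ := exists_kerIdeal_pow S
  obtain ⟨g, -, -, hgP, hgX⟩ := hdeep N
  refine hgP ⟨0, LinearMap.ext fun t => ?_⟩
  have hXN : X N = ⊥ := by
    rw [hX, Submodule.span_eq_bot]
    rintro _ ⟨a, ha, v, rfl⟩
    rw [hN, Ideal.mem_bot] at ha
    rw [ha, map_zero, LinearMap.zero_apply]
  have := hgX t
  rw [hXN, Submodule.mem_bot] at this
  rw [this, trAll_apply]
  simp

/-- A sum over a free action is a sum over the group of translates of a sum over
representatives. -/
theorem sum_free {A : Type*} [Group A] [Fintype A] {Y : Type*} [Fintype Y] [MulAction A Y]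
    (hfree : ∀ (a : A) (y : Y), a • y = y → a = 1) {V : Type*} [AddCommMonoid V] (F : Y → V)
    (act : A → V →+ V) (hF : ∀ a y, F (a • y) = act a (F y)) :
    ∑ y, F y = ∑ a : A, act a (∑ o : MulAction.orbitRel.Quotient A Y, F o.out) := by
  simp only [map_sum, ← hF]
  rw [← Fintype.sum_prod_type' (f := fun (a : A) (o : MulAction.orbitRel.Quotient A Y) =>
    F (a • o.out))]
  refine (Fintype.sum_bijective (fun c : A × MulAction.orbitRel.Quotient A Y => c.1 • c.2.out)
    ⟨?_, fun y => ?_⟩ _ _ fun _ => rfl).symm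
  · rintro ⟨a, o⟩ ⟨a', o'⟩ h
    simp only at h
    have h' : (a'⁻¹ * a) • o.out = o'.out := by rw [mul_smul, h, inv_smul_smul]
    have ho : o = o' := by
      rw [← Quotient.out_eq o, ← Quotient.out_eq o', eq_comm]
      exact Quotient.sound ⟨_, h'⟩
    subst ho
    rw [inv_mul_eq_one.1 (hfree _ _ h')]
  · obtain ⟨a, ha⟩ := Quotient.mk_out (s := MulAction.orbitRel A Y) y
    exact ⟨(a⁻¹, Quotient.mk (MulAction.orbitRel A Y) y), by simp [← ha]⟩

/-- **Endomorphisms over the subgroup are scalars and traces.** -/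
theorem end_eq_smul_add_trAll {V : Type*} [AddCommGroup V] [Module k V] (σ : Representation k G V)
    (hSchur : ∀ Φ : Module.End k V, (∀ g v, Φ (σ g v) = σ g (Φ v)) → ∃ a : k, Φ = a • 1)
    {P : Subgroup G} (hPH : P ≤ H)
    (hTI : ∀ g : G, ∀ h ∈ H, ∀ u ∈ P, u ≠ 1 → g⁻¹ * h * u * h⁻¹ * g ∈ P → g ∈ H)
    (Y : Module.End k V) (hY : ∀ u ∈ P, σ u * Y * σ u⁻¹ = Y) (E : Module.End k V)
    (hE : E = ∑ c : H ⧸ P.subgroupOf H, σ ((c.out : H) : G) * Y * σ ((c.out : H) : G)⁻¹)
    (hEH : ∀ h ∈ H, σ h * E = E * σ h) (Φ : Module.End k V)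
    (hΦ : ∀ h ∈ H, σ h * Φ = Φ * σ h) (hEΦ : E * Φ = Φ) (hΦE : Φ * E = Φ) :
    ∃ (a : k) (ω : Module.End k V), Φ = a • E + ∑ h : H, σ (h : G) * ω * σ (h : G)⁻¹ := by
  set ω₀ := Φ * Y with hω₀
  set cj : G → Module.End k V → Module.End k V := fun g Z => σ g * Z * σ g⁻¹ with hcj
  have hcjcj : ∀ g g' Z, cj g (cj g' Z) = cj (g * g') Z := fun g g' Z => by
    simp only [hcj, map_mul, mul_inv_rev, mul_assoc]
  have hPω : ∀ u ∈ P, cj u ω₀ = ω₀ := fun u hu => by
    simp only [hcj, hω₀, ← mul_assoc, hΦ u (hPH hu)]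
    rw [mul_assoc Φ (σ u), mul_assoc Φ, hY u hu]
  have hout : ∀ (g : G), cj ((QuotientGroup.mk g : G ⧸ P).out) ω₀ = cj g ω₀ := fun g => by
    obtain ⟨⟨u, hu⟩, he⟩ := QuotientGroup.mk_out_eq_mul P g
    rw [he, ← hcjcj, hPω u hu]
  set Tot := ∑ x : G ⧸ P, cj x.out ω₀ with hTot
  obtain ⟨a, ha⟩ := hSchur Tot fun g v => by
    have h1 : cj g Tot = Tot := by
      rw [hTot]
      conv_rhs => rw [← Equiv.sum_comp (MulAction.toPerm g : Equiv.Perm (G ⧸ P))]
      simp only [hcj, Finset.mul_sum, Finset.sum_mul]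
      refine Finset.sum_congr rfl fun x _ => ?_
      show cj g (cj x.out ω₀) = cj (g • x).out ω₀
      rw [hcjcj, ← hout (g * x.out)]
      congr 2
      conv_rhs => rw [← QuotientGroup.out_eq' x]
      rfl
    have h2 : ∀ w, σ g⁻¹ (σ g w) = w := fun w => by
      rw [← Module.End.mul_apply, ← map_mul, inv_mul_cancel, map_one, Module.End.one_apply]
    conv_lhs => rw [← h1]
    simp only [hcj, Module.End.mul_apply, h2]
  -- the cosets inside and outside
  set In : Finset (G ⧸ P) := Finset.univ.filter fun x => x.out ∈ H with hIn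
  have hsum_in : ∑ x ∈ In, cj x.out ω₀ = Φ := by
    refine Eq.trans (Finset.sum_nbij' (fun x => if hx : x.out ∈ H then
      (QuotientGroup.mk (⟨x.out, hx⟩ : H) : H ⧸ P.subgroupOf H) else QuotientGroup.mk 1)
      (fun c => QuotientGroup.mk ((c.out : H) : G)) (fun _ _ => Finset.mem_univ _) (fun c _ => ?_)
      (fun x hx => ?_) (fun c _ => ?_) (g := fun c : H ⧸ P.subgroupOf H =>
        cj ((c.out : H) : G) ω₀) fun x hx => ?_) ?_
    · obtain ⟨⟨u, hu⟩, he⟩ := QuotientGroup.mk_out_eq_mul P ((c.out : H) : G)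
      simp only [hIn, Finset.mem_filter, Finset.mem_univ, true_and, he]
      exact H.mul_mem (c.out : H).2 (hPH hu)
    · have hxH : x.out ∈ H := (Finset.mem_filter.1 hx).2
      simp only [dif_pos hxH]
      obtain ⟨⟨u, hu⟩, he⟩ := QuotientGroup.mk_out_eq_mul (P.subgroupOf H) (⟨x.out, hxH⟩ : H)
      rw [he]
      conv_rhs => rw [← QuotientGroup.out_eq' x]
      rw [QuotientGroup.eq]
      simpa using P.inv_mem (Subgroup.mem_subgroupOf.1 hu)
    · obtain ⟨⟨u, hu⟩, he⟩ := QuotientGroup.mk_out_eq_mul P ((c.out : H) : G)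
      have hm : ((c.out : H) : G) * u ∈ H := H.mul_mem (c.out : H).2 (hPH hu)
      simp only [he, dif_pos hm]
      conv_rhs => rw [← QuotientGroup.out_eq' c]
      rw [QuotientGroup.eq, Subgroup.mem_subgroupOf]
      simpa using P.inv_mem hu
    · have hxH : x.out ∈ H := (Finset.mem_filter.1 hx).2
      simp only [dif_pos hxH]
      obtain ⟨⟨u, hu⟩, he⟩ := QuotientGroup.mk_out_eq_mul (P.subgroupOf H) (⟨x.out, hxH⟩ : H)
      rw [he, Subgroup.coe_mul, ← hcjcj, hPω _ (Subgroup.mem_subgroupOf.1 hu)]
    · conv_rhs => rw [← hΦE, hE, Finset.mul_sum]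
      refine Finset.sum_congr rfl fun c _ => ?_
      simp only [hcj, hω₀, ← mul_assoc, hΦ _ (c.out : H).2]
  set Ot := {x : G ⧸ P // x.out ∉ H}
  have hrest : Φ = a • 1 - ∑ x : Ot, cj (x : G ⧸ P).out ω₀ := by
    rw [← ha, hTot, ← Finset.sum_filter_add_sum_filter_not Finset.univ (fun x : G ⧸ P => x.out ∈ H),
      hsum_in, ← Finset.sum_subtype (Finset.univ.filter fun x : G ⧸ P => ¬ x.out ∈ H) (by simp)
        (fun x => cj x.out ω₀), add_sub_cancel_right]
  -- the action on pairs of cosets
  have hOt : ∀ (h : H) (x : Ot), ((h : G) • (x : G ⧸ P)).out ∉ H := fun h x hx => x.2 <| by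
    obtain ⟨⟨u, hu⟩, he⟩ := QuotientGroup.mk_out_eq_mul P ((h : G) * (x : G ⧸ P).out)
    rw [show (h : G) • (x : G ⧸ P) = QuotientGroup.mk ((h : G) * (x : G ⧸ P).out) by
      conv_lhs => rw [← QuotientGroup.out_eq' (x : G ⧸ P)]
      rfl, he, H.mul_mem_cancel_right (hPH hu), H.mul_mem_cancel_left h.2] at hx
    exact hx
  letI : MulAction H Ot :=
    { smul := fun h x => ⟨(h : G) • (x : G ⧸ P), hOt h x⟩
      one_smul := fun x => Subtype.ext (one_smul G (x : G ⧸ P))
      mul_smul := fun a b x => Subtype.ext (mul_smul (a : G) b (x : G ⧸ P)) }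
  set Pr : (H ⧸ P.subgroupOf H) × Ot → Module.End k V := fun c =>
    cj ((c.1.out : H) : G) Y * cj (c.2 : G ⧸ P).out ω₀ with hPr
  have hfree : ∀ (h : H) (c : (H ⧸ P.subgroupOf H) × Ot), h • c = c → h = 1 := by
    intro h c hc
    have h1 : (QuotientGroup.mk (h * c.1.out) : H ⧸ P.subgroupOf H) = QuotientGroup.mk c.1.out := by
      conv_rhs => rw [QuotientGroup.out_eq', ← congrArg Prod.fst hc]
      show _ = h • c.1
      conv_rhs => rw [← QuotientGroup.out_eq' c.1]
      rfl
    have h2 : (QuotientGroup.mk ((h : G) * (c.2 : G ⧸ P).out) : G ⧸ P) =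
        QuotientGroup.mk (c.2 : G ⧸ P).out := by
      conv_rhs => rw [QuotientGroup.out_eq', ← congrArg (fun d => (d.2 : G ⧸ P)) hc]
      show _ = (h : G) • (c.2 : G ⧸ P)
      conv_rhs => rw [← QuotientGroup.out_eq' (c.2 : G ⧸ P)]
      rfl
    rw [QuotientGroup.eq, Subgroup.mem_subgroupOf] at h1
    rw [QuotientGroup.eq] at h2
    by_contra hne
    set u : G := ((c.1.out : H) : G)⁻¹ * (h : G) * (c.1.out : H) with hu
    have huP : u ∈ P := by
      have := P.inv_mem h1
      simpa [hu, mul_assoc] using this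
    refine c.2.2 (hTI _ _ (c.1.out : H).2 u huP (fun h0 => hne (Subtype.ext ?_)) ?_)
    · have : (h : G) = ((c.1.out : H) : G) * u * ((c.1.out : H) : G)⁻¹ := by rw [hu]; group
      rw [this, h0, mul_one, mul_inv_cancel]; rfl
    · have := P.inv_mem h2
      simpa [hu, mul_assoc] using this
  have hact : ∀ (h : H) c, Pr (h • c) = AddMonoidHom.mk'
      (fun Z => cj (h : G) Z) (fun A B => by simp only [hcj, mul_add, add_mul]) (Pr c) := by
    intro h c
    simp only [hPr, AddMonoidHom.mk'_apply]
    have e1 : cj (((h • c).1.out : H) : G) Y = cj (h : G) (cj ((c.1.out : H) : G) Y) := by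
      obtain ⟨⟨u, hu⟩, he⟩ := QuotientGroup.mk_out_eq_mul (P.subgroupOf H) (h * c.1.out)
      rw [show (h • c).1 = QuotientGroup.mk (h * c.1.out) by
        show h • c.1 = _
        conv_lhs => rw [← QuotientGroup.out_eq' c.1]
        rfl, he, Subgroup.coe_mul, Subgroup.coe_mul, hcjcj, ← hcjcj _ (u : G),
        show cj (u : G) Y = Y from hY _ (Subgroup.mem_subgroupOf.1 hu)]
    have e2 : cj ((h • c).2 : G ⧸ P).out ω₀ = cj (h : G) (cj (c.2 : G ⧸ P).out ω₀) := by
      rw [hcjcj, ← hout ((h : G) * (c.2 : G ⧸ P).out)]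
      congr 2
      show (h : G) • (c.2 : G ⧸ P) = _
      conv_lhs => rw [← QuotientGroup.out_eq' (c.2 : G ⧸ P)]
      rfl
    rw [e1, e2]
    simp only [hcj]
    rw [show ∀ A B : Module.End k V, σ (h : G) * A * σ (h : G)⁻¹ * (σ (h : G) * B * σ (h : G)⁻¹) =
      σ (h : G) * A * (σ (h : G)⁻¹ * σ (h : G)) * B * σ (h : G)⁻¹ from fun A B => by
        simp only [mul_assoc], ← map_mul, inv_mul_cancel, map_one, mul_one]
    simp only [mul_assoc]
  refine ⟨a, -∑ o : MulAction.orbitRel.Quotient H ((H ⧸ P.subgroupOf H) × Ot), Pr o.out, ?_⟩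
  conv_lhs => rw [← hEΦ, hrest, mul_sub, mul_smul_comm, mul_one]
  rw [sub_eq_add_neg]
  congr 1
  rw [hE, Finset.sum_mul]
  simp only [Finset.mul_sum, mul_neg, neg_mul, Finset.sum_neg_distrib]
  congr 1
  rw [← Fintype.sum_prod_type', sum_free hfree Pr _ hact]
  simp only [AddMonoidHom.mk'_apply, map_sum, hcj, Finset.mul_sum, Finset.sum_mul]

end Cfsg.Lib.Blocks.CyclicDefect
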