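import Mathlib
import Cfsg.Agent.Blocks.CyclicDefect.Socle

/-!
# Twists of a simple representation by linear characters

If the piece cut by an idempotent of the normal subgroup is stabilised by a cyclic extension and
its simple constituents are all isomorphic, then the twists by linear characters differing at the
generator of the stabilizer are not isomorphic.
-/

set_option autoImplicit false
set_option linter.unusedSectionVars false

namespace Cfsg.Lib.Blocks.CyclicDefect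

open MonoidAlgebra
open scoped Classical

variable {k : Type*} [Field k] {H : Type*} [Group H] [Fintype H] {K : Type*} [Group K] [Fintype K]
  {W : Type*} [AddCommGroup W] [Module k W] [FiniteDimensional k W]

/-- A subspace invariant under the normal subgroup is invariant under its group algebra. -/
lemma resK_mem {ι : K →* H} {τ : Representation k H W} {X : Submodule k W}
    (hX : ∀ x, ∀ v ∈ X, τ (ι x) v ∈ X) (a : MonoidAlgebra k K) {v : W} (hv : v ∈ X) :
    resK ι τ a v ∈ X := by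
  rw [Loc.eq_sum_coeff a, map_sum, LinearMap.sum_apply]
  refine X.sum_mem fun x _ => ?_
  rw [show (single x (a.coeff x) : MonoidAlgebra k K) = a.coeff x • single x 1 by
    rw [smul_single, smul_eq_mul, mul_one], map_smul, LinearMap.smul_apply, resK_single]
  exact X.smul_mem _ (hX _ _ hv)

/-- Maps commuting with the normal subgroup commute with its group algebra. -/
lemma resK_commute {ι : K →* H} {τ : Representation k H W} {Φ : Module.End k W}
    (hΦ : ∀ x v, Φ (τ (ι x) v) = τ (ι x) (Φ v)) (a : MonoidAlgebra k K) (v : W) :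
    Φ (resK ι τ a v) = resK ι τ a (Φ v) := by
  rw [Loc.eq_sum_coeff a]
  simp only [map_sum, LinearMap.sum_apply]
  refine Finset.sum_congr rfl fun x _ => ?_
  rw [show (single x (a.coeff x) : MonoidAlgebra k K) = a.coeff x • single x 1 by
    rw [smul_single, smul_eq_mul, mul_one]]
  simp only [map_smul, LinearMap.smul_apply, resK_single, hΦ]

variable [IsAlgClosed k]

/-- **The twists are distinct.** -/
theorem twist_eq_one {ι : K →* H} (hnorm : ∀ h x, ∃ y, h * ι x * h⁻¹ = ι y)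
    {τ : Representation k H W}
    (hτ : ∀ Y : Submodule k W, (∀ h, ∀ v ∈ Y, τ h v ∈ Y) → Y = ⊥ ∨ Y = ⊤)
    {f : MonoidAlgebra k K} (hfi : f * f = f) (hfc : ∀ a, f * a = a * f) (hf0 : resK ι τ f ≠ 0)
    {t : H} (ht : ∀ w, resK ι τ f (τ t w) = τ t (resK ι τ f w))
    (hout : ∀ h, (∀ (n : ℕ) (x : K), h ≠ t ^ n * ι x) →
      ∀ w, resK ι τ f (τ h (resK ι τ f w)) = 0)
    (huniq : ∀ X Y : Submodule k W, X ≠ ⊥ → Y ≠ ⊥ → X ≤ LinearMap.range (resK ι τ f) →
      Y ≤ LinearMap.range (resK ι τ f) → (∀ x, ∀ v ∈ X, τ (ι x) v ∈ X) →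
      (∀ x, ∀ v ∈ Y, τ (ι x) v ∈ Y) →
      (∀ Z ≤ X, (∀ x, ∀ v ∈ Z, τ (ι x) v ∈ Z) → Z = ⊥ ∨ Z = X) →
      (∀ Z ≤ Y, (∀ x, ∀ v ∈ Z, τ (ι x) v ∈ Z) → Z = ⊥ ∨ Z = Y) →
      ∃ θ : W →ₗ[k] W, (∀ v ∈ X, θ v ∈ Y) ∧ (∀ v ∈ X, θ v = 0 → v = 0) ∧
        ∀ x, ∀ v ∈ X, θ (τ (ι x) v) = τ (ι x) (θ v))
    (ω : H →* kˣ) (hω : ∀ x, ω (ι x) = 1) (d : ℕ) (Θ : W ≃ₗ[k] W)
    (hΘ : ∀ h w, Θ (τ h w) = ((ω h : k) ^ d) • τ h (Θ w)) : ω t ^ d = 1 := by
  set F := resK ι τ f
  have hFF : ∀ w, F (F w) = F w := fun w => by rw [← Module.End.mul_apply, ← map_mul, hfi]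
  have hFfix : ∀ v ∈ LinearMap.range F, F v = v := by rintro _ ⟨w, rfl⟩; exact hFF w
  have hrange : ∀ x, ∀ v ∈ LinearMap.range F, τ (ι x) v ∈ LinearMap.range F := by
    rintro x _ ⟨w, rfl⟩
    refine ⟨τ (ι x) w, ?_⟩
    rw [← resK_single ι τ x, ← Module.End.mul_apply, ← map_mul, hfc, map_mul, Module.End.mul_apply]
  -- a simple constituent
  obtain ⟨X, ⟨hX0, hXF, hXK⟩, hXmin⟩ := (wellFounded_lt : WellFounded ((· < ·) :
      Submodule k W → Submodule k W → Prop)).has_min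
    {X | X ≠ ⊥ ∧ X ≤ LinearMap.range F ∧ ∀ x, ∀ v ∈ X, τ (ι x) v ∈ X}
    ⟨LinearMap.range F, fun h => hf0 (LinearMap.range_eq_bot.1 h), le_rfl, hrange⟩
  have hXs : ∀ Z ≤ X, (∀ x, ∀ v ∈ Z, τ (ι x) v ∈ Z) → Z = ⊥ ∨ Z = X := fun Z hZ hZK => by
    by_contra h
    push Not at h
    exact hXmin Z ⟨h.1, hZ.trans hXF, hZK⟩ (lt_of_le_of_ne hZ h.2)
  -- its translate
  set Y := X.map (τ t⁻¹) with hYdef
  have hcomp : ∀ a b v, τ a (τ b v) = τ (a * b) v := fun a b v => by
    rw [map_mul, Module.End.mul_apply]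
  have htinj : ∀ v, τ t (τ t⁻¹ v) = v := fun v => by rw [hcomp, mul_inv_cancel, map_one]; rfl
  have htinj' : ∀ v, τ t⁻¹ (τ t v) = v := fun v => by rw [hcomp, inv_mul_cancel, map_one]; rfl
  have hYF : Y ≤ LinearMap.range F := by
    rintro _ ⟨v, hv, rfl⟩
    refine ⟨τ t⁻¹ v, ?_⟩
    rw [← hFfix v (hXF hv)]
    conv_rhs => rw [← htinj v, ht, htinj']
    rw [hFfix v (hXF hv)]
  have hYK : ∀ x, ∀ v ∈ Y, τ (ι x) v ∈ Y := by
    rintro x _ ⟨v, hv, rfl⟩
    obtain ⟨y, hy⟩ := hnorm t x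
    refine ⟨τ (ι y) v, hXK _ _ hv, ?_⟩
    rw [hcomp, hcomp, ← hy]
    group
  have hYs : ∀ Z ≤ Y, (∀ x, ∀ v ∈ Z, τ (ι x) v ∈ Z) → Z = ⊥ ∨ Z = Y := fun Z hZ hZK => by
    have hZ' : ∀ x, ∀ v ∈ Z.map (τ t), τ (ι x) v ∈ Z.map (τ t) := by
      rintro x _ ⟨v, hv, rfl⟩
      obtain ⟨y, hy⟩ := hnorm t⁻¹ x
      refine ⟨τ (ι y) v, hZK _ _ hv, ?_⟩
      rw [hcomp, hcomp, ← hy]
      group
    rcases hXs (Z.map (τ t)) (by
      rintro _ ⟨v, hv, rfl⟩
      obtain ⟨w, hw, rfl⟩ := hZ hv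
      rw [htinj]; exact hw) hZ' with h | h
    · refine Or.inl ((Submodule.eq_bot_iff _).2 fun v hv => ?_)
      have : τ t v ∈ Z.map (τ t) := ⟨v, hv, rfl⟩
      rw [h, Submodule.mem_bot] at this
      rw [← htinj' v, this, map_zero]
    · refine Or.inr (le_antisymm hZ ?_)
      rintro _ ⟨w, hw, rfl⟩
      rw [← h] at hw
      obtain ⟨v, hv, rfl⟩ := hw
      rwa [htinj']
  have hY0 : Y ≠ ⊥ := fun h => hX0 ((Submodule.eq_bot_iff _).2 fun v hv => by
    have : τ t⁻¹ v ∈ Y := ⟨v, hv, rfl⟩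
    rw [h, Submodule.mem_bot] at this
    rw [← htinj v, this, map_zero])
  obtain ⟨θ, hθY, hθ0, hθK⟩ := huniq Y X hY0 hX0 hYF hXF hYK hXK hYs hXs
  let M : X →ₗ[k] X := (θ.comp ((τ t⁻¹).comp X.subtype)).codRestrict X fun v =>
    hθY _ ⟨v, v.2, rfl⟩
  have hMs : Function.Surjective M := LinearMap.surjective_of_injective <| by
    rw [injective_iff_map_eq_zero]
    intro v hv
    have h1 : θ (τ t⁻¹ (v : W)) = 0 := congrArg Subtype.val hv
    refine Subtype.ext ?_
    rw [← htinj (v : W), hθ0 _ ⟨v, v.2, rfl⟩ h1, map_zero]; rfl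
  have hMK : ∀ (x y : K) (v : X), t⁻¹ * ι x * t = ι y →
      (M ⟨τ (ι x) v, hXK _ _ v.2⟩ : W) = τ (ι y) (M v : W) := fun x y v hy => by
    show θ (τ t⁻¹ (τ (ι x) (v : W))) = τ (ι y) (θ (τ t⁻¹ (v : W)))
    rw [← hθK y _ ⟨v, v.2, rfl⟩, hcomp, hcomp, ← hy]
    congr 2
    group
  -- the equivariant maps of the constituent into the cut piece
  let Hs : Submodule k (X →ₗ[k] W) :=
    { carrier := {φ | (∀ x (v : X), φ ⟨τ (ι x) v, hXK _ _ v.2⟩ = τ (ι x) (φ v)) ∧
        ∀ v, φ v ∈ LinearMap.range F}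
      add_mem' := fun {a b} ha hb => ⟨fun x v => by simp [ha.1, hb.1],
        fun v => Submodule.add_mem _ (ha.2 v) (hb.2 v)⟩
      zero_mem' := ⟨fun _ _ => by simp, fun _ => Submodule.zero_mem _⟩
      smul_mem' := fun c a ha => ⟨fun x v => by simp [ha.1],
        fun v => Submodule.smul_mem _ _ (ha.2 v)⟩ }
  have hop : ∀ φ ∈ Hs, (τ t).comp (φ.comp M) ∈ Hs := fun φ hφ => by
    refine ⟨fun x v => ?_, fun v => ?_⟩
    · obtain ⟨y, hy⟩ := hnorm t⁻¹ x
      rw [inv_inv] at hy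
      simp only [LinearMap.comp_apply]
      rw [show M ⟨τ (ι x) v, hXK _ _ v.2⟩ = ⟨τ (ι y) (M v : W), hXK _ _ (M v).2⟩ from
        Subtype.ext (hMK x y v hy), hφ.1 y (M v), hcomp, hcomp, ← hy]
      congr 2
      group
    · obtain ⟨w, hw⟩ := hφ.2 (M v)
      exact ⟨τ t w, by rw [ht, hw]; rfl⟩
  let op : Module.End k Hs :=
    { toFun := fun φ => ⟨(τ t).comp ((φ : X →ₗ[k] W).comp M), hop φ φ.2⟩
      map_add' := fun a b => Subtype.ext (by
        simp [LinearMap.add_comp, LinearMap.comp_add])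
      map_smul' := fun c a => Subtype.ext (by simp [LinearMap.smul_comp, LinearMap.comp_smul]) }
  haveI : Nontrivial Hs := ⟨⟨⟨X.subtype, fun _ _ => rfl, fun v => hXF v.2⟩, 0, fun h => hX0
    ((Submodule.eq_bot_iff _).2 fun v hv => by
      have := LinearMap.congr_fun (congrArg Subtype.val h) ⟨v, hv⟩
      exact this)⟩⟩
  obtain ⟨c, hc⟩ := Module.End.exists_eigenvalue op
  obtain ⟨⟨φ, hφK, hφF⟩, hφe, hφ0⟩ := hc.exists_hasEigenvector
  have heig : ∀ v, τ t (φ (M v)) = c • φ v := fun v =>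
    LinearMap.congr_fun (congrArg Subtype.val (Module.End.mem_eigenspace_iff.1 hφe)) v
  set I := LinearMap.range φ
  have hIt : ∀ v ∈ I, τ t v ∈ I := by
    rintro _ ⟨u, rfl⟩
    obtain ⟨v, rfl⟩ := hMs u
    exact ⟨c • v, by rw [map_smul, heig]⟩
  have hIK : ∀ x, ∀ v ∈ I, τ (ι x) v ∈ I := by
    rintro x _ ⟨v, rfl⟩
    exact ⟨_, hφK x v⟩
  have hI0 : I ≠ ⊥ := fun h => hφ0 (Subtype.ext (LinearMap.range_eq_bot.1 h))
  -- it is the whole cut piece
  have hIF : LinearMap.range F ≤ I := by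
    let G : Submodule k W := Submodule.span k {w | ∃ h, ∃ v ∈ I, w = τ h v}
    have hG : G = ⊤ := by
      refine (hτ G fun h v hv => ?_).resolve_left fun h => hI0 ((Submodule.eq_bot_iff _).2
        fun v hv => ?_)
      · refine (Submodule.span_le.2 ?_ : G ≤ G.comap (τ h)) hv
        rintro _ ⟨a, v, hv, rfl⟩
        exact Submodule.subset_span ⟨h * a, v, hv, hcomp _ _ _⟩
      · have : v ∈ G := Submodule.subset_span ⟨1, v, hv, by simp⟩
        rwa [h, Submodule.mem_bot] at this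
    rintro _ ⟨w, rfl⟩
    refine (Submodule.span_le.2 ?_ : G ≤ I.comap F) (hG.symm.le Submodule.mem_top)
    rintro _ ⟨h, v, hv, rfl⟩
    have hvF : F v = v := hFfix v (by obtain ⟨u, rfl⟩ := hv; exact hφF u)
    show F (τ h v) ∈ I
    by_cases hh : ∀ (n : ℕ) (x : K), h ≠ t ^ n * ι x
    · rw [← hvF, hout h hh]; exact I.zero_mem
    · push Not at hh
      obtain ⟨n, x, rfl⟩ := hh
      have hmem : τ (t ^ n * ι x) v ∈ I := by
        rw [map_mul, Module.End.mul_apply]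
        induction n with
        | zero => simpa using hIK x v hv
        | succ n ih =>
          rw [pow_succ', map_mul, Module.End.mul_apply]
          exact hIt _ ih
      rw [hFfix _ (by obtain ⟨u, hu⟩ := hmem; rw [← hu]; exact hφF u)]
      exact hmem
  -- the twisting isomorphism is a scalar there
  have hΘF : ∀ w, Θ (F w) = F (Θ w) := fun w =>
    resK_commute (Φ := Θ.toLinearMap) (fun x v => by
      show Θ (τ (ι x) v) = τ (ι x) (Θ v)
      rw [hΘ, hω, Units.val_one, one_pow, one_smul]) f w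
  haveI : Nontrivial (LinearMap.range F) :=
    Submodule.nontrivial_iff_ne_bot.2 fun h => hf0 (LinearMap.range_eq_bot.1 h)
  let ΘF : Module.End k (LinearMap.range F) := Θ.toLinearMap.restrict (p := LinearMap.range F)
    (q := LinearMap.range F) fun v hv => by
      obtain ⟨w, rfl⟩ := hv
      exact ⟨Θ w, (hΘF w).symm⟩
  obtain ⟨a, ha⟩ := Module.End.exists_eigenvalue ΘF
  obtain ⟨⟨u, huF⟩, hue, hu0⟩ := ha.exists_hasEigenvector
  have hΘu : Θ u = a • u := congrArg Subtype.val (Module.End.mem_eigenspace_iff.1 hue)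
  set E := I ⊓ LinearMap.ker (Θ.toLinearMap - a • LinearMap.id) with hE
  have hEK : ∀ x, ∀ v ∈ E, τ (ι x) v ∈ E := fun x v hv => by
    refine Submodule.mem_inf.2 ⟨hIK x v hv.1, ?_⟩
    have h1 := LinearMap.mem_ker.1 hv.2
    simp only [LinearMap.sub_apply, LinearMap.smul_apply, LinearMap.id_apply, LinearEquiv.coe_coe,
      sub_eq_zero] at h1
    rw [LinearMap.mem_ker]
    simp only [LinearMap.sub_apply, LinearMap.smul_apply, LinearMap.id_apply, LinearEquiv.coe_coe,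
      sub_eq_zero, hΘ, hω, Units.val_one, one_pow, one_smul, h1, map_smul]
  have hall : ∀ v ∈ I, Θ v = a • v := by
    let E' : Submodule k W := (E.comap φ).map X.subtype
    have hE'K : ∀ x, ∀ v ∈ E', τ (ι x) v ∈ E' := by
      rintro x _ ⟨v, hv, rfl⟩
      refine ⟨⟨τ (ι x) v, hXK _ _ v.2⟩, ?_, rfl⟩
      show φ _ ∈ E
      rw [hφK]
      exact hEK x _ hv
    rcases hXs E' (by rintro _ ⟨v, -, rfl⟩; exact v.2) hE'K with h | h
    · exfalso
      obtain ⟨z, hz⟩ := hIF huF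
      have hzE : z ∈ E.comap φ := by
        show φ z ∈ E
        rw [hz]
        refine Submodule.mem_inf.2 ⟨hIF huF, ?_⟩
        simp [hΘu]
      have : (z : W) ∈ E' := ⟨z, hzE, rfl⟩
      rw [h, Submodule.mem_bot] at this
      refine hu0 (Subtype.ext ?_)
      show u = 0
      rw [← hz, show z = 0 from Subtype.ext this, map_zero]
    · rintro _ ⟨v, rfl⟩
      have : (v : W) ∈ E' := h.symm.le v.2
      obtain ⟨v', hv', hvv⟩ := this
      rw [show v' = v from Subtype.ext hvv] at hv'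
      have h1 := LinearMap.mem_ker.1 (Submodule.mem_inf.1 hv').2
      simpa [sub_eq_zero] using h1
  have huI := hIF huF
  have h1 := hΘ t u
  rw [hall _ (hIt u huI), hΘu, map_smul, smul_smul] at h1
  have htu : τ t u ≠ 0 := fun h => hu0 (Subtype.ext (by
    show u = 0
    rw [← htinj' u, h, map_zero]))
  have ha0 : a ≠ 0 := fun h => hu0 (Subtype.ext (Θ.injective (by
    show Θ u = Θ 0
    rw [hΘu, h, zero_smul, map_zero])))
  have h2 := smul_left_injective k htu h1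
  have h3 : (ω t : k) ^ d = 1 := mul_right_cancel₀ ha0 (by rw [one_mul]; exact h2.symm)
  ext
  rw [Units.val_pow_eq_pow_val, h3, Units.val_one]

end Cfsg.Lib.Blocks.CyclicDefect
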