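import Mathlib
import Cfsg.Agent.Blocks.CyclicDefect.Setting
import Cfsg.Agent.Blocks.CyclicDefect.Twist
import Cfsg.Agent.Blocks.CyclicDefect.Transfer
import Cfsg.Agent.S4633

/-!
# A block with cyclic defect group has at least as many simple modules as its inertial index

The twists of a simple representation of the normalizer of the subgroup of order `p` go to
distinct simple modules of the block.
-/

set_option autoImplicit false
set_option linter.unusedSectionVars false
set_option linter.style.haveILetI false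

namespace Cfsg.Lib.Blocks.CyclicDefect

open Cfsg.Lib.Chars MonoidAlgebra Cfsg.Lib.Blocks.IBr Cfsg.Lib.Blocks.TwoMember
open scoped Classical

section Rep

variable {k : Type*} [Field k] {H : Type*} [Group H] {W : Type*} [AddCommGroup W] [Module k W]

/-- A subrepresentation. -/
noncomputable def subRep (τ : Representation k H W) (X : Submodule k W)
    (hX : ∀ h, ∀ v ∈ X, τ h v ∈ X) : Representation k H X where
  toFun h := (τ h).restrict (hX h)
  map_one' := LinearMap.ext fun v => Subtype.ext (by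
    show τ 1 (v : W) = v
    rw [map_one]; rfl)
  map_mul' a b := LinearMap.ext fun v => Subtype.ext (by
    show τ (a * b) (v : W) = τ a (τ b v)
    rw [map_mul]; rfl)

lemma subRep_coe (τ : Representation k H W) (X : Submodule k W)
    (hX : ∀ h, ∀ v ∈ X, τ h v ∈ X) (h : H) (v : X) : (subRep τ X hX h v : W) = τ h v := rfl

lemma subRep_resK {K : Type*} [Group K] [Fintype K] [Fintype H] (ι : K →* H)
    (τ : Representation k H W) (X : Submodule k W) (hX : ∀ h, ∀ v ∈ X, τ h v ∈ X)
    (a : MonoidAlgebra k K) (v : X) :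
    (resK ι (subRep τ X hX) a v : W) = resK ι τ a v := by
  rw [Loc.eq_sum_coeff a]
  simp only [map_sum, LinearMap.sum_apply, AddSubmonoidClass.coe_finsetSum]
  refine Finset.sum_congr rfl fun x _ => ?_
  rw [show (single x (a.coeff x) : MonoidAlgebra k K) = a.coeff x • single x 1 by
    rw [smul_single, smul_eq_mul, mul_one]]
  simp only [map_smul, LinearMap.smul_apply, resK_single, SetLike.val_smul, subRep_coe]

/-- The twist by a linear character. -/
noncomputable def twistRep (ω : H →* kˣ) (j : ℕ) (τ : Representation k H W) :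
    Representation k H W where
  toFun h := ((ω h : k) ^ j) • τ h
  map_one' := by rw [map_one, map_one, Units.val_one, one_pow, one_smul]
  map_mul' a b := by rw [map_mul, map_mul, Units.val_mul, mul_pow, smul_mul_smul_comm]

lemma twistRep_apply (ω : H →* kˣ) (j : ℕ) (τ : Representation k H W) (h : H) (w : W) :
    twistRep ω j τ h w = ((ω h : k) ^ j) • τ h w := rfl

lemma twistRep_resK {K : Type*} [Group K] [Fintype K] [Fintype H] (ι : K →* H) (ω : H →* kˣ)
    (hω : ∀ x, ω (ι x) = 1) (j : ℕ) (τ : Representation k H W) :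
    resK ι (twistRep ω j τ) = resK ι τ := by
  show Representation.asAlgebraHom _ = Representation.asAlgebraHom _
  congr 1
  refine MonoidHom.ext fun x => ?_
  show ((ω (ι x) : k) ^ j) • τ (ι x) = τ (ι x)
  rw [hω, Units.val_one, one_pow, one_smul]

/-- The column modules have scalar endomorphisms. -/
theorem colRep_schur [IsAlgClosed k] {A : Type*} [Ring A] [Algebra k A] [FiniteDimensional k A]
    (S : SimpleSystem k A) (i : Fin S.num) (Φ : Module.End k (Fin (S.dim i) → k))
    (hΦ : ∀ a v, Φ (colRep S i a v) = colRep S i a (Φ v)) : ∃ c : k, Φ = c • 1 := by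
  haveI : Nonempty (Fin (S.dim i)) := ⟨S.zeroIdx i⟩
  obtain ⟨c, hc⟩ := Module.End.exists_eigenvalue Φ
  refine ⟨c, LinearMap.ext fun v => ?_⟩
  have htop : Module.End.eigenspace Φ c = ⊤ :=
    (colRep_simple S i _ fun a w hw => by
      rw [Module.End.mem_eigenspace_iff] at hw ⊢
      rw [hΦ, hw, map_smul]).resolve_left hc
  have : v ∈ Module.End.eigenspace Φ c := htop ▸ Submodule.mem_top
  rw [Module.End.mem_eigenspace_iff] at this
  rw [this]; rfl

end Rep

/-- A representation of a subgroup on which a central idempotent restricts to the identity and with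
no nonzero trace has, for some column module, a map into it that is not a trace. -/
theorem exists_transfer {k : Type*} [Field k] {G : Type*} [Group G] [Fintype G] {H : Subgroup G}
    (S : SimpleSystem k (MonoidAlgebra k G)) {T : Type*} [AddCommGroup T] [Module k T]
    [FiniteDimensional k T] [Nontrivial T] (τ : Representation k H T)
    {e : MonoidAlgebra k G} (he : ∀ a, e * a = a * e) (hee : e * e = e)
    (hres : ∀ t, ∑ h : H, fn e (h : G) • τ h t = t)
    (hnp : ∀ ω : Module.End k T, trAll τ τ ω = 0) :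
    ∃ i, S.hom e i ≠ 0 ∧ ∃ g : T →ₗ[k] (Fin (S.dim i) → k),
      (∀ (h : H) t, g (τ h t) = colGroupRep S i (h : G) (g t)) ∧
      (∀ t, colRep S i e (g t) = g t) ∧ ¬ IsProj τ ((colGroupRep S i).comp H.subtype) g := by
  -- the induced representation
  let W : Submodule k (G → T) :=
    { carrier := {F | ∀ (x : G) (h : H), F (x * h) = τ h⁻¹ (F x)}
      add_mem' := fun {a b} ha hb x h => by simp [ha x h, hb x h]
      zero_mem' := fun x h => by simp
      smul_mem' := fun c a ha x h => by simp [ha x h] }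
  let σ : Representation k G W :=
    { toFun := fun g => LinearMap.restrict (LinearMap.funLeft k T fun x => g⁻¹ * x)
        (p := W) (q := W) fun F hF x h => by
          show F (g⁻¹ * (x * h)) = τ h⁻¹ (F (g⁻¹ * x))
          rw [← mul_assoc, hF]
      map_one' := LinearMap.ext fun F => Subtype.ext (funext fun x => by
        show (F : G → T) (1⁻¹ * x) = (F : G → T) x
        rw [inv_one, one_mul])
      map_mul' := fun a b => LinearMap.ext fun F => Subtype.ext (funext fun x => by
        show (F : G → T) ((a * b)⁻¹ * x) = (F : G → T) (b⁻¹ * (a⁻¹ * x))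
        rw [mul_inv_rev, mul_assoc]) }
  let J : T →ₗ[k] W := LinearMap.codRestrict W
    (LinearMap.pi fun x => if hx : x ∈ H then τ (⟨x, hx⟩ : H)⁻¹ else 0) fun t x h => by
      simp only [LinearMap.pi_apply]
      by_cases hx : x ∈ H
      · rw [dif_pos hx, dif_pos (H.mul_mem hx h.2), ← Module.End.mul_apply, ← map_mul]
        congr 2
        exact Subtype.ext (by simp)
      · rw [dif_neg hx, dif_neg fun h' => hx ((H.mul_mem_cancel_right h.2).1 h'),
          LinearMap.zero_apply, map_zero]
  have hJH : ∀ (h : H) t, J (τ h t) = σ (h : G) (J t) := fun h t => Subtype.ext <| funext fun x => by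
    show (if hx : x ∈ H then τ (⟨x, hx⟩ : H)⁻¹ else 0) (τ h t) =
      (if hx : (h : G)⁻¹ * x ∈ H then τ (⟨_, hx⟩ : H)⁻¹ else 0) t
    by_cases hx : x ∈ H
    · rw [dif_pos hx, dif_pos (H.mul_mem (H.inv_mem h.2) hx), ← Module.End.mul_apply, ← map_mul]
      congr 2
      exact Subtype.ext (by simp)
    · rw [dif_neg hx, dif_neg fun h' => hx ((H.mul_mem_cancel_left (H.inv_mem h.2)).1 h'),
        LinearMap.zero_apply, LinearMap.zero_apply]
  set f : T →ₗ[k] W := (σ.asAlgebraHom e).comp J
  let R : W →ₗ[k] T := (LinearMap.proj 1).comp W.subtype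
  have hR : ∀ (h : H) F, R (σ (h : G) F) = τ h (R F) := fun h F => by
    show (F : G → T) ((h : G)⁻¹ * 1) = τ h ((F : G → T) 1)
    have := F.2 1 h⁻¹
    rw [one_mul, inv_inv] at this
    rw [mul_one, ← this, Subgroup.coe_inv]
  have hRf : ∀ t, R (f t) = t := fun t => by
    conv_rhs => rw [← hres t]
    show R (σ.asAlgebraHom e (J t)) = _
    rw [Loc.eq_sum_coeff e, map_sum, LinearMap.sum_apply, map_sum,
      ← Finset.sum_filter_add_sum_filter_not Finset.univ (fun x : G => x ∈ H),
      Finset.sum_eq_zero (s := Finset.univ.filter fun x : G => ¬ x ∈ H) fun x hx => ?_, add_zero,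
      Finset.sum_subtype (p := (· ∈ H)) (Finset.univ.filter (· ∈ H)) (fun g => by simp)]
    · refine Finset.sum_congr rfl fun h _ => ?_
      rw [Representation.asAlgebraHom_single, LinearMap.smul_apply, map_smul, hR,
        ← Loc.eq_sum_coeff e]
      congr 2
      show (if hx : (1 : G) ∈ H then τ (⟨1, hx⟩ : H)⁻¹ else 0) t = t
      rw [dif_pos H.one_mem, show (⟨1, H.one_mem⟩ : H)⁻¹ = 1 from Subtype.ext (by simp), map_one]
      rfl
    · rw [Representation.asAlgebraHom_single, LinearMap.smul_apply, map_smul]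
      show _ • (if hx : x⁻¹ * 1 ∈ H then τ (⟨_, hx⟩ : H)⁻¹ else 0) t = 0
      rw [dif_neg fun h => (Finset.mem_filter.1 hx).2 (by simpa using h), LinearMap.zero_apply,
        smul_zero]
  refine exists_colRep_nonproj S τ σ he hee f (fun h t => ?_) (fun t => ?_) ?_
  · show σ.asAlgebraHom e (J (τ h t)) = σ (h : G) (σ.asAlgebraHom e (J t))
    rw [hJH, ← Representation.asAlgebraHom_single_one σ (h : G), ← Module.End.mul_apply, ← map_mul,
      he, map_mul, Module.End.mul_apply]
  · show σ.asAlgebraHom e (σ.asAlgebraHom e (J t)) = _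
    rw [← Module.End.mul_apply, ← map_mul, hee]
    rfl
  · rintro ⟨ω, hω⟩
    obtain ⟨t, ht⟩ := exists_ne (0 : T)
    refine ht ?_
    rw [← hRf t, hω, show R (trAll τ (σ.comp H.subtype) ω t) = trAll τ τ (R.comp ω) t from
      LinearMap.congr_fun (comp_trAll (σ := (σ.comp H.subtype : Representation k H W)) (σ' := τ)
        hR ω) t, hnp, LinearMap.zero_apply]

open Cfsg.Lib.Blocks.Star in
/-- **There are at least as many simple modules as the inertial index.** -/
theorem inertial_index_le_blockRank.{u} {G : Type u} [Group G] [Fintype G] {M : Ideal AlgInt}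
    {p : ℕ} [Fact p.Prime] {B : Set (IrrCharacter G)} {P : Subgroup G}
    {c : Set (IrrCharacter (Subgroup.centralizer (P : Set G)))} {T : Subgroup G}
    (hM : IsPModular p M) (hD : IsDefectGroup p M B P) (hc : IsBrauerPairOf p M B P c)
    (hcyc : IsCyclic P) (hP1 : P ≠ ⊥) (hT : IsPairStab P c T) :
    (Subgroup.centralizer (P : Set G)).relIndex T ≤ blockRank p B := by
  haveI := isAlgClosed_res M
  haveI := charP_res hM
  have hB := hc.2.1
  obtain ⟨-, hCT⟩ := hT.self_le hM hc.1.2
  haveI hnormal : ((Subgroup.centralizer (P : Set G)).subgroupOf T).Normal := ⟨fun x hx t => by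
    rw [Subgroup.mem_subgroupOf] at hx ⊢
    refine Subgroup.mem_centralizer_iff.2 fun y hy => ?_
    have h1 := Subgroup.mem_centralizer_iff.1 hx _
      ((Subgroup.mem_normalizer_iff.1 (inv_mem ((hT (t : G)).1 t.2).1) y).1 hy)
    rw [inv_inv] at h1
    simp only [Subgroup.coe_mul, Subgroup.coe_inv]
    calc y * ((t : G) * x * (t : G)⁻¹) = (t : G) * ((t : G)⁻¹ * y * t * x) * (t : G)⁻¹ := by group
      _ = (t : G) * x * (t : G)⁻¹ * y := by rw [h1]; group⟩
  have hfree : ∀ y ∈ P, y ≠ 1 → ∀ t ∈ T, t * y * t⁻¹ = y → t ∈ Subgroup.centralizer (P : Set G) :=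
    fun y hy hy1 t ht h => (Cfsg.Agent.S4633.result p M hM B hB P hD hP1 hcyc c
      ((isBrauerPairOf_iff hM B P c).1 hc).2 T hT).2.2 t ht y hy hy1 h
  obtain ⟨z, hzP, hzord, hzgen, hzpow⟩ := exists_bottom (IsDefectGroup.isPGroup hD) hcyc hP1
  set H := Subgroup.normalizer (Subgroup.zpowers z : Set G) with hH
  set C₀ := Subgroup.centralizer (Subgroup.zpowers z : Set G) with hC₀
  have hCH : C₀ ≤ H := Subgroup.centralizer_le_normalizer _
  have hnorm := normalizer_conj z
  obtain ⟨r, L, i₀, hLf0, huniq₀, hb, hTf, Y, hY, hYb⟩ :=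
    exists_local_blocks hM hD hc hcyc hT hfree hzP hzord
  obtain ⟨ω, hω⟩ := exists_exponent_hom (p := p) (Res M) hzord
  set ι := Subgroup.inclusion hCH
  have hωι : ∀ x : C₀, ω (ι x) = 1 := fun x => (hω _).2 x.2
  have hidx : ((C₀.subgroupOf H).index : Res M) ≠ 0 := by
    rw [show C₀.subgroupOf H = ω.ker from Subgroup.ext fun x => by
      rw [MonoidHom.mem_ker, hω, Subgroup.mem_subgroupOf]]
    exact index_cast_ne_zero (p := p) ω
  have hTH : ∀ t ∈ T, t ∈ H := fun t ht => by
    refine mem_normalizer_of_conj hzord (hzpow _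
      ((Subgroup.mem_normalizer_iff.1 ((hT t).1 ht).1 z).1 hzP) ?_)
    rw [conj_pow, ← hzord, pow_orderOf_eq_one, mul_one, mul_inv_cancel]
  set e := red M (blockElem B)
  have hec : ∀ a, e * a = a * e := fun a => (isCentralFn_blockElem B).red.comm a
  set b₀ := ∑ x ∈ orbit C₀ H hnorm L.f, x with hb₀
  have hb₀i : b₀ * b₀ = b₀ := by
    rw [hb₀, Finset.sum_mul]
    refine Finset.sum_congr rfl fun x hx => ?_
    rw [Finset.mul_sum, Finset.sum_eq_single x (fun y hy hne => ?_) (fun h => absurd hx h)]
    · have h2 := (orbitLoc L ⟨x, hx⟩).f_idem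
      simp only [orbitLoc_f] at h2
      exact h2
    · have h2 := orbitLoc_orth (hnorm := hnorm) L ⟨x, hx⟩ ⟨y, hy⟩
        (fun e => hne (congrArg Subtype.val e).symm)
      simp only [orbitLoc_f] at h2
      exact h2
  -- a simple representation in the local blocks
  let σ₀ : Representation (Res M) H (MonoidAlgebra (Res M) G) :=
    ((MonoidAlgebra.lift (Res M) _ G).symm (Algebra.lmul (Res M) (MonoidAlgebra (Res M) G))).comp
      H.subtype
  have hσ₀ : ∀ a, resK ι σ₀ a = Algebra.lmul (Res M) _ (embAlg C₀ a) := fun a => by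
    rw [resK_subgroup C₀ hCH]
    congr 1
    exact Equiv.apply_symm_apply _ _
  set R₀ := LinearMap.range (resK ι σ₀ b₀)
  have hR₀ne : R₀ ≠ ⊥ := fun h => by
    have h1 := LinearMap.congr_fun (LinearMap.range_eq_bot.1 h) 1
    rw [hσ₀, LinearMap.zero_apply] at h1
    change embAlg C₀ b₀ * 1 = 0 at h1
    rw [mul_one] at h1
    refine hLf0 (emb_injective C₀ ?_)
    rw [← embAlg_eq_emb, ← embAlg_eq_emb, map_zero,
      show L.f = L.f * b₀ by
        rw [hb₀, Finset.mul_sum, Finset.sum_eq_single L.f (fun y hy hne => ?_)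
          (fun h => absurd (self_mem_orbit _) h), L.f_idem]
        have h2 := orbitLoc_orth (hnorm := hnorm) L ⟨L.f, self_mem_orbit _⟩ ⟨y, hy⟩
          (fun e => hne (congrArg Subtype.val e).symm)
        simp only [orbitLoc_f] at h2
        exact h2, map_mul, h1, mul_zero]
  obtain ⟨X, ⟨hX0, hXR, hXH⟩, hXmin⟩ := (wellFounded_lt : WellFounded ((· < ·) :
      Submodule (Res M) (MonoidAlgebra (Res M) G) → _ → Prop)).has_min
    {X | X ≠ ⊥ ∧ X ≤ R₀ ∧ ∀ h : H, ∀ v ∈ X, σ₀ h v ∈ X}
    ⟨R₀, hR₀ne, le_rfl, fun h v hv => by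
      obtain ⟨w, rfl⟩ := hv
      rw [conj_apply C₀ H hnorm hCH σ₀ h, hb₀, conjAlg_sum_orbit]
      exact ⟨_, rfl⟩⟩
  set τ := subRep σ₀ X hXH
  haveI : Nontrivial X := Submodule.nontrivial_iff_ne_bot.2 hX0
  have hsimple : ∀ Y : Submodule (Res M) X, (∀ h, ∀ v ∈ Y, τ h v ∈ Y) → Y = ⊥ ∨ Y = ⊤ := by
    intro Y hY
    by_cases h : Y = ⊥
    · exact Or.inl h
    right
    by_contra hne
    refine hXmin (Y.map X.subtype) ⟨fun h' => h ?_, (Submodule.map_subtype_le X Y).trans hXR,
      fun g v hv => ?_⟩ (lt_of_le_of_ne (Submodule.map_subtype_le X Y) fun h' => hne ?_)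
    · exact Submodule.map_injective_of_injective X.subtype_injective (by rw [h', Submodule.map_bot])
    · obtain ⟨w, hw, rfl⟩ := hv
      exact ⟨τ g w, hY g w hw, rfl⟩
    · exact Submodule.map_injective_of_injective X.subtype_injective
        (by rw [h', Submodule.map_top, Submodule.range_subtype])
  have hb1 : resK ι τ b₀ = 1 := LinearMap.ext fun v => Subtype.ext (by
    rw [subRep_resK]
    obtain ⟨w, hw⟩ := hXR v.2
    rw [← hw, ← Module.End.mul_apply, ← map_mul, hb₀i, hw]
    rfl)
  -- the element of order `p` acts trivially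
  set zH : H := ⟨z, Subgroup.le_normalizer (Subgroup.mem_zpowers z)⟩
  have hzC : z ∈ C₀ := by
    rw [hC₀, centralizer_zpowers, Subgroup.mem_centralizer_singleton_iff]
  have hzfix : ∀ v, τ zH v = v := by
    let F : Submodule (Res M) X := LinearMap.ker (τ zH - 1)
    have hmem : ∀ v, v ∈ F ↔ τ zH v = v := fun v => by
      simp [F, sub_eq_zero]
    have hFinv : ∀ h, ∀ v ∈ F, τ h v ∈ F := fun h v hv => by
      rw [hmem] at hv ⊢
      have hn := (Subgroup.mem_normalizer_iff.1 (inv_mem h.2) z).1 (Subgroup.mem_zpowers z)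
      obtain ⟨n, hn'⟩ := Submonoid.mem_powers_iff _ _ |>.1 (mem_powers_iff_mem_zpowers.2 hn)
      rw [← Module.End.mul_apply, ← map_mul, show zH * h = h * zH ^ n from Subtype.ext (by
        simp only [Subgroup.coe_mul, SubgroupClass.coe_pow, zH]
        rw [hn', inv_inv]; group), map_mul, Module.End.mul_apply]
      congr 1
      clear hn'
      induction n with
      | zero => rw [pow_zero, map_one]; rfl
      | succ n ih => rw [pow_succ, map_mul, Module.End.mul_apply, hv, ih]
    have hF0 : F ≠ ⊥ := fun h => by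
      have hinj : Function.Injective (⇑(τ zH - 1) : X → X) := LinearMap.ker_eq_bot.1 h
      have hp : (τ zH - 1) ^ p = 0 := by
        haveI : Nontrivial (Module.End (Res M) X) := inferInstance
        haveI : CharP (Module.End (Res M) X) p :=
          charP_of_injective_algebraMap (algebraMap (Res M) (Module.End (Res M) X)).injective p
        have key : ∀ A : Module.End (Res M) X, A ^ p = 1 → (A - 1) ^ p = 0 := fun A hA => by
          have h1 : (A - 1) ^ p = A ^ p - 1 ^ p := by
            exact sub_pow_char_of_commute (R := Module.End (Res M) X) p (Commute.one_right A)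
          rw [h1, one_pow, hA]
          exact sub_self (1 : Module.End (Res M) X)
        refine key (τ zH) ?_
        rw [← map_pow, show zH ^ p = 1 from Subtype.ext (by
            simp only [SubgroupClass.coe_pow, Subgroup.coe_one, zH]
            rw [← hzord, pow_orderOf_eq_one]), map_one]
      obtain ⟨v, hv⟩ := exists_ne (0 : X)
      refine hv (Function.Injective.iterate hinj p ?_)
      rw [← Module.End.coe_pow, hp]
      simp
    intro v
    exact (hmem v).1 (((hsimple F hFinv).resolve_left hF0).symm ▸ Submodule.mem_top)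
  have hbj : ∀ j, resK ι (twistRep ω j τ) b₀ = 1 := fun j => by rw [twistRep_resK ι ω hωι, hb1]
  have hsj : ∀ j (Y : Submodule (Res M) X), (∀ h, ∀ v ∈ Y, twistRep ω j τ h v ∈ Y) →
      Y = ⊥ ∨ Y = ⊤ := fun j Y hY => hsimple Y fun h v hv =>
    (Submodule.smul_mem_iff _ (pow_ne_zero j (ω h).ne_zero)).1 (hY h v hv)
  -- a stabilizer generator
  let T₀ : Subgroup H :=
    { carrier := {h | conjAlg C₀ H hnorm h L.f = L.f}
      one_mem' := conjAlg_one C₀ H hnorm L.f
      mul_mem' := fun {a b} ha hb => by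
        show conjAlg C₀ H hnorm (a * b) L.f = L.f
        rw [← conjAlg_mul, hb, ha]
      inv_mem' := fun {a} ha => by
        show conjAlg C₀ H hnorm a⁻¹ L.f = L.f
        conv_lhs => rw [← show conjAlg C₀ H hnorm a L.f = L.f from ha]
        rw [conjAlg_mul, inv_mul_cancel, conjAlg_one] }
  haveI : Finite (T₀.map ω) :=
    Finite.of_surjective (fun x : T₀ => (⟨ω x, x, x.2, rfl⟩ : T₀.map ω))
      fun ⟨y, x, hx, hxy⟩ => ⟨⟨x, hx⟩, Subtype.ext hxy⟩
  obtain ⟨⟨w, t, ht₀, rfl⟩, hgen⟩ := (inferInstance : IsCyclic (T₀.map ω)).exists_generator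
  have hpw : ∀ h ∈ T₀, ∃ n : ℕ, ω h = ω t ^ n := fun h hh => by
    obtain ⟨n, hn⟩ := mem_powers_iff_mem_zpowers.2 (hgen ⟨ω h, h, hh, rfl⟩)
    exact ⟨n, (congrArg Subtype.val hn).symm⟩
  have he_le : (Subgroup.centralizer (P : Set G)).relIndex T ≤ orderOf (ω t) := by
    let φ : T →* (Res M)ˣ := ω.comp
      { toFun := fun x => (⟨x, hTH x x.2⟩ : H)
        map_one' := rfl
        map_mul' := fun _ _ => rfl }
    have hker : φ.ker = (Subgroup.centralizer (P : Set G)).subgroupOf T := by
      ext x
      rw [MonoidHom.mem_ker, Subgroup.mem_subgroupOf]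
      show ω _ = 1 ↔ _
      rw [hω]
      refine ⟨fun hx => hfree z hzP (fun h => ?_) x x.2 ?_,
        fun hx => le_centralizer_of_le (Subgroup.zpowers_le.2 hzP) hx⟩
      · rw [h, orderOf_one] at hzord
        exact (Fact.out : p.Prime).ne_one hzord.symm
      · have hx' : (x : G) ∈ C₀ := hx
        rw [← Subgroup.mem_centralizer_iff.1 hx' z (Subgroup.mem_zpowers z), mul_inv_cancel_right]
    rw [Subgroup.relIndex, ← hker, Subgroup.index_ker, ← Nat.card_zpowers]
    haveI : Finite (Subgroup.zpowers (ω t)) := (MonoidHom.isOfFinOrder ω (isOfFinOrder_of_finite t)).finite_zpowers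
    refine Subgroup.card_le_of_le ?_
    rintro _ ⟨x, rfl⟩
    obtain ⟨n, hn⟩ := hpw ⟨x, hTH x x.2⟩ (hTf _ x.2)
    exact ⟨n, by show ω t ^ (n : ℤ) = _; rw [zpow_natCast]; exact hn.symm⟩
  -- the twists are not isomorphic
  have hdistinct : ∀ i j, i < j → j < (Subgroup.centralizer (P : Set G)).relIndex T →
      ¬ ∃ Θ : X ≃ₗ[Res M] X, ∀ h v, Θ (twistRep ω i τ h v) = twistRep ω j τ h (Θ v) := by
    rintro i j hij hj ⟨Θ, hΘ⟩
    have hFrange : ∀ v ∈ LinearMap.range (resK ι τ L.f), resK ι τ L.f v = v := by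
      rintro _ ⟨w, rfl⟩
      rw [← Module.End.mul_apply, ← map_mul, L.f_idem]
    have h1 : ω t ^ (j - i) = 1 := by
      refine twist_eq_one (ι := ι) (fun h x => ⟨⟨_, hnorm _ h.2 _ x.2⟩, Subtype.ext rfl⟩)
        hsimple L.f_idem L.f_comm ?_ (t := t) (fun w => ?_) ?_ ?_ ω hωι (j - i) Θ ?_
      · intro h0
        obtain ⟨v, hv⟩ := exists_ne (0 : X)
        refine hv ?_
        rw [← Module.End.one_apply (R := Res M) v, ← hb1, hb₀, map_sum, LinearMap.sum_apply]
        refine Finset.sum_eq_zero fun x hx => ?_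
        obtain ⟨g, rfl⟩ := mem_orbit.1 hx
        have hv' : v = τ g (τ g⁻¹ v) := by
          rw [← Module.End.mul_apply, ← map_mul, mul_inv_cancel, map_one]; rfl
        rw [hv', ← conj_apply C₀ H hnorm hCH τ g, h0, LinearMap.zero_apply, map_zero]
      · rw [conj_apply C₀ H hnorm hCH τ t, show conjAlg C₀ H hnorm t L.f = L.f from ht₀]
      · intro h hh w
        have hnot : conjAlg C₀ H hnorm h L.f ≠ L.f := fun hf => by
          obtain ⟨n, hn⟩ := hpw h hf
          have hmem : ((t ^ n)⁻¹ * h : H).1 ∈ C₀ := (hω _).1 (by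
            rw [map_mul, map_inv, map_pow, hn, inv_mul_cancel])
          exact hh n ⟨_, hmem⟩ (by
            show h = t ^ n * ((t ^ n)⁻¹ * h)
            rw [mul_inv_cancel_left])
        rw [conj_apply C₀ H hnorm hCH τ h, ← Module.End.mul_apply, ← map_mul]
        have h2 := orbitLoc_orth (hnorm := hnorm) L ⟨_, self_mem_orbit L.f⟩
          ⟨_, conj_mem_orbit h (self_mem_orbit L.f)⟩ (fun e => hnot (congrArg Subtype.val e).symm)
        simp only [orbitLoc_f] at h2
        rw [h2, map_zero, LinearMap.zero_apply]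
      · intro X₁ X₂ h₁ h₂ hF₁ hF₂ hK₁ hK₂ hs₁ hs₂
        have key : ∀ (Z : Submodule (Res M) X), Z ≠ ⊥ → Z ≤ LinearMap.range (resK ι τ L.f) →
            ∀ hK : (∀ x, ∀ v ∈ Z, τ (ι x) v ∈ Z),
            (∀ Y ≤ Z, (∀ x, ∀ v ∈ Y, τ (ι x) v ∈ Y) → Y = ⊥ ∨ Y = Z) →
            ∃ Θ : Z ≃ₗ[Res M] (Fin ((sys M C₀).dim i₀) → Res M),
              ∀ a (v : Z), Θ ⟨resK ι τ a v, resK_mem hK a v.2⟩ = colRep (sys M C₀) i₀ a (Θ v) := by
          intro Z hZ0 hZF hK hZs
          haveI : Nontrivial Z := Submodule.nontrivial_iff_ne_bot.2 hZ0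
          let ρZ : MonoidAlgebra (Res M) C₀ →ₐ[Res M] Module.End (Res M) Z :=
            AlgHom.ofLinearMap
              { toFun := fun a => (resK ι τ a).restrict fun v hv => resK_mem hK a hv
                map_add' := fun a b => LinearMap.ext fun v => Subtype.ext (by
                  show resK ι τ (a + b) (v : X) = resK ι τ a v + resK ι τ b v
                  rw [map_add]; rfl)
                map_smul' := fun s a => LinearMap.ext fun v => Subtype.ext (by
                  show resK ι τ (s • a) (v : X) = s • resK ι τ a v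
                  rw [map_smul]; rfl) }
              (LinearMap.ext fun v => Subtype.ext (by
                show resK ι τ 1 (v : X) = v
                rw [map_one]; rfl))
              fun a b => LinearMap.ext fun v => Subtype.ext (by
                show resK ι τ (a * b) (v : X) = resK ι τ a (resK ι τ b v)
                rw [map_mul]; rfl)
          have hρ : ∀ a (v : Z), ρZ a v = ⟨resK ι τ a v, resK_mem hK a v.2⟩ := fun _ _ => rfl
          obtain ⟨l, Θl, hΘl⟩ := exists_colRep_equiv (X := Z) (sys M C₀) ρZ fun (Y : Submodule (Res M) Z)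
              (hY : ∀ a, ∀ v ∈ Y, ρZ a v ∈ Y) => by
            rcases hZs (Y.map Z.subtype) (Submodule.map_subtype_le Z Y) (fun x v hv => by
              obtain ⟨u, hu, rfl⟩ := hv
              refine Submodule.mem_map.2 ⟨ρZ (single x 1) u, hY (single x 1) u hu, ?_⟩
              rw [hρ]
              show resK ι τ (single x 1) (u : X) = _
              rw [resK_single]
              rfl) with h | h
            · exact Or.inl (Submodule.map_injective_of_injective Z.subtype_injective
                (by rw [h, Submodule.map_bot]))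
            · exact Or.inr (Submodule.map_injective_of_injective Z.subtype_injective
                (by rw [h, Submodule.map_top, Submodule.range_subtype]))
          obtain rfl : l = i₀ := huniq₀ l fun h0 => by
            obtain ⟨v, hv⟩ := exists_ne (0 : Z)
            refine hv (Θl.injective ?_)
            have hv' : ρZ L.f v = v := Subtype.ext (hFrange _ (hZF v.2))
            rw [map_zero, ← hv', hΘl, colRep_apply, h0, Matrix.zero_mulVec]
          exact ⟨Θl, fun a v => by rw [← hρ, hΘl]⟩
        obtain ⟨Θ₁, hΘ₁⟩ := key X₁ h₁ hF₁ hK₁ hs₁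
        obtain ⟨Θ₂, hΘ₂⟩ := key X₂ h₂ hF₂ hK₂ hs₂
        obtain ⟨θ, hθ⟩ := LinearMap.exists_extend (X₂.subtype.comp (Θ₁.trans Θ₂.symm).toLinearMap)
        have hθ' : ∀ v : X₁, θ v = (Θ₂.symm (Θ₁ v) : X) := fun v => LinearMap.congr_fun hθ v
        refine ⟨θ, fun v hv => by rw [hθ' ⟨v, hv⟩]; exact Subtype.prop _, fun v hv h0 => ?_,
          fun x v hv => ?_⟩
        · rw [hθ' ⟨v, hv⟩] at h0
          have h3 : Θ₂.symm (Θ₁ ⟨v, hv⟩) = 0 := Subtype.ext h0
          rw [LinearEquiv.map_eq_zero_iff, LinearEquiv.map_eq_zero_iff] at h3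
          exact congrArg Subtype.val h3
        · rw [← resK_single ι τ x, hθ' ⟨_, resK_mem hK₁ _ hv⟩, hθ' ⟨v, hv⟩, hΘ₁ _ ⟨v, hv⟩]
          have h4 := hΘ₂ (single x 1) (Θ₂.symm (Θ₁ ⟨v, hv⟩))
          rw [Θ₂.apply_symm_apply] at h4
          rw [← h4, Θ₂.symm_apply_apply]
      · intro h w
        have h1 := hΘ h w
        rw [twistRep_apply, twistRep_apply, map_smul] at h1
        have h2 : ((ω h : Res M) ^ j) = (ω h : Res M) ^ i * (ω h : Res M) ^ (j - i) := by
          rw [← pow_add, Nat.add_sub_cancel' hij.le]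
        rw [h2, mul_smul] at h1
        exact (smul_right_injective X (pow_ne_zero i (ω h).ne_zero)) h1
    have h2 := orderOf_dvd_of_pow_eq_one h1
    have h3 := Nat.le_of_dvd (Nat.sub_pos_of_lt hij) h2
    omega
  -- each twist has a map that is not a trace into some column module
  have hres : ∀ j v, ∑ h : H, fn e (h : G) • twistRep ω j τ h v = v := by
    intro j v
    set τ' := twistRep ω j τ
    have hz' : ∀ w, τ' zH w = w := fun w => by
      rw [twistRep_apply, hzfix, show ω zH = 1 from (hω _).2 hzC, Units.val_one, one_pow, one_smul]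
    let Z := Subgroup.zpowers zH
    have hZp : IsPGroup p Z := IsPGroup.of_card (n := 1) (by
      rw [Nat.card_zpowers, pow_one, ← hzord, ← Subgroup.orderOf_coe])
    letI : MulAction Z H :=
      { smul := fun k h => (k : H) * h * (k : H)⁻¹
        one_smul := fun h => by show ((1 : Z) : H) * h * ((1 : Z) : H)⁻¹ = h; simp
        mul_smul := fun a b h => by
          show ((a * b : Z) : H) * h * ((a * b : Z) : H)⁻¹ =
            (a : H) * ((b : H) * h * (b : H)⁻¹) * (a : H)⁻¹
          rw [Subgroup.coe_mul]; group }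
    have hzw : ∀ k ∈ Z, ∀ w, τ' k w = w := fun k hk w => by
      obtain ⟨n, rfl⟩ := Submonoid.mem_powers_iff _ _ |>.1 (mem_powers_iff_mem_zpowers.2 hk)
      induction n with
      | zero => simp
      | succ n ih =>
        rw [pow_succ, map_mul, Module.End.mul_apply, hz', ih (Subgroup.pow_mem _
          (Subgroup.mem_zpowers zH) n)]
    rw [sum_eq_sum_fixed hZp (fun w : X => by
        rw [← Nat.cast_smul_eq_nsmul (Res M), CharP.cast_eq_zero, zero_smul])
      (fun h : H => fn e (h : G) • τ' h v) fun k h => ?_]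
    · have hfix : ∀ h : H, h ∈ MulAction.fixedPoints Z H ↔ (h : G) ∈ C₀ := fun h => by
        rw [MulAction.mem_fixedPoints, hC₀, centralizer_zpowers,
          Subgroup.mem_centralizer_singleton_iff]
        constructor
        · intro hk
          have h1 := congrArg Subtype.val (hk ⟨zH, Subgroup.mem_zpowers zH⟩)
          change z * (h : G) * z⁻¹ = (h : G) at h1
          rw [mul_inv_eq_iff_eq_mul] at h1
          exact h1.symm
        · intro hk k
          obtain ⟨n, hn⟩ := Subgroup.mem_zpowers_iff.1 k.2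
          show (k : H) * h * (k : H)⁻¹ = h
          rw [mul_inv_eq_iff_eq_mul, ← hn]
          exact ((show Commute zH h from Subtype.ext hk.symm).zpow_left n).eq
      conv_rhs => rw [← Module.End.one_apply (R := Res M) v, ← hbj j, Loc.eq_sum_coeff b₀,
        map_sum, LinearMap.sum_apply]
      refine Finset.sum_bij' (fun h hh => (⟨(h : G), (hfix h).1 (Finset.mem_filter.1 hh).2⟩ : C₀))
        (fun x _ => ι x) (fun _ _ => Finset.mem_univ _)
        (fun x _ => Finset.mem_filter.2 ⟨Finset.mem_univ _, (hfix _).2 x.2⟩) (fun _ _ => rfl)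
        (fun _ _ => rfl) fun h hh => ?_
      rw [Representation.asAlgebraHom_single, LinearMap.smul_apply]
      congr 1
      have h5 := congrArg (fun a => fn a (h : G)) hb
      simp only [br] at h5
      rw [embAlg_eq_emb, fn_emb_mem C₀ _ ((hfix h).1 (Finset.mem_filter.1 hh).2),
        fn_trunc_mem _ ((hfix h).1 (Finset.mem_filter.1 hh).2)] at h5
      exact h5.symm
    · show fn e (((k : H) * h * (k : H)⁻¹ : H) : G) • τ' ((k : H) * h * (k : H)⁻¹) v =
        fn e (h : G) • τ' h v
      congr 1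
      · simp only [Subgroup.coe_mul, Subgroup.coe_inv]
        exact ((isCentralFn_blockElem B).red) _ _
      · rw [map_mul, Module.End.mul_apply, map_mul, Module.End.mul_apply,
          hzw _ (Z.inv_mem k.2), hzw _ k.2]
  have hnp : ∀ j (Φ : Module.End (Res M) X), trAll (twistRep ω j τ) (twistRep ω j τ) Φ = 0 := by
    intro j Φ
    set τ' := twistRep ω j τ
    let Z := Subgroup.zpowers zH
    have hz' : ∀ w, τ' zH w = w := fun w => by
      rw [twistRep_apply, hzfix, show ω zH = 1 from (hω _).2 hzC, Units.val_one, one_pow, one_smul]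
    refine LinearMap.ext fun v => ?_
    rw [trAll_apply, LinearMap.zero_apply]
    have hfun : ∀ h : H, τ' (h * zH) (Φ (τ' (h * zH)⁻¹ v)) = τ' h (Φ (τ' h⁻¹ v)) := fun h => by
      have hz'' : ∀ w, τ' zH⁻¹ w = w := fun w => by
        conv_lhs => arg 2; rw [← hz' w]
        rw [← Module.End.mul_apply, ← map_mul, inv_mul_cancel, map_one]; rfl
      rw [map_mul, Module.End.mul_apply, hz', mul_inv_rev, map_mul, Module.End.mul_apply, hz'']
    have hfun' : ∀ (q : H) (k : Z), τ' (q * k) (Φ (τ' (q * k)⁻¹ v)) = τ' q (Φ (τ' q⁻¹ v)) := by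
      intro q k
      obtain ⟨n, hn⟩ := Submonoid.mem_powers_iff _ _ |>.1 (mem_powers_iff_mem_zpowers.2 k.2)
      rw [← hn]
      clear hn
      induction n with
      | zero => simp
      | succ n ih => rw [pow_succ, ← mul_assoc, hfun, ih]
    have hZp : IsPGroup p Z := IsPGroup.of_card (n := 1) (by
      rw [Nat.card_zpowers, pow_one, ← hzord, ← Subgroup.orderOf_coe])
    letI : MulAction Z H :=
      { smul := fun k h => h * (k : H)⁻¹
        one_smul := fun h => by show h * ((1 : Z) : H)⁻¹ = h; simp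
        mul_smul := fun a b h => by
          show h * ((a * b : Z) : H)⁻¹ = h * (b : H)⁻¹ * (a : H)⁻¹
          rw [Subgroup.coe_mul, mul_inv_rev, mul_assoc] }
    rw [sum_eq_sum_fixed hZp (fun w : X => by
        rw [← Nat.cast_smul_eq_nsmul (Res M), CharP.cast_eq_zero, zero_smul])
      (fun h : H => τ' h (Φ (τ' h⁻¹ v))) fun k h => by
        show τ' (h * (k : H)⁻¹) (Φ (τ' (h * (k : H)⁻¹)⁻¹ v)) = _
        rw [← Subgroup.coe_inv, hfun']]
    refine Finset.sum_eq_zero fun h hh => absurd ((Finset.mem_filter.1 hh).2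
      ⟨zH, Subgroup.mem_zpowers zH⟩) fun e => ?_
    change h * zH⁻¹ = h at e
    rw [mul_eq_left, inv_eq_one] at e
    have h1 := congrArg Subtype.val e
    change z = 1 at h1
    rw [h1, orderOf_one] at hzord
    exact (Fact.out : p.Prime).ne_one hzord.symm
  have hstep : ∀ j, ∃ i : Ix M G, InBlk M B i ∧
      ∃ g : X →ₗ[Res M] (Fin ((sys M G).dim i) → Res M),
        (∀ (h : H) v, g (twistRep ω j τ h v) = colGroupRep (sys M G) i (h : G) (g v)) ∧
        ¬ IsProj (twistRep ω j τ) ((colGroupRep (sys M G) i).comp H.subtype) g := by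
    intro j
    obtain ⟨i, hi, g, hg, -, hgP⟩ := exists_transfer (sys M G) (twistRep ω j τ) hec
      (red_blk_idem hM hB) (hres j) (hnp j)
    refine ⟨i, ?_, g, hg, hgP⟩
    by_contra h
    exact hi (rank_eq_zero_iff'.1 (mu_blk_eq_zero hM hB h))
  choose iv hiv gv hgv hgvP using hstep
  rw [blockRank_eq_card hM hB]
  refine le_trans (le_of_eq (Finset.card_range _).symm) (Finset.card_le_card_of_injOn iv
    (fun j _ => Finset.mem_coe.2 (Finset.mem_filter.2 ⟨Finset.mem_univ _, hiv j⟩)) ?_)
  intro a ha a' ha' haa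
  rw [Finset.coe_range, Set.mem_Iio] at ha ha'
  by_contra hne
  wlog hlt : a < a' generalizing a a'
  · exact this ha' ha haa.symm (Ne.symm hne) (lt_of_le_of_ne (not_lt.1 hlt) (Ne.symm hne))
  refine hdistinct a a' hlt ha' ?_
  obtain ⟨g', hg', hg'P⟩ : ∃ g' : X →ₗ[Res M] (Fin ((sys M G).dim (iv a)) → Res M),
      (∀ (h : H) v, g' (twistRep ω a' τ h v) = colGroupRep (sys M G) (iv a) (h : G) (g' v)) ∧
      ¬ IsProj (twistRep ω a' τ) ((colGroupRep (sys M G) (iv a)).comp H.subtype) g' := by
    rw [haa]; exact ⟨gv a', hgv a', hgvP a'⟩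
  -- the socle of the cut module
  set σH : Representation (Res M) H (Fin ((sys M G).dim (iv a)) → Res M) :=
    (colGroupRep (sys M G) (iv a)).comp H.subtype with hσH
  set Eb := colRep (sys M G) (iv a) (embAlg C₀ b₀) with hEb
  have hEb' : resK ι σH b₀ = Eb := by
    rw [hσH, resK_subgroup C₀ hCH, asAlgebraHom_colGroupRep]
  have hEH : ∀ (h : H) w, σH h (Eb w) = Eb (σH h w) := fun h w => by
    rw [← hEb', conj_apply C₀ H hnorm hCH σH h, hb₀, conjAlg_sum_orbit]
  have hEE : ∀ w, Eb (Eb w) = Eb w := fun w => by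
    rw [← hEb', ← Module.End.mul_apply, ← map_mul, hb₀i]
  set Wm := LinearMap.range Eb
  have hWH : ∀ h, ∀ w ∈ Wm, σH h w ∈ Wm := by
    rintro h _ ⟨w, rfl⟩
    exact ⟨σH h w, (hEH h w).symm⟩
  set σW := subRep σH Wm hWH
  have hbW : resK ι σW b₀ = 1 := LinearMap.ext fun w => Subtype.ext (by
    rw [subRep_resK, hEb']
    obtain ⟨v, hv⟩ := w.2
    rw [← hv, hEE, hv]; rfl)
  have hloc := isLocalRep_orbit (hnorm := hnorm) L hCH hidx (τ := σW) hbW
  -- the maps land in it
  have hland : ∀ (j : ℕ) (g : X →ₗ[Res M] (Fin ((sys M G).dim (iv a)) → Res M)),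
      (∀ (h : H) v, g (twistRep ω j τ h v) = σH h (g v)) → ¬ IsProj (twistRep ω j τ) σH g →
      ∃ gW : X →ₗ[Res M] Wm, (∀ h v, gW (twistRep ω j τ h v) = σW h (gW v)) ∧
        (∀ v, resK ι σW (∑ x, (orbitLoc (hnorm := hnorm) L x).u) (gW v) = 0) ∧
        ¬ IsProj (twistRep ω j τ) σW gW := by
    intro j g hg hgP'
    have hcomm : ∀ a v, g (resK ι (twistRep ω j τ) a v) = resK ι σH a (g v) := fun a v => by
      rw [Loc.eq_sum_coeff a]
      simp only [map_sum, LinearMap.sum_apply]
      refine Finset.sum_congr rfl fun x _ => ?_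
      rw [show (single x (a.coeff x) : MonoidAlgebra (Res M) C₀) = a.coeff x • single x 1 by
        rw [smul_single, smul_eq_mul, mul_one]]
      simp only [map_smul, LinearMap.smul_apply, resK_single, hg]
    have hgW : ∀ v, g v ∈ Wm := fun v => ⟨g v, by
      rw [← hEb', ← hcomm, hbj]; rfl⟩
    refine ⟨g.codRestrict Wm hgW, fun h v => Subtype.ext (hg h v), fun v => Subtype.ext ?_, ?_⟩
    · rw [subRep_resK]
      show resK ι σH _ (g v) = 0
      rw [← hcomm]
      have hloc' := isLocalRep_orbit (hnorm := hnorm) L hCH hidx (τ := twistRep ω j τ) (hbj j)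
      set U := resK ι (twistRep ω j τ) (∑ x, (orbitLoc (hnorm := hnorm) L x).u)
      have hker : LinearMap.ker U = ⊤ := (hsj j _ fun h w hw => hloc'.ker h w hw).resolve_left
        fun h0 => by
          have hinj : Function.Injective U := LinearMap.ker_eq_bot.1 h0
          obtain ⟨w, hw⟩ := exists_ne (0 : X)
          refine hw (hinj ?_)
          rw [map_zero]
          have htop := hloc'.top_le (v := (U ^ r) w) ⟨w, rfl⟩
          have hinjr : Function.Injective (U ^ r) := by
            rw [Module.End.coe_pow]; exact hinj.iterate r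
          refine hinjr ?_
          rw [map_zero, ← Module.End.mul_apply, ← pow_succ, pow_succ', Module.End.mul_apply]
          exact htop
      rw [show U v = 0 from LinearMap.mem_ker.1 (hker ▸ Submodule.mem_top), map_zero]
    · rintro ⟨Φ, hΦ⟩
      refine hgP' ⟨Wm.subtype.comp Φ, ?_⟩
      rw [← comp_trAll (σ := σW) (σ' := σH) (g := Wm.subtype) (fun h w => rfl) Φ, ← hΦ,
        LinearMap.subtype_comp_codRestrict]
  -- endomorphisms are scalars and traces
  have hend : ∀ Φ : Module.End (Res M) Wm, (∀ h v, Φ (σW h v) = σW h (Φ v)) →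
      ∃ (c : Res M) (Ω : Module.End (Res M) Wm), Φ = c • 1 + trAll σW σW Ω := by
    intro Φ hΦ
    let Pr : (Fin ((sys M G).dim (iv a)) → Res M) →ₗ[Res M] Wm := Eb.rangeRestrict
    let Φ' : Module.End (Res M) (Fin ((sys M G).dim (iv a)) → Res M) :=
      Wm.subtype.comp (Φ.comp Pr)
    have hPr : ∀ w : Wm, Pr (w : _) = w := fun w => Subtype.ext (by
      obtain ⟨v, hv⟩ := w.2
      show Eb (w : Fin ((sys M G).dim (iv a)) → Res M) = w
      rw [← hv, hEE])
    have hPrH : ∀ h w, Pr (σH h w) = σW h (Pr w) := fun h w => Subtype.ext (hEH h w).symm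
    have hEsum : Eb = ∑ q : H ⧸ P.subgroupOf H, colGroupRep (sys M G) (iv a) ((q.out : H) : G) *
        colRep (sys M G) (iv a) Y * colGroupRep (sys M G) (iv a) ((q.out : H) : G)⁻¹ := by
      rw [hEb, hb, hYb, map_sum]
      refine Finset.sum_congr rfl fun q _ => ?_
      rw [← asAlgebraHom_colGroupRep, ← Representation.asAlgebraHom_single_one
        (colGroupRep (sys M G) (iv a)) ((q.out : H) : G),
        ← Representation.asAlgebraHom_single_one (colGroupRep (sys M G) (iv a))
        ((q.out : H) : G)⁻¹, ← map_mul, ← map_mul]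
      congr 1
      refine fn_ext fun x => ?_
      rw [fn_cj, fn_mul_single, fn_single_mul, inv_inv, one_mul, mul_one, mul_assoc]
    obtain ⟨c, Ω, hΩ⟩ := end_eq_smul_add_trAll (colGroupRep (sys M G) (iv a))
      (fun Ψ hΨ => colRep_schur (sys M G) (iv a) Ψ fun s v => by
        rw [← asAlgebraHom_colGroupRep, Loc.eq_sum_coeff s]
        simp only [map_sum, LinearMap.sum_apply, Representation.asAlgebraHom_single,
          LinearMap.smul_apply, map_smul, hΨ])
      (P := P) (H := H) ((le_centralizer_zpowers (fun x hx y hy => by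
        obtain ⟨g₁, hg₁⟩ := hcyc.exists_generator
        obtain ⟨i', hi'⟩ := Subgroup.mem_zpowers_iff.1 (hg₁ ⟨x, hx⟩)
        obtain ⟨j', hj'⟩ := Subgroup.mem_zpowers_iff.1 (hg₁ ⟨y, hy⟩)
        have h0 := ((Commute.refl g₁).zpow_zpow i' j').eq
        rw [hi', hj'] at h0
        exact congrArg Subtype.val h0) hzP).trans hCH)
      (fun g h hh u hu hu1 hmem => by
        obtain ⟨n, hn⟩ := Subgroup.mem_zpowers_iff.1 (hzgen u hu hu1)
        obtain ⟨m, hm⟩ := Subgroup.mem_zpowers_iff.1
          ((Subgroup.mem_normalizer_iff.1 hh z).1 (Subgroup.mem_zpowers z))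
        have h1 : g⁻¹ * (h * z * h⁻¹) * g ∈ Subgroup.zpowers z := by
          refine hzpow _ ?_ ?_
          · have := P.zpow_mem hmem n
            rw [show g⁻¹ * h * u * h⁻¹ * g = (g⁻¹ * h) * u * (g⁻¹ * h)⁻¹ by group, conj_zpow,
              hn] at this
            rwa [show g⁻¹ * (h * z * h⁻¹) * g = (g⁻¹ * h) * z * (g⁻¹ * h)⁻¹ by group]
          · rw [show g⁻¹ * (h * z * h⁻¹) * g = (g⁻¹ * h) * z * (g⁻¹ * h)⁻¹ by group, conj_pow,
              ← hzord, pow_orderOf_eq_one, mul_one, mul_inv_cancel]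
        rw [← hm] at h1
        have hzm : Subgroup.zpowers (z ^ m) = Subgroup.zpowers z :=
          Subgroup.eq_of_le_of_card_ge
            (Subgroup.zpowers_le.2 (Subgroup.zpow_mem _ (Subgroup.mem_zpowers z) m)) (by
              rw [Nat.card_zpowers, Nat.card_zpowers, hm]
              exact (orderOf_injective (MulAut.conj h).toMonoidHom
                (MulAut.conj h).injective z).ge)
        obtain ⟨l, hl⟩ := Subgroup.mem_zpowers_iff.1
          (hzm ▸ Subgroup.mem_zpowers z : z ∈ Subgroup.zpowers (z ^ m))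
        have h2 : g⁻¹ * z * g⁻¹⁻¹ ∈ Subgroup.zpowers z := by
          rw [show g⁻¹ * z * g⁻¹⁻¹ = g⁻¹ * (z ^ m) ^ l * g⁻¹⁻¹ by rw [hl], ← conj_zpow, inv_inv]
          exact Subgroup.zpow_mem _ h1 l
        have := inv_mem (mem_normalizer_of_conj hzord h2)
        rwa [inv_inv] at this)
      (colRep (sys M G) (iv a) Y) (fun u hu => by
        rw [← asAlgebraHom_colGroupRep, ← Representation.asAlgebraHom_single_one
          (colGroupRep (sys M G) (iv a)) u, ← Representation.asAlgebraHom_single_one
          (colGroupRep (sys M G) (iv a)) u⁻¹, ← map_mul, ← map_mul]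
        congr 1
        conv_rhs => rw [← hY u hu]
        refine fn_ext fun x => ?_
        rw [fn_cj, fn_mul_single, fn_single_mul, inv_inv, one_mul, mul_one, mul_assoc])
      Eb hEsum (fun h hh => LinearMap.ext fun w => hEH ⟨h, hh⟩ w) Φ'
      (fun h hh => LinearMap.ext fun w => by
        show σH ⟨h, hh⟩ (Φ (Pr w) : _) = (Φ (Pr (σH ⟨h, hh⟩ w)) : _)
        rw [hPrH, hΦ]
        rfl)
      (LinearMap.ext fun w => congrArg Subtype.val (hPr (Φ (Pr w))))
      (LinearMap.ext fun w => by
        show (Φ (Pr (Eb w)) : Fin ((sys M G).dim (iv a)) → Res M) = Φ (Pr w)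
        rw [show Pr (Eb w) = Pr w from Subtype.ext (hEE w)])
    refine ⟨c, Pr.comp (Ω.comp Wm.subtype), LinearMap.ext fun w => ?_⟩
    have h1 := congrArg Pr (LinearMap.congr_fun hΩ (w : Fin ((sys M G).dim (iv a)) → Res M))
    simp only [Φ', LinearMap.comp_apply, Submodule.subtype_apply, hPr, LinearMap.add_apply,
      LinearMap.smul_apply, map_add, map_smul, LinearMap.sum_apply, Module.End.mul_apply,
      map_sum] at h1
    rw [h1, LinearMap.add_apply, LinearMap.smul_apply, Module.End.one_apply, trAll_apply]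
    congr 1
    · congr 1
      exact Subtype.ext (congrArg Subtype.val (show Pr (Eb (w : _)) = w from by
        rw [show Pr (Eb (w : _)) = Pr (w : _) from Subtype.ext (hEE _), hPr]))
    · exact Finset.sum_congr rfl fun h _ => hPrH h _
  obtain ⟨ga, hga, hga0, hgaP⟩ := hland a (gv a) (hgv a) (hgvP a)
  obtain ⟨gb, hgb, hgb0, hgbP⟩ := hland a' g' hg' hg'P
  exact hloc.exists_equiv hend (hsj a) (hsj a') ga hga hga0 hgaP gb hgb hgb0 hgbP

end Cfsg.Lib.Blocks.CyclicDefect
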