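import Mathlib
import Cfsg.Agent.Blocks.CyclicDefect.Lower
import Cfsg.Agent.Blocks.Frobenius.IntegralRows
import Cfsg.Agent.Blocks.Frobenius.RowBound

/-!
# The number of characters and the regular rank of a block with cyclic defect group

The inertial action is free, so the integral columns bound the number of characters by `m + e`,
and the count over the subsections turns the lower bound `e` for the regular rank into equality.
-/

set_option autoImplicit false
set_option linter.unusedSectionVars false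
set_option linter.style.haveILetI false

namespace Cfsg.Lib.Blocks.CyclicDefect

open Cfsg.Lib.Chars Cfsg.Lib.Blocks.Frobenius Cfsg.Lib.Blocks.IBr Cfsg.Lib.Blocks.Star
open scoped Classical

universe u

local notation "C⟨" Q "⟩" => Subgroup.centralizer (SetLike.coe Q)

variable {G : Type u} [Group G] [Fintype G] {M : Ideal AlgInt} {p : ℕ} [Fact p.Prime]
  {B : Set (IrrCharacter G)} {P T : Subgroup G} {c : Set (IrrCharacter C⟨P⟩)}

lemma comm_of_cyclic (hcyc : IsCyclic P) : ∀ a ∈ P, ∀ b ∈ P, a * b = b * a := fun a ha b hb => by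
  obtain ⟨g, hg⟩ := hcyc.exists_generator
  obtain ⟨m, hm⟩ := hg ⟨a, ha⟩
  obtain ⟨n, hn⟩ := hg ⟨b, hb⟩
  rw [← show ((g ^ m : P) : G) = a from congrArg Subtype.val hm,
    ← show ((g ^ n : P) : G) = b from congrArg Subtype.val hn]
  exact congrArg Subtype.val ((Commute.refl g).zpow_zpow m n).eq

lemma normal_centralizer_sub (hT : IsPairStab P c T) : (C⟨P⟩.subgroupOf T).Normal :=
  ⟨fun x hx t => (Subgroup.mem_normalizer_iff.1 (centralizer_le_normalizer_centralizer
    ((hT _).1 t.2).1 le_rfl) (x : G)).1 hx⟩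

/-- **The inertial index and freeness.** -/
theorem inertia_props (hM : IsPModular p M) (hD : IsDefectGroup p M B P)
    (hc : IsBrauerPairOf p M B P c) (hcyc : IsCyclic P) (hP1 : P ≠ ⊥) (hT : IsPairStab P c T) :
    C⟨P⟩.relIndex T ∣ p - 1 ∧ FreePair p M B P T c := by
  haveI := normal_centralizer_sub hT
  obtain ⟨-, hdvd, hfree⟩ := Cfsg.Agent.S4633.result p M hM B hc.2.1 P hD hP1 hcyc c
    ((isBrauerPairOf_iff hM B P c).1 hc).2 T hT
  exact ⟨hdvd, ⟨hM, hD, hc, comm_of_cyclic hcyc, hT⟩, hfree⟩

/-- The blocks below the pair at nontrivial elements have one irreducible Brauer character. -/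
theorem below_rank_one (hM : IsPModular p M) (hD : IsDefectGroup p M B P)
    (hc : IsBrauerPairOf p M B P c) (hcyc : IsCyclic P) (hP1 : P ≠ ⊥) (hT : IsPairStab P c T)
    {y : G} (hy : y ∈ P) (hy1 : y ≠ 1) {f : Set (IrrCharacter C⟨Subgroup.zpowers y⟩)}
    (hf : IsBelow M P c y f) : blockRank p f = 1 := by
  have hab := comm_of_cyclic hcyc
  refine blockRank_local_eq_one hM hD hc hab hT (Subgroup.zpowers_le.2 hy)
    (hf.normalSubpair hM hc.1 hab hy) fun t ht htC => ?_
  refine (inertia_props hM hD hc hcyc hP1 hT).2.free t ht y hy hy1 ?_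
  rw [← Subgroup.mem_centralizer_iff.1 htC y (Subgroup.mem_zpowers y), mul_inv_cancel_right]

/-- The characters beyond the regular rank are counted by the orbits on `P \ {1}`. -/
theorem count_eq (hM : IsPModular p M) (hD : IsDefectGroup p M B P)
    (hc : IsBrauerPairOf p M B P c) (hcyc : IsCyclic P) (hP1 : P ≠ ⊥) (hT : IsPairStab P c T) :
    (C⟨P⟩.relIndex T : ℤ) * ((Nat.card B : ℤ) - (blockRank p B : ℤ)) = (Nat.card P : ℤ) - 1 := by
  have hfree := (inertia_props hM hD hc hcyc hP1 hT).2.free
  rw [subsection_count hM hD hc (comm_of_cyclic hcyc) hT (fun y hy hy1 t ht h => hfree t ht y hy hy1 h)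
    (fun _ => 1) fun y f hy hy1 hf => below_rank_one hM hD hc hcyc hP1 hT hy hy1 hf]
  rw [Finset.sum_const, nsmul_eq_mul, Nat.cast_one, mul_one]
  have hcard : (Finset.univ.filter fun y : G => y ∈ P ∧ y ≠ 1).card + 1 = Nat.card P := by
    rw [show (Finset.univ.filter fun y : G => y ∈ P ∧ y ≠ 1) =
      (Finset.univ.filter fun y : G => y ∈ P).erase 1 from by ext y; simp [and_comm],
      Finset.card_erase_add_one (by simp [P.one_mem]), Nat.card_eq_fintype_card, Fintype.card_subtype]
  rw [← hcard]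
  push_cast
  ring

/-- **Dade: `k(B) = e + m` and `l(B) = e`.** -/
theorem card_and_rank (hM : IsPModular p M) (hD : IsDefectGroup p M B P)
    (hc : IsBrauerPairOf p M B P c) (hcyc : IsCyclic P) (hP1 : P ≠ ⊥) (hT : IsPairStab P c T) :
    ∃ m : ℕ, C⟨P⟩.relIndex T * m + 1 = Nat.card P ∧
      Nat.card B = m + C⟨P⟩.relIndex T ∧ blockRank p B = C⟨P⟩.relIndex T := by
  obtain ⟨-, s⟩ := inertia_props hM hD hc hcyc hP1 hT
  obtain ⟨χ, hχ, -⟩ := exists_height_zero hM hc.2.1
  obtain ⟨m, n, hm, hrow, hgram⟩ := s.exists_columns hP1 hχ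
  set e := C⟨P⟩.relIndex T with he
  have hlow : e ≤ blockRank p B := inertial_index_le_blockRank hM hD hc hcyc hP1 hT
  haveI : Nontrivial P := (Subgroup.nontrivial_iff_ne_bot P).2 hP1
  have hq : 1 < Nat.card P := Finite.one_lt_card
  have hm1 : 1 ≤ m := by
    rcases m with _ | m
    · rw [Nat.mul_zero] at hm; omega
    · exact Nat.succ_pos _
  have hup := card_le_of_gram (e := e) (Finset.univ.filter (· ∈ B)) hm1 n
    (fun η hη => hrow η (Finset.mem_filter.1 hη).2) hgram
  have hcardB : (Finset.univ.filter (· ∈ B)).card = Nat.card B := by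
    rw [Nat.card_eq_fintype_card, Fintype.card_subtype]
  rw [hcardB] at hup
  have hcount := count_eq hM hD hc hcyc hP1 hT
  rw [← hm] at hcount
  push_cast at hcount
  have he0 : (e : ℤ) ≠ 0 := by
    intro h
    rw [Int.natCast_eq_zero.1 h, Nat.zero_mul] at hm
    omega
  have hdiff : (Nat.card B : ℤ) - blockRank p B = m := mul_left_cancel₀ he0 (by linarith)
  exact ⟨m, hm, by omega, by omega⟩

end Cfsg.Lib.Blocks.CyclicDefect
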