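import Mathlib
import Cfsg.Agent.Blocks.CyclicDefect.Rank

/-!
# The integral columns indexed by the characters of the defect group

For every character `l` of the cyclic defect group the function `∑ l ∘ a - e` over the inertial
automorphisms gives an integral column, constant on orbits, with Gram matrix `e + δ`; the
contributions at the nontrivial elements are the Fourier transforms of the rows.
-/

set_option autoImplicit false
set_option linter.unusedSectionVars false
set_option linter.style.haveILetI false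

namespace Cfsg.Lib.Blocks.CyclicDefect

open Cfsg.Lib.Chars Cfsg.Lib.Blocks.Frobenius Cfsg.Lib.Blocks.IBr Cfsg.Lib.Blocks.Star
open scoped ComplexConjugate Classical

universe u

/-! ### Duality for a free group of automorphisms -/

section Dual

variable {Q : Type*} [Group Q] [Fintype Q]

/-- The transformed character. -/
noncomputable def trc (a : MulAut Q) (l : Q →* ℂˣ) : Q →* ℂˣ := l.comp a.toMonoidHom

lemma trc_apply (a : MulAut Q) (l : Q →* ℂˣ) (y : Q) : trc a l y = l (a y) := rfl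

/-- Two characters in one orbit. -/
def OrbRel (A : Subgroup (MulAut Q)) (l k : Q →* ℂˣ) : Prop := ∃ a ∈ A, k = trc a l

/-- The orbit sum minus the order of the group of automorphisms. -/
noncomputable def gl (A : Subgroup (MulAut Q)) (l : Q →* ℂˣ) (y : Q) : ℂ :=
  ∑ a : A, ((l ((a : MulAut Q) y) : ℂˣ) : ℂ) - Nat.card A

/-- The automorphisms act without fixed points. -/
def FreeAut (A : Subgroup (MulAut Q)) : Prop := ∀ a ∈ A, ∀ y : Q, y ≠ 1 → a y = y → a = 1

lemma gl_one_apply (A : Subgroup (MulAut Q)) (l : Q →* ℂˣ) : gl A l 1 = 0 := by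
  simp [gl, Nat.card_eq_fintype_card]

lemma gl_inv {A : Subgroup (MulAut Q)} (l : Q →* ℂˣ) {b : MulAut Q} (hb : b ∈ A) (y : Q) :
    gl A l (b y) = gl A l y := by
  unfold gl
  congr 1
  refine Fintype.sum_equiv (Equiv.mulRight (⟨b, hb⟩ : A)) _ _ fun a => ?_
  simp [MulAut.mul_apply]

lemma gl_trc {A : Subgroup (MulAut Q)} (l : Q →* ℂˣ) {b : MulAut Q} (hb : b ∈ A) :
    gl A (trc b l) = gl A l := by
  funext y
  unfold gl
  congr 1
  refine Fintype.sum_equiv (Equiv.mulLeft (⟨b, hb⟩ : A)) _ _ fun a => ?_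
  simp [trc_apply, MulAut.mul_apply]

lemma trc_trc (a b : MulAut Q) (l : Q →* ℂˣ) : trc a (trc b l) = trc (b * a) l :=
  MonoidHom.ext fun _ => rfl

lemma trc_one (l : Q →* ℂˣ) : trc (1 : MulAut Q) l = l := MonoidHom.ext fun _ => rfl

lemma trc_ne_one {a : MulAut Q} {l : Q →* ℂˣ} (hl : l ≠ 1) : trc a l ≠ 1 := fun h => hl
  (MonoidHom.ext fun y => by
    have := DFunLike.congr_fun h (a.symm y)
    rwa [trc_apply, MulEquiv.apply_symm_apply] at this)

end Dual

section CommDual

variable {Q : Type*} [CommGroup Q] [Fintype Q] {A : Subgroup (MulAut Q)}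

lemma FreeAut.dual (h : FreeAut A) {a : MulAut Q} (ha : a ∈ A) {l : Q →* ℂˣ} (hl : l ≠ 1)
    (hal : trc a l = l) : a = 1 := by
  by_contra ha1
  have hd : Function.Injective fun y : Q => y⁻¹ * a y := by
    intro u v huv
    by_contra hne
    refine ha1 (h a ha (u * v⁻¹) (fun e => hne (mul_inv_eq_one.1 e)) ?_)
    have h1 : a u = u * (v⁻¹ * a v) := by
      rw [show v⁻¹ * a v = u⁻¹ * a u from huv.symm, mul_inv_cancel_left]
    rw [map_mul, map_inv, h1]
    group
  refine hl (MonoidHom.ext fun z => ?_)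
  obtain ⟨y, rfl⟩ := Finite.surjective_of_injective hd z
  show l (y⁻¹ * a y) = 1
  rw [map_mul, map_inv, show l (a y) = l y from DFunLike.congr_fun hal y, inv_mul_cancel]

variable [Fintype (Q →* ℂˣ)]

lemma sum_lin_mul_conj (l k : Q →* ℂˣ) :
    ∑ y : Q, ((l y : ℂˣ) : ℂ) * conj ((k y : ℂˣ) : ℂ) =
      if l = k then (Fintype.card Q : ℂ) else 0 := by
  rw [Finset.sum_congr rfl fun y _ => by
    rw [Homocyclic.conj_val, ← Units.val_mul, ← Homocyclic.mul_app], Homocyclic.sum_elems]
  simp [mul_inv_eq_one]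

/-- **The inner products of the orbit functions.** -/
theorem sum_gl_mul_conj (h : FreeAut A) {l k : Q →* ℂˣ} (hl : l ≠ 1) (hk : k ≠ 1) :
    ∑ y : Q, gl A l y * conj (gl A k y) =
      (Nat.card A : ℂ) * Fintype.card Q * ((Nat.card A : ℂ) + if OrbRel A l k then 1 else 0) := by
  have hone : ∀ m : Q →* ℂˣ, m ≠ 1 → ∑ y : Q, ((m y : ℂˣ) : ℂ) = 0 := fun m hm => by
    rw [Homocyclic.sum_elems, if_neg hm]
  have hcross : ∀ m : Q →* ℂˣ, m ≠ 1 → ∀ a : MulAut Q,
      ∑ y : Q, ((m (a y) : ℂˣ) : ℂ) = 0 := fun m hm a => by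
    rw [← hone m hm]
    exact Fintype.sum_equiv a.toEquiv _ _ fun _ => rfl
  have hmain : ∑ y : Q, (∑ a : A, ((l ((a : MulAut Q) y) : ℂˣ) : ℂ)) *
      (∑ b : A, conj ((k ((b : MulAut Q) y) : ℂˣ) : ℂ)) =
      if OrbRel A l k then (Nat.card A : ℂ) * Fintype.card Q else 0 := by
    simp only [Finset.sum_mul, Finset.mul_sum]
    rw [Finset.sum_comm, Finset.sum_congr rfl fun b _ => Finset.sum_comm,
      Finset.sum_congr rfl fun (b : A) _ => Finset.sum_congr rfl fun (a : A) _ =>
        show ∑ y : Q, ((l ((a : MulAut Q) y) : ℂˣ) : ℂ) * conj ((k ((b : MulAut Q) y) : ℂˣ) : ℂ) =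
          if trc (a : MulAut Q) l = trc (b : MulAut Q) k then (Fintype.card Q : ℂ) else 0
        from sum_lin_mul_conj (trc (a : MulAut Q) l) (trc (b : MulAut Q) k)]
    split_ifs with hr
    · obtain ⟨c, hc, rfl⟩ := hr
      have hiff : ∀ a b : A, trc (a : MulAut Q) l = trc (b : MulAut Q) (trc c l) ↔
          a = ⟨c, hc⟩ * b := fun a b => by
        rw [trc_trc]
        refine ⟨fun e => ?_, fun e => by rw [e]; rfl⟩
        have h1 : trc ((a : MulAut Q) * (c * (b : MulAut Q))⁻¹) l = l := by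
          have := congrArg (trc (c * (b : MulAut Q))⁻¹) e
          rwa [trc_trc, trc_trc, mul_inv_cancel, trc_one] at this
        exact Subtype.ext (mul_inv_eq_one.1
          (h.dual (A.mul_mem a.2 (A.inv_mem (A.mul_mem hc b.2))) hl h1))
      simp only [hiff]
      simp [Nat.card_eq_fintype_card]
    · refine Finset.sum_eq_zero fun a _ => Finset.sum_eq_zero fun b _ => if_neg fun e => hr ?_
      refine ⟨(b : MulAut Q) * (a : MulAut Q)⁻¹, A.mul_mem b.2 (A.inv_mem a.2), ?_⟩
      have := congrArg (trc (a : MulAut Q)⁻¹) e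
      rw [trc_trc, trc_trc, mul_inv_cancel, trc_one] at this
      exact this.symm
  simp only [gl, map_sub, map_sum, map_natCast, sub_mul, mul_sub, Finset.sum_sub_distrib]
  rw [hmain, ← Finset.sum_mul, Finset.sum_comm, Finset.sum_eq_zero fun a _ => hcross l hl _,
    zero_mul, ← Finset.mul_sum, Finset.sum_comm,
    Finset.sum_eq_zero fun a _ => by rw [← map_sum, hcross k hk _, map_zero],
    mul_zero, Finset.sum_const, Finset.card_univ, nsmul_eq_mul]
  split_ifs <;> ring

/-- The transforms of an invariant function. -/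
theorem sum_gl_mul (F : Q → ℂ) (hF : ∀ a ∈ A, ∀ y, F (a y) = F y) (l : Q →* ℂˣ) :
    ∑ y : Q, gl A l y * F y = (Nat.card A : ℂ) *
      (∑ y : Q, ((l y : ℂˣ) : ℂ) * F y - ∑ y : Q, F y) := by
  simp only [gl, sub_mul, Finset.sum_sub_distrib, Finset.sum_mul]
  rw [mul_sub, Finset.sum_comm, ← Finset.mul_sum, Nat.card_eq_fintype_card]
  congr 1
  rw [← nsmul_eq_mul, ← Finset.card_univ, ← Finset.sum_const]
  exact Finset.sum_congr rfl fun a _ =>
    Fintype.sum_equiv (a : MulAut Q).toEquiv _ _ fun y => by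
      show _ = ((l ((a : MulAut Q) y) : ℂˣ) : ℂ) * F ((a : MulAut Q) y)
      rw [hF _ a.2]

/-- **Inversion.** -/
theorem eq_sum_transform (F : Q → ℂ) (hF : ∀ a ∈ A, ∀ y, F (a y) = F y)
    {y₀ : Q} (hy₀ : y₀ ≠ 1) (z : (Q →* ℂˣ) → ℂ)
    (hz : ∀ l, z l = (∑ y : Q, gl A l y * F y) / ((Nat.card A : ℂ) * Fintype.card Q)) :
    ∑ l ∈ Finset.univ.erase (1 : Q →* ℂˣ), z l * conj ((l y₀ : ℂˣ) : ℂ) = F y₀ := by
  have hA : (Nat.card A : ℂ) ≠ 0 := Nat.cast_ne_zero.2 Nat.card_pos.ne'
  have hQ : (Fintype.card Q : ℂ) ≠ 0 := Nat.cast_ne_zero.2 Fintype.card_ne_zero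
  have h1 : z 1 = 0 := by
    rw [hz, sum_gl_mul F hF]
    simp [Homocyclic.one_app]
  rw [Finset.sum_erase _ (by rw [h1, zero_mul])]
  have hz' : ∀ l, z l * conj ((l y₀ : ℂˣ) : ℂ) = (Fintype.card Q : ℂ)⁻¹ *
      (∑ y : Q, ((l (y₀⁻¹ * y) : ℂˣ) : ℂ) * F y - (∑ y : Q, F y) * ((l y₀⁻¹ : ℂˣ) : ℂ)) := fun l => by
    have hval : conj ((l y₀ : ℂˣ) : ℂ) = ((l y₀⁻¹ : ℂˣ) : ℂ) := by
      rw [Homocyclic.conj_val, Homocyclic.inv_app, map_inv]
    have hsum : ∑ y : Q, ((l (y₀⁻¹ * y) : ℂˣ) : ℂ) * F y =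
        ((l y₀⁻¹ : ℂˣ) : ℂ) * ∑ y : Q, ((l y : ℂˣ) : ℂ) * F y := by
      rw [Finset.mul_sum]
      exact Finset.sum_congr rfl fun y _ => by rw [map_mul, Units.val_mul, mul_assoc]
    rw [hz, sum_gl_mul F hF, hval, hsum]
    field_simp
  rw [Finset.sum_congr rfl fun l _ => hz' l, ← Finset.mul_sum, Finset.sum_sub_distrib,
    Finset.sum_comm, ← Finset.mul_sum, Homocyclic.sum_chars, if_neg (inv_ne_one.2 hy₀), mul_zero,
    sub_zero, Finset.sum_congr rfl fun y _ => by rw [← Finset.sum_mul, Homocyclic.sum_chars]]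
  simp only [inv_mul_eq_one, ite_mul, zero_mul, Finset.sum_ite_eq, Finset.mem_univ, if_true]
  field_simp

end CommDual

/-! ### The columns -/

local notation "C⟨" Q "⟩" => Subgroup.centralizer (SetLike.coe Q)

variable {G : Type u} [Group G] [Fintype G] {M : Ideal AlgInt} {p : ℕ} [Fact p.Prime]
  {B : Set (IrrCharacter G)} {P T : Subgroup G} {c : Set (IrrCharacter C⟨P⟩)}

/-- The inertial automorphisms of the defect group. -/
noncomputable def inertAut (hT : IsPairStab P c T) : T →* MulAut P :=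
  P.normalizerMonoidHom.comp (Subgroup.inclusion hT.le_normalizer)

lemma inertAut_coe (hT : IsPairStab P c T) (t : T) (y : P) :
    ((inertAut hT t y : P) : G) = (t : G) * y * (t : G)⁻¹ := rfl

lemma inertAut_ker (hT : IsPairStab P c T) : (inertAut hT).ker = C⟨P⟩.subgroupOf T := by
  ext t
  rw [inertAut, MonoidHom.mem_ker, MonoidHom.comp_apply, ← MonoidHom.mem_ker,
    Subgroup.normalizerMonoidHom_ker]
  rfl

lemma card_inertAut (hT : IsPairStab P c T) :
    Nat.card (inertAut hT).range = C⟨P⟩.relIndex T := by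
  rw [← Subgroup.index_ker, inertAut_ker hT]
  rfl

variable (s : FreePair p M B P T c)
include s

lemma freeAut_inertAut : FreeAut (inertAut s.stab).range := by
  rintro _ ⟨t, rfl⟩ y hy h
  rw [← MonoidHom.mem_ker, inertAut_ker, Subgroup.mem_subgroupOf]
  refine s.free t t.2 y y.2 (fun e => hy (Subtype.ext e)) ?_
  rw [← inertAut_coe s.stab, h]

/-- **The integral columns and the contributions.** -/
theorem exists_rows {χ : IrrCharacter G} (hχ : χ ∈ B) [Fintype (P →* ℂˣ)] :
    ∃ N : IrrCharacter G → (P →* ℂˣ) → ℤ,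
      (∀ η, ∀ a ∈ (inertAut s.stab).range, ∀ l, N η (trc a l) = N η l) ∧
      (∀ l k, l ≠ 1 → k ≠ 1 → ∑ η ∈ Finset.univ.filter (· ∈ B), N η l * N η k =
        (C⟨P⟩.relIndex T : ℤ) + if OrbRel (inertAut s.stab).range l k then 1 else 0) ∧
      (∀ l, ∀ g : G, ¬ p ∣ orderOf g →
        ∑ η ∈ Finset.univ.filter (· ∈ B), (N η l : ℂ) * (η : G → ℂ) g = 0) ∧
      ∀ η ∈ B, ∀ y : P, y ≠ 1 → sgnW p M P T c (Subgroup.zpowers (y : G)) *
        ga M (y : G) (fw M P c (Subgroup.zpowers (y : G))) η =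
        ∑ l ∈ Finset.univ.erase (1 : P →* ℂˣ), (N η l : ℂ) * ((l y : ℂˣ) : ℂ) := by
  letI : CommGroup P :=
    { (inferInstance : Group P) with mul_comm := fun a b => Subtype.ext (s.comm a a.2 b b.2) }
  set A := (inertAut s.stab).range with hAdef
  set e := C⟨P⟩.relIndex T with he
  have hfreeA : FreeAut A := freeAut_inertAut s
  have hcard : Nat.card A = e := card_inertAut s.stab
  have hA0 : (Nat.card A : ℂ) ≠ 0 := Nat.cast_ne_zero.2 Nat.card_pos.ne'
  have hP0 : (Nat.card P : ℂ) ≠ 0 := Nat.cast_ne_zero.2 Nat.card_pos.ne'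
  let g : (P →* ℂˣ) → G → ℂ := fun l => extendByZero P (gl A l)
  have hval : ∀ l (y : P), g l (y : G) = gl A l y := fun l y => extendByZero_mem _ y.2
  have hg1 : ∀ l, g l 1 = 0 := fun l => by
    rw [show (1 : G) = ((1 : P) : G) from rfl, hval, gl_one_apply]
  have hinv : ∀ l, ∀ t ∈ T, ∀ y ∈ P, g l (t * y * t⁻¹) = g l y := fun l t ht y hy => by
    refine (hval l (inertAut s.stab ⟨t, ht⟩ ⟨y, hy⟩)).trans (Eq.trans ?_ (hval l ⟨y, hy⟩).symm)
    exact gl_inv (A := A) l (b := inertAut s.stab ⟨t, ht⟩) ⟨_, rfl⟩ _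
  have hgen : ∀ l, IsGeneralizedCharacter P fun y : P => g l (y : G) := fun l => by
    simp only [hval]
    have h1 : IsGeneralizedCharacter P
        (∑ a : A, fun y : P => ((trc (a : MulAut P) l y : ℂˣ) : ℂ)) :=
      IsGeneralizedCharacter.sum _ _ fun a _ => IsCharacter.isGeneralized (isCharacter_linear _)
    have h2 := IsGeneralizedCharacter.zsmul
      (IsCharacter.isGeneralized (isCharacter_one (G := P))) (Nat.card A : ℤ)
    have := IsGeneralizedCharacter.sub h1 h2
    convert! this using 1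
    funext y
    simp [gl, trc, Finset.sum_apply]
    exact Finset.sum_congr (by ext; simp) fun _ _ => rfl
  choose N hN using fun (η : IrrCharacter G) (l : P →* ℂˣ) =>
    s.coeff_int hχ η (hgen l) (hinv l) (hg1 l)
  refine ⟨N, fun η a ha l => ?_, fun l k hl hk => ?_, fun l x hx => ?_, fun η hη y₀ hy₀ => ?_⟩
  · have hg : g (trc a l) = g l := congrArg (extendByZero P) (gl_trc l ha)
    exact_mod_cast show ((N η (trc a l) : ℤ) : ℂ) = (N η l : ℂ) by rw [← hN, ← hN, hg]
  · apply Int.cast_injective (α := ℂ)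
    push_cast
    have h := s.gram_expand hχ (g := g l) (g' := g k) (hinv l)
    rw [s.gram hχ (hinv l) (hinv k) (hg1 l)] at h
    rw [Finset.sum_congr rfl fun η _ => by rw [hN, hN, map_intCast]] at h
    simp only [hval] at h
    rw [h, sum_gl_mul_conj hfreeA hl hk, hcard, Nat.card_eq_fintype_card]
    have he0 : (e : ℂ) ≠ 0 := by rw [← hcard]; exact hA0
    have hq0 : (Fintype.card P : ℂ) ≠ 0 := Nat.cast_ne_zero.2 Fintype.card_ne_zero
    rw [← he]
    split_ifs <;> field_simp
  · set F := starFn p M P c (wgt p M P T c χ (g l)) χ with hFdef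
    have h1 : F x = 0 := by
      rw [hFdef, starFn_regular s.modular s.toAbPair.setting.maximal (s.stable_wgt χ (hinv l)) hχ hx]
      simp [wgt]
    have hcf : IsClassFunction G F := isClassFunction_starFn s.modular (s.stable_wgt χ (hinv l)) χ
    rw [← h1, classFunction_expand_apply hcf,
      ← Finset.sum_filter_add_sum_filter_not Finset.univ (· ∈ B)
        (fun η : IrrCharacter G => classInner F (η : G → ℂ) * (η : G → ℂ) x),
      Finset.sum_eq_zero (s := Finset.univ.filter fun η : IrrCharacter G => ¬ η ∈ B) fun η hη => by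
        rw [hFdef, s.toAbPair.setting.inner_eq_zero _ hχ (Finset.mem_filter.1 hη).2, zero_mul],
      add_zero]
    exact Finset.sum_congr rfl fun η _ => by rw [hN]
  · let F : P → ℂ := fun y => if y = 1 then 0 else sgnW p M P T c (Subgroup.zpowers (y : G)) *
      conj (ga M (y : G) (fw M P c (Subgroup.zpowers (y : G))) η)
    have hFinv : ∀ a ∈ A, ∀ y, F (a y) = F y := by
      rintro _ ⟨t, rfl⟩ y
      by_cases hy : y = 1
      · simp [hy]
      · have hy' : inertAut s.stab t y ≠ 1 := fun h => hy ((map_eq_one_iff _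
          (inertAut s.stab t).injective).1 h)
        obtain ⟨h1, h2⟩ := s.ga_conj y.2 (fun h => hy (Subtype.ext h)) t.2 η
        simp only [F, if_neg hy, if_neg hy', inertAut_coe]
        rw [h1, h2]
    have hz : ∀ l, ((N η l : ℤ) : ℂ) =
        (∑ y : P, gl A l y * F y) / ((Nat.card A : ℂ) * Fintype.card P) := fun l => by
      rw [← hN, s.coeff hχ hη (hinv l) (hg1 l), hcard, Nat.card_eq_fintype_card]
      congr 1
      refine Finset.sum_congr rfl fun y _ => ?_
      by_cases hy : y = 1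
      · subst hy
        rw [hval, gl_one_apply, zero_mul, zero_mul]
      · simp only [hval, F, if_neg hy]
    have h := congrArg conj (eq_sum_transform F hFinv hy₀ (fun l => ((N η l : ℤ) : ℂ)) hz)
    simp only [F, if_neg hy₀, map_sum, map_mul, map_intCast, Complex.conj_conj] at h
    rw [(s.sgnW_sq (Subgroup.zpowers_le.2 y₀.2)
      (s.zpowers_ne fun e => hy₀ (Subtype.ext e))).2] at h
    exact h.symm

end Cfsg.Lib.Blocks.CyclicDefect
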