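import Mathlib

/-!
# Integral matrices with Gram matrix `e + δ` and `e + m` rows

Such a matrix without zero rows has `e` constant rows `±1` and one row `± e_j` for each column.
-/

set_option autoImplicit false
set_option linter.unusedSectionVars false

namespace Cfsg.Lib.Blocks.CyclicDefect

open scoped Classical

variable {ι J : Type*} [Fintype J]

lemma two_mul_pred_le_spread (w : J → ℤ) (h : ∃ i k, w i ≠ w k) :
    2 * ((Fintype.card J : ℤ) - 1) ≤ ∑ i, ∑ j, (w i - w j) ^ 2 := by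
  obtain ⟨i, k, hik⟩ := h
  have hne : i ≠ k := fun e => hik (e ▸ rfl)
  have hpos : ∀ a b : ℤ, a ≠ b → 1 ≤ (a - b) ^ 2 := fun a b hab => by
    have := pow_ne_zero 2 (sub_ne_zero.2 hab)
    have := sq_nonneg (a - b)
    omega
  have hpair : ∀ j, 1 ≤ (w i - w j) ^ 2 + (w k - w j) ^ 2 := fun j => by
    rcases eq_or_ne (w i) (w j) with e | e
    · have := hpos _ _ (fun e' => hik (e.trans e'.symm) : w k ≠ w j)
      have := sq_nonneg (w i - w j)
      linarith
    · have := hpos _ _ e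
      have := sq_nonneg (w k - w j)
      linarith
  set R := (Finset.univ.erase i).erase k with hR
  have hki : k ∈ Finset.univ.erase i := Finset.mem_erase.2 ⟨hne.symm, Finset.mem_univ _⟩
  rw [← Finset.add_sum_erase Finset.univ _ (Finset.mem_univ i), ← Finset.add_sum_erase _ _ hki, ← hR]
  have hcardR : (R.card : ℤ) = (Fintype.card J : ℤ) - 2 := by
    rw [hR, Finset.card_erase_of_mem hki, Finset.card_erase_of_mem (Finset.mem_univ i),
      Finset.card_univ]
    have : 2 ≤ Fintype.card J := Fintype.one_lt_card_iff_nontrivial.2 ⟨i, k, hne⟩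
    omega
  have h1 : (Fintype.card J : ℤ) ≤ ∑ j, (w i - w j) ^ 2 + ∑ j, (w k - w j) ^ 2 := by
    rw [← Finset.sum_add_distrib]
    refine le_of_eq_of_le ?_ (Finset.card_nsmul_le_sum _ _ (1 : ℤ) fun j _ => hpair j)
    simp
  have h2 : (R.card : ℤ) ≤ ∑ j ∈ R, ∑ l, (w j - w l) ^ 2 := by
    refine le_of_eq_of_le (by simp) (Finset.card_nsmul_le_sum _ _ (1 : ℤ) fun j _ => ?_)
    refine le_trans ?_ (Finset.sum_le_sum_of_subset_of_nonneg (Finset.subset_univ {i, k})
      fun _ _ _ => sq_nonneg _)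
    rw [Finset.sum_pair hne]
    have := hpair j
    linarith [sub_sq_comm (w i) (w j), sub_sq_comm (w k) (w j)]
  linarith

/-- **The shape of the matrix.** -/
theorem shape_of_gram (s : Finset ι) (n : ι → J → ℤ) {e : ℕ} (hJ : Nonempty J)
    (hrow : ∀ η ∈ s, ∃ j, n η j ≠ 0)
    (hgram : ∀ i j, ∑ η ∈ s, n η i * n η j = (e : ℤ) + if i = j then 1 else 0)
    (hcard : s.card = e + Fintype.card J) :
    ∃ (X : Finset ι) (ψ : J → ι), X ⊆ s ∧ X.card = e ∧
      (∀ η ∈ X, ∃ δ : ℤ, (δ = 1 ∨ δ = -1) ∧ ∀ j, n η j = δ) ∧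
      Function.Injective ψ ∧ (∀ j, ψ j ∈ s ∧ ψ j ∉ X) ∧
      (∀ η ∈ s, η ∈ X ∨ ∃ j, ψ j = η) ∧
      (∀ j, n (ψ j) j = 1 ∨ n (ψ j) j = -1) ∧ ∀ i j, i ≠ j → n (ψ j) i = 0 := by
  set m := Fintype.card J with hm
  have hm1 : 1 ≤ m := Fintype.card_pos
  have hsq1 : ∀ a : ℤ, a ≠ 0 → 1 ≤ a ^ 2 := fun a ha => by
    have := pow_ne_zero 2 ha
    have := sq_nonneg a
    omega
  let Nc := s.filter fun η => ∃ i k, n η i ≠ n η k
  have htrace : ∑ η ∈ s, ∑ j, n η j ^ 2 = (m : ℤ) * ((e : ℤ) + 1) := by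
    rw [Finset.sum_comm, Finset.sum_congr rfl fun j _ => by
      rw [Finset.sum_congr rfl fun η _ => pow_two (n η j), hgram j j, if_pos rfl]]
    simp [hm]
  have hconst : ∀ η ∈ s, η ∉ Nc → (m : ℤ) ≤ ∑ j, n η j ^ 2 := fun η hη hn => by
    obtain ⟨i, hi⟩ := hrow η hη
    refine le_of_eq_of_le (by simp [hm]) (Finset.card_nsmul_le_sum _ _ (1 : ℤ) fun j _ => hsq1 _ ?_)
    intro h0
    exact hn (Finset.mem_filter.2 ⟨hη, i, j, by rw [h0]; exact hi⟩)
  have hone : ∀ η ∈ s, 1 ≤ ∑ j, n η j ^ 2 := fun η hη => by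
    obtain ⟨i, hi⟩ := hrow η hη
    exact (hsq1 _ hi).trans
      (Finset.single_le_sum (f := fun j => n η j ^ 2) (fun _ _ => sq_nonneg _) (Finset.mem_univ i))
  -- the non-constant rows, enlarged to `m` rows
  obtain ⟨U, hUs, hNU, hUc⟩ : ∃ U, U ⊆ s ∧ Nc ⊆ U ∧ U.card = m := by
    have hspread : ∑ η ∈ s, ∑ i, ∑ j, (n η i - n η j) ^ 2 = 2 * ((m : ℤ) * ((m : ℤ) - 1)) := by
      rw [Finset.sum_comm, Finset.sum_congr rfl fun i _ => Finset.sum_comm]
      have : ∀ i j, ∑ η ∈ s, (n η i - n η j) ^ 2 = 2 - 2 * if i = j then (1 : ℤ) else 0 :=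
        fun i j => by
        rw [Finset.sum_congr rfl fun η _ => show (n η i - n η j) ^ 2 =
          n η i * n η i + n η j * n η j - 2 * (n η i * n η j) by ring, Finset.sum_sub_distrib,
          Finset.sum_add_distrib, ← Finset.mul_sum, hgram, hgram, hgram]
        simp only [if_true]
        ring
      simp only [this, Finset.sum_sub_distrib, ← Finset.mul_sum, Finset.sum_ite_eq, Finset.mem_univ,
        if_true, Finset.sum_const, Finset.card_univ, ← hm, nsmul_eq_mul]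
      ring
    have hup : (Nc.card : ℤ) * (2 * ((m : ℤ) - 1)) ≤ 2 * ((m : ℤ) * ((m : ℤ) - 1)) := by
      rw [← hspread, ← nsmul_eq_mul]
      exact (Finset.card_nsmul_le_sum Nc _ _ fun η hη =>
        two_mul_pred_le_spread (n η) (Finset.mem_filter.1 hη).2).trans
        (Finset.sum_le_sum_of_subset_of_nonneg (Finset.filter_subset _ _) fun η _ _ =>
          Finset.sum_nonneg fun _ _ => Finset.sum_nonneg fun _ _ => sq_nonneg _)
    have hle : Nc.card ≤ m := by
      rcases Nat.lt_or_ge 1 m with h | h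
      · have hpos : (0 : ℤ) < (m : ℤ) - 1 := by omega
        have : (Nc.card : ℤ) ≤ m := le_of_mul_le_mul_right (by linarith) hpos
        omega
      · have : Nc = ∅ := Finset.filter_eq_empty_iff.2 fun η _ ⟨i, k, hik⟩ => hik (by
          rw [(Fintype.card_le_one_iff_subsingleton.1 h).elim i k])
        simp [this]
    obtain ⟨U, h1, h2, h3⟩ :=
      Finset.exists_subsuperset_card_eq (Finset.filter_subset _ _ : Nc ⊆ s) hle (by omega)
    exact ⟨U, h2, h1, h3⟩
  have hXc : (s \ U).card = e := by rw [Finset.card_sdiff_of_subset hUs, hUc, hcard]; omega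
  have hsplit : ∑ η ∈ s \ U, (∑ j, n η j ^ 2 - m) + ∑ η ∈ U, (∑ j, n η j ^ 2 - 1) = 0 := by
    rw [Finset.sum_sub_distrib, Finset.sum_sub_distrib, Finset.sum_const, Finset.sum_const, hXc,
      hUc, nsmul_eq_mul, nsmul_eq_mul]
    have h := Finset.sum_sdiff (f := fun η => ∑ j, n η j ^ 2) hUs
    rw [htrace] at h
    linarith
  have hXnn : ∀ η ∈ s \ U, 0 ≤ ∑ j, n η j ^ 2 - (m : ℤ) := fun η hη => by
    obtain ⟨h1, h2⟩ := Finset.mem_sdiff.1 hη
    linarith [hconst η h1 fun h => h2 (hNU h)]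
  have hUnn : ∀ η ∈ U, 0 ≤ ∑ j, n η j ^ 2 - (1 : ℤ) := fun η hη => by
    linarith [hone η (hUs hη)]
  obtain ⟨hX0, hU0⟩ := (add_eq_zero_iff_of_nonneg (Finset.sum_nonneg hXnn)
    (Finset.sum_nonneg hUnn)).1 hsplit
  rw [Finset.sum_eq_zero_iff_of_nonneg hXnn] at hX0
  rw [Finset.sum_eq_zero_iff_of_nonneg hUnn] at hU0
  have hXval : ∀ η ∈ s \ U, ∃ δ : ℤ, (δ = 1 ∨ δ = -1) ∧ ∀ j, n η j = δ := fun η hη => by
    obtain ⟨h1, h2⟩ := Finset.mem_sdiff.1 hη
    have hc : ∀ i k, n η i = n η k := fun i k => by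
      by_contra h
      exact h2 (hNU (Finset.mem_filter.2 ⟨h1, i, k, h⟩))
    obtain ⟨j₀⟩ := hJ
    refine ⟨n η j₀, ?_, fun j => hc j j₀⟩
    have h3 := hX0 η hη
    rw [Finset.sum_congr rfl fun j _ => by rw [hc j j₀], Finset.sum_const, Finset.card_univ, ← hm,
      nsmul_eq_mul] at h3
    have : n η j₀ ^ 2 = 1 := mul_left_cancel₀ (show (m : ℤ) ≠ 0 by omega) (by linarith)
    exact sq_eq_one_iff.1 this
  have hUval : ∀ η ∈ U, ∃ j, (n η j = 1 ∨ n η j = -1) ∧ ∀ i, i ≠ j → n η i = 0 := fun η hη => by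
    obtain ⟨j, hj⟩ := hrow η (hUs hη)
    have h3 := hU0 η hη
    rw [← Finset.add_sum_erase _ _ (Finset.mem_univ j)] at h3
    have h4 : (0 : ℤ) ≤ ∑ i ∈ Finset.univ.erase j, n η i ^ 2 :=
      Finset.sum_nonneg fun _ _ => sq_nonneg _
    have h5 := hsq1 _ hj
    refine ⟨j, sq_eq_one_iff.1 (by linarith), fun i hi => ?_⟩
    have h6 : ∑ i ∈ Finset.univ.erase j, n η i ^ 2 = 0 := by linarith
    exact sq_eq_zero_iff.1 ((Finset.sum_eq_zero_iff_of_nonneg fun _ _ => sq_nonneg _).1 h6 i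
      (Finset.mem_erase.2 ⟨hi, Finset.mem_univ _⟩))
  choose col hcol hcol0 using fun η : U => hUval η η.2
  have hcolne : ∀ η : U, n η (col η) ^ 2 = 1 := fun η => sq_eq_one_iff.2 (hcol η)
  have hsurj : Function.Surjective col := fun j => by
    by_contra hno
    push Not at hno
    have h := hgram j j
    rw [if_pos rfl, ← Finset.sum_sdiff hUs, Finset.sum_congr rfl (g := fun _ => (1 : ℤ)) fun η hη => by
      obtain ⟨δ, hδ, hv⟩ := hXval η hη
      rw [hv]; rcases hδ with rfl | rfl <;> rfl,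
      Finset.sum_eq_zero (s := U) fun η hη => by rw [hcol0 ⟨η, hη⟩ j (hno ⟨η, hη⟩).symm, zero_mul],
      Finset.sum_const, hXc, nsmul_one] at h
    push_cast at h
    omega
  have hbij : Function.Bijective col := by
    rw [Fintype.bijective_iff_surjective_and_card, Fintype.card_coe, hUc]
    exact ⟨hsurj, hm⟩
  let E := Equiv.ofBijective col hbij
  have hE : ∀ j, col (E.symm j) = j := E.apply_symm_apply
  refine ⟨s \ U, fun j => (E.symm j : ι), Finset.sdiff_subset, hXc, hXval,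
    fun i j h => E.symm.injective (Subtype.ext h),
    fun j => ⟨hUs (E.symm j).2, fun h => (Finset.mem_sdiff.1 h).2 (E.symm j).2⟩,
    fun η hη => ?_, fun j => ?_, fun i j hij => hcol0 _ i (by rw [hE]; exact hij)⟩
  · by_cases hU : η ∈ U
    · exact Or.inr ⟨E ⟨η, hU⟩, by simp⟩
    · exact Or.inl (Finset.mem_sdiff.2 ⟨hη, hU⟩)
  · have := hcol (E.symm j)
    rwa [hE] at this

end Cfsg.Lib.Blocks.CyclicDefect
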