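import Mathlib
import Cfsg.Agent.Blocks.CyclicDefect.Columns
import Cfsg.Agent.Blocks.CyclicDefect.Comb

/-!
# The exceptional and non-exceptional characters of a block with cyclic defect group
-/

set_option autoImplicit false
set_option linter.unusedSectionVars false
set_option linter.style.haveILetI false

namespace Cfsg.Lib.Blocks.CyclicDefect

open Cfsg.Lib.Chars Cfsg.Lib.Blocks.Frobenius Cfsg.Lib.Blocks.IBr Cfsg.Lib.Blocks.Star
open scoped ComplexConjugate Classical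

universe u

local notation "C⟨" Q "⟩" => Subgroup.centralizer (SetLike.coe Q)

variable {G : Type u} [Group G] [Fintype G] {M : Ideal AlgInt} {p : ℕ} [Fact p.Prime]
  {B : Set (IrrCharacter G)} {P T : Subgroup G} {c : Set (IrrCharacter C⟨P⟩)}

lemma orbRel_refl {Q : Type*} [Group Q] [Fintype Q] (A : Subgroup (MulAut Q)) (l : Q →* ℂˣ) : OrbRel A l l :=
  ⟨1, A.one_mem, (trc_one l).symm⟩

lemma OrbRel.symm {Q : Type*} [Group Q] [Fintype Q] {A : Subgroup (MulAut Q)} {l k : Q →* ℂˣ}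
    (h : OrbRel A l k) : OrbRel A k l := by
  obtain ⟨a, ha, rfl⟩ := h
  exact ⟨a⁻¹, A.inv_mem ha, by rw [trc_trc, mul_inv_cancel, trc_one]⟩

lemma OrbRel.trans {Q : Type*} [Group Q] [Fintype Q] {A : Subgroup (MulAut Q)} {l k j : Q →* ℂˣ}
    (h : OrbRel A l k) (h' : OrbRel A k j) : OrbRel A l j := by
  obtain ⟨a, ha, rfl⟩ := h
  obtain ⟨b, hb, rfl⟩ := h'
  exact ⟨a * b, A.mul_mem ha hb, (trc_trc _ _ _)⟩

/-- The structure of a block with cyclic defect group: `e` non-exceptional characters `X` with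
signs `δ`, exceptional characters `Ψ l` indexed by the orbits of nontrivial characters of the
defect group with a common sign `δ0`. -/
structure Exceptional (M : Ideal AlgInt) (p : ℕ) (B : Set (IrrCharacter G)) (P T : Subgroup G)
    (c : Set (IrrCharacter C⟨P⟩)) (A : Subgroup (MulAut P)) where
  X : Finset (IrrCharacter G)
  Ψ : (P →* ℂˣ) → IrrCharacter G
  δ : IrrCharacter G → ℤ
  δ₀ : ℤ
  card_X : X.card = C⟨P⟩.relIndex T
  mem_X : ∀ χ ∈ X, χ ∈ B
  mem_Ψ : ∀ l, l ≠ 1 → Ψ l ∈ B ∧ Ψ l ∉ X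
  cover : ∀ η ∈ B, η ∈ X ∨ ∃ l, l ≠ 1 ∧ Ψ l = η
  eq_iff : ∀ l k, l ≠ 1 → k ≠ 1 → (Ψ l = Ψ k ↔ OrbRel A l k)
  sign : ∀ χ ∈ X, δ χ = 1 ∨ δ χ = -1
  sign₀ : δ₀ = 1 ∨ δ₀ = -1
  regular : ∀ l, l ≠ 1 → ∀ g : G, ¬ p ∣ orderOf g →
    (δ₀ : ℂ) * (Ψ l : G → ℂ) g + ∑ χ ∈ X, (δ χ : ℂ) * (χ : G → ℂ) g = 0
  value_X : ∀ χ ∈ X, ∀ y : P, y ≠ 1 → sgnW p M P T c (Subgroup.zpowers (y : G)) *
    ga M (y : G) (fw M P c (Subgroup.zpowers (y : G))) χ = -(δ χ : ℂ)
  value_Ψ : ∀ l, l ≠ 1 → ∀ y : P, y ≠ 1 → sgnW p M P T c (Subgroup.zpowers (y : G)) *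
    ga M (y : G) (fw M P c (Subgroup.zpowers (y : G))) (Ψ l) =
      (δ₀ : ℂ) * ∑ a : A, ((l ((a : MulAut P) y) : ℂˣ) : ℂ)

/-- **The exceptional characters exist.** -/
theorem exists_exceptional (hM : IsPModular p M) (hD : IsDefectGroup p M B P)
    (hc : IsBrauerPairOf p M B P c) (hcyc : IsCyclic P) (hP1 : P ≠ ⊥) (hT : IsPairStab P c T) :
    Nonempty (Exceptional M p B P T c (inertAut hT).range) := by
  obtain ⟨-, s⟩ := inertia_props hM hD hc hcyc hP1 hT
  set e := C⟨P⟩.relIndex T with he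
  set A := (inertAut hT).range with hA
  have hfreeA : FreeAut A := freeAut_inertAut s
  have hcardA : Nat.card A = e := card_inertAut hT
  letI : Fintype (P →* ℂˣ) := Fintype.ofFinite _
  letI : CommGroup P :=
    { (inferInstance : Group P) with mul_comm := fun a b => Subtype.ext (s.comm a a.2 b b.2) }
  obtain ⟨χ₀, hχ₀, -⟩ := exists_height_zero hM hc.2.1
  obtain ⟨N, hNinv, hgram, hreg, hval⟩ := exists_rows s hχ₀
  haveI : Nontrivial P := (Subgroup.nontrivial_iff_ne_bot P).2 hP1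
  obtain ⟨m, hm, hcardB, -⟩ := card_and_rank hM hD hc hcyc hP1 hT
  -- the orbits
  let st : Setoid {l : P →* ℂˣ // l ≠ 1} :=
    ⟨fun l k => OrbRel A l.1 k.1, fun l => orbRel_refl A _, fun h => h.symm,
      fun h h' => h.trans h'⟩
  letI : Fintype (Quotient st) := Fintype.ofFinite _
  let rep : Quotient st → {l : P →* ℂˣ // l ≠ 1} := Quotient.out
  have hrepmk : ∀ l : {l : P →* ℂˣ // l ≠ 1}, OrbRel A l.1 (rep (Quotient.mk st l)).1 := fun l =>
    (Quotient.mk_out (s := st) l).symm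
  have hconst : ∀ η (l : {l : P →* ℂˣ // l ≠ 1}), N η l.1 = N η (rep (Quotient.mk st l)).1 :=
    fun η l => by
    obtain ⟨a, ha, h⟩ := hrepmk l
    rw [h, hNinv η a ha]
  have hbij : Function.Bijective (fun x : Quotient st × A =>
      (⟨trc (x.2 : MulAut P) (rep x.1).1, trc_ne_one (rep x.1).2⟩ : {l : P →* ℂˣ // l ≠ 1})) := by
    constructor
    · rintro ⟨i, a⟩ ⟨j, b⟩ h
      have h' : trc (a : MulAut P) (rep i).1 = trc (b : MulAut P) (rep j).1 := congrArg Subtype.val h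
      have h2 : trc ((a : MulAut P) * (b : MulAut P)⁻¹) (rep i).1 = (rep j).1 := by
        rw [← trc_trc, h', trc_trc, mul_inv_cancel, trc_one]
      obtain rfl : i = j := by
        rw [← Quotient.out_eq i, ← Quotient.out_eq j]
        exact Quotient.sound ⟨_, A.mul_mem a.2 (A.inv_mem b.2), h2.symm⟩
      rw [Subtype.ext (mul_inv_eq_one.1
        (hfreeA.dual (A.mul_mem a.2 (A.inv_mem b.2)) (rep i).2 h2)) ]
    · intro l
      obtain ⟨a, ha, h⟩ := (hrepmk l).symm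
      exact ⟨(Quotient.mk st l, ⟨a, ha⟩), Subtype.ext h.symm⟩
  have hcardJ : Fintype.card (Quotient st) = m := by
    have h := Fintype.card_congr (Equiv.ofBijective _ hbij)
    rw [Fintype.card_prod, Fintype.card_subtype_compl, Fintype.card_subtype_eq,
      ← Nat.card_eq_fintype_card (α := A), hcardA, ← Nat.card_eq_fintype_card (α := P →* ℂˣ),
      CommGroup.card_monoidHom_of_hasEnoughRootsOfUnity, mul_comm] at h
    rw [← he] at hm
    exact Nat.eq_of_mul_eq_mul_left (hcardA ▸ Nat.card_pos) (by omega)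
  -- every row is nonzero
  have hrow : ∀ η ∈ Finset.univ.filter (· ∈ B), ∃ j, N η (rep j).1 ≠ 0 := fun η hη => by
    by_contra hno
    push Not at hno
    obtain ⟨y, hy⟩ := exists_ne (1 : P)
    have h := hval η (Finset.mem_filter.1 hη).2 y hy
    rw [Finset.sum_eq_zero fun l hl => by
      rw [hconst η ⟨l, Finset.ne_of_mem_erase hl⟩, hno, Int.cast_zero, zero_mul]] at h
    rcases mul_eq_zero.1 h with h | h
    · have := (s.sgnW_sq (Subgroup.zpowers_le.2 y.2) (s.zpowers_ne fun e => hy (Subtype.ext e))).1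
      rw [h, mul_zero] at this
      exact zero_ne_one this
    · exact s.ga_ne y.2 (fun e => hy (Subtype.ext e)) (Finset.mem_filter.1 hη).2 h
  obtain ⟨l₀, hl₀⟩ : ∃ l : P →* ℂˣ, l ≠ 1 := by
    haveI : Nontrivial (P →* ℂˣ) := by
      rw [← Finite.one_lt_card_iff_nontrivial, CommGroup.card_monoidHom_of_hasEnoughRootsOfUnity]
      exact Finite.one_lt_card
    exact exists_ne 1
  have hcards : (Finset.univ.filter (· ∈ B)).card = e + Fintype.card (Quotient st) := by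
    rw [← Fintype.card_subtype, ← Nat.card_eq_fintype_card, hcardB, hcardJ, add_comm]
  obtain ⟨X, ψ, hXs, hXc, hXv, hinj, hψ, hcov, hψ1, hψ0⟩ :=
    shape_of_gram (Finset.univ.filter (· ∈ B)) (fun η j => N η (rep j).1)
      ⟨Quotient.mk st ⟨l₀, hl₀⟩⟩ hrow (fun i j => by
        rw [hgram _ _ (rep i).2 (rep j).2, ← he]
        congr 1
        by_cases h : i = j
        · rw [if_pos h, if_pos (by rw [h]; exact orbRel_refl A _)]
        · rw [if_neg h, if_neg fun h' => h (by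
            rw [← Quotient.out_eq i, ← Quotient.out_eq j]
            exact Quotient.sound h')]) hcards
  let δ : IrrCharacter G → ℤ := fun η => N η (rep (Quotient.mk st ⟨l₀, hl₀⟩)).1
  have hδ : ∀ η ∈ X, (δ η = 1 ∨ δ η = -1) ∧ ∀ j, N η (rep j).1 = δ η := fun η hη => by
    obtain ⟨d, hd, hv⟩ := hXv η hη
    exact ⟨by simp only [δ]; rw [hv]; exact hd, fun j => by simp only [δ]; rw [hv, hv]⟩
  have hB : ∀ {η}, η ∈ Finset.univ.filter (· ∈ B) → η ∈ B := fun h => (Finset.mem_filter.1 h).2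
  -- the relation on the regular elements
  have hrel : ∀ j (g : G), ¬ p ∣ orderOf g →
      (N (ψ j) (rep j).1 : ℂ) * (ψ j : G → ℂ) g + ∑ χ ∈ X, (δ χ : ℂ) * (χ : G → ℂ) g = 0 := by
    intro j g hg
    rw [← hreg (rep j).1 g hg, ← Finset.sum_sdiff hXs]
    congr 1
    · rw [Finset.sum_eq_single (ψ j) (fun η hη hne => ?_) (fun h => absurd
        (Finset.mem_sdiff.2 ⟨(hψ j).1, (hψ j).2⟩) h)]
      obtain ⟨h1, h2⟩ := Finset.mem_sdiff.1 hη
      obtain h | ⟨i, rfl⟩ := hcov η h1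
      · exact absurd h h2
      · rw [hψ0 j i fun e => hne (by rw [e]), Int.cast_zero, zero_mul]
    · exact Finset.sum_congr rfl fun η hη => by rw [(hδ η hη).2 j]
  have hσ : ∀ i j, N (ψ i) (rep i).1 = N (ψ j) (rep j).1 := by
    intro i j
    have h1 : ¬ p ∣ orderOf (1 : G) := by rw [orderOf_one]; exact (Fact.out : p.Prime).not_dvd_one
    have hij := (hrel i 1 h1).trans (hrel j 1 h1).symm
    rw [add_left_inj, IsCharacter.apply_one_eq_deg (isCharacter_of_irr (ψ i).2),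
      IsCharacter.apply_one_eq_deg (isCharacter_of_irr (ψ j).2)] at hij
    have hij' : N (ψ i) (rep i).1 * (deg (ψ i : G → ℂ) : ℤ) =
        N (ψ j) (rep j).1 * (deg (ψ j : G → ℂ) : ℤ) := by exact_mod_cast hij
    have hdi := deg_irr_pos (ψ i)
    have hdj := deg_irr_pos (ψ j)
    rcases hψ1 i with h | h <;> rcases hψ1 j with h' | h' <;> rw [h, h'] at hij' ⊢ <;> omega
  let Ψ : (P →* ℂˣ) → IrrCharacter G := fun l =>
    if h : l = 1 then χ₀ else ψ (Quotient.mk st ⟨l, h⟩)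
  have hΨ : ∀ l (h : l ≠ 1), Ψ l = ψ (Quotient.mk st ⟨l, h⟩) := fun l h => dif_neg h
  let δ₀ : ℤ := N (ψ (Quotient.mk st ⟨l₀, hl₀⟩)) (rep (Quotient.mk st ⟨l₀, hl₀⟩)).1
  refine ⟨⟨X, Ψ, δ, δ₀, hXc, fun χ hχ => hB (hXs hχ), fun l hl => ?_, fun η hη => ?_,
    fun l k hl hk => ?_, fun χ hχ => (hδ χ hχ).1, hψ1 _, fun l hl g hg => ?_,
    fun χ hχ y hy => ?_, fun l hl y hy => ?_⟩⟩
  · rw [hΨ l hl]
    exact ⟨hB (hψ _).1, (hψ _).2⟩
  · obtain h | ⟨j, rfl⟩ := hcov η (Finset.mem_filter.2 ⟨Finset.mem_univ _, hη⟩)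
    · exact Or.inl h
    · exact Or.inr ⟨(rep j).1, (rep j).2, by rw [hΨ _ (rep j).2]; simp [rep, Quotient.out_eq]⟩
  · rw [hΨ l hl, hΨ k hk]
    exact hinj.eq_iff.trans Quotient.eq
  · rw [hΨ l hl, show δ₀ = N (ψ _) (rep (Quotient.mk st ⟨l, hl⟩)).1 from hσ _ _]
    exact hrel _ g hg
  · rw [hval χ (hB (hXs hχ)) y hy, Finset.sum_congr rfl fun l hl => by
        rw [hconst χ ⟨l, Finset.ne_of_mem_erase hl⟩, (hδ χ hχ).2],
      ← Finset.mul_sum, Finset.sum_erase_eq_sub (Finset.mem_univ _), Homocyclic.sum_chars, if_neg hy]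
    simp
  · rw [hΨ l hl, show δ₀ = N (ψ _) (rep (Quotient.mk st ⟨l, hl⟩)).1 from hσ _ _,
      hval _ (hB (hψ _).1) y hy, Finset.mul_sum]
    symm
    refine Finset.sum_bij_ne_zero (fun (a : A) _ _ => trc (a : MulAut P) l)
      (fun a _ _ => Finset.mem_erase.2 ⟨trc_ne_one hl, Finset.mem_univ _⟩)
      (fun a _ _ b _ _ h => ?_) (fun k hk hne => ?_) fun a _ _ => ?_
    · refine Subtype.ext (mul_inv_eq_one.1 (hfreeA.dual (A.mul_mem a.2 (A.inv_mem b.2)) hl ?_))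
      rw [← trc_trc, h, trc_trc, mul_inv_cancel, trc_one]
    · have hk1 := Finset.ne_of_mem_erase hk
      have hq : Quotient.mk st ⟨k, hk1⟩ = Quotient.mk st ⟨l, hl⟩ := by
        by_contra hq
        refine hne ?_
        rw [hconst _ ⟨k, hk1⟩, hψ0 _ _ hq, Int.cast_zero, zero_mul]
      obtain ⟨a, ha, hka⟩ : OrbRel A l k := (Quotient.exact hq.symm : st.r ⟨l, hl⟩ ⟨k, hk1⟩)
      refine ⟨⟨a, ha⟩, by simp, ?_, hka.symm⟩
      exact mul_ne_zero (Int.cast_ne_zero.2 fun h => by rcases hψ1 (Quotient.mk st ⟨l, hl⟩) with e | e <;>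
        omega) (Units.ne_zero _)
    · rw [hNinv _ _ a.2, hconst _ ⟨l, hl⟩]
      rfl

end Cfsg.Lib.Blocks.CyclicDefect
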