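import Mathlib
import Cfsg.Agent.Blocks.CyclicDefect.Structure
import Cfsg.Agent.Blocks.KleinColumns

/-!
# The singular elements: inner products, vanishing, congruences of degrees
-/

set_option autoImplicit false
set_option linter.unusedSectionVars false
set_option linter.style.haveILetI false

namespace Cfsg.Lib.Blocks.CyclicDefect

open Cfsg.Lib.Chars Cfsg.Lib.Blocks.Frobenius Cfsg.Lib.Blocks.IBr Cfsg.Lib.Blocks.Star
open scoped ComplexConjugate Classical

universe u

local notation "C⟨" Q "⟩" => Subgroup.centralizer (SetLike.coe Q)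

variable {G : Type u} [Group G] [Fintype G] {M : Ideal AlgInt} {p : ℕ} [Fact p.Prime]
  {B : Set (IrrCharacter G)} {P T : Subgroup G} {c : Set (IrrCharacter C⟨P⟩)}

lemma pow_dvd_of_div_mem_place (hM : IsPModular p M) (n : ℕ) :
    ∀ z : ℤ, (z : ℂ) / (p : ℂ) ^ n ∈ place M → (p : ℤ) ^ n ∣ z := by
  induction n with
  | zero => exact fun z _ => by simp
  | succ n ih =>
    intro z hz
    have hp0 : (p : ℂ) ≠ 0 := Nat.cast_ne_zero.2 hM.1.ne_zero
    have hsmall : Small M (z : ℂ) := by
      have h := (small_prime hM).mul_mem (mul_mem hz (pow_mem (natCast_mem_place (M := M) p) n))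
      rwa [show (p : ℂ) * ((z : ℂ) / (p : ℂ) ^ (n + 1) * (p : ℂ) ^ n) = (z : ℂ) by
        rw [pow_succ]; field_simp] at h
    obtain ⟨w, rfl⟩ := (small_intCast_iff hM z).1 hsmall
    rw [pow_succ']
    refine mul_dvd_mul_left _ (ih w ?_)
    convert hz using 1
    push_cast
    rw [pow_succ']
    field_simp

variable (s : FreePair p M B P T c)
include s

/-- **The inner product on the singular elements.** -/
theorem singular_inner {η χ : IrrCharacter G} (hη : η ∈ B) (hχ : χ ∈ B) :
    classInner (fun g : G => if p ∣ orderOf g then (η : G → ℂ) g else 0)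
      (fun g : G => if p ∣ orderOf g then (χ : G → ℂ) g else 0) =
      (∑ y ∈ Finset.univ.filter (fun y : P => y ≠ 1),
        ga M (y : G) (fw M P c (Subgroup.zpowers (y : G))) η *
          conj (ga M (y : G) (fw M P c (Subgroup.zpowers (y : G))) χ)) /
        ((C⟨P⟩.relIndex T : ℂ) * Nat.card P) := by
  set ι : G → ℂ := fun g => if g = 1 then 0 else 1 with hι
  have hst : Stable p M P c ι := s.stable_of_inv fun t _ y _ => by simp [hι, conj_eq_one_iff]
  have hstar : ∀ θ : IrrCharacter G, θ ∈ B → starFn p M P c ι θ =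
      fun g : G => if p ∣ orderOf g then (θ : G → ℂ) g else 0 := fun θ hθ => by
    funext g
    by_cases hg : p ∣ orderOf g
    · rw [if_pos hg]
      conv_rhs => rw [← s.toAbPair.setting.star_one hθ]
      obtain ⟨x, hx⟩ := exists_isPPart' (Fact.out : p.Prime) g
      have hx1 : x ≠ 1 := by
        rintro rfl
        obtain ⟨y, hy, hc, hk, hny⟩ := id hx
        rw [one_mul] at hy
        exact hny (hy ▸ hg)
      rw [starFn_eq hx, starFn_eq hx]
      refine Finset.sum_congr rfl fun F _ => ?_
      congr 1
      unfold weight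
      split_ifs with h
      · rw [hι]
        simp only [conj_eq_one_iff, if_neg hx1]
      · rfl
    · rw [if_neg hg, starFn_regular s.modular s.toAbPair.setting.maximal hst hθ hg]
      simp [hι]
  rw [← hstar η hη, ← hstar χ hχ, s.inner_star hst hst hη, Finset.sum_div, AbelianStar.mat,
    ← Finset.sum_filter_add_sum_filter_not Finset.univ (fun y : P => y ≠ 1),
    Finset.sum_eq_zero (s := Finset.univ.filter fun y : P => ¬ y ≠ 1) fun y hy => by
      have : y = 1 := not_not.1 (Finset.mem_filter.1 hy).2
      simp [this, hι], add_zero]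
  refine Finset.sum_congr rfl fun y hy => ?_
  have hy1 : (y : G) ≠ 1 := fun h => (Finset.mem_filter.1 hy).2 (Subtype.ext h)
  rw [s.wt_eq y.2 hy1, s.kk_eq y.2 hy1]
  simp only [hι, if_neg hy1, map_one, mul_one, one_mul]
  field_simp

/-- A combination without contributions vanishes on the singular elements. -/
theorem vanish_singular (S : Finset (IrrCharacter G)) (hS : ∀ η ∈ S, η ∈ B)
    (a : IrrCharacter G → ℂ)
    (h : ∀ y : P, y ≠ 1 → ∑ η ∈ S, a η * ga M (y : G) (fw M P c (Subgroup.zpowers (y : G))) η = 0)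
    {g : G} (hg : p ∣ orderOf g) : ∑ η ∈ S, a η * (η : G → ℂ) g = 0 := by
  set f : G → ℂ := ∑ η ∈ S, a η • (fun g : G => if p ∣ orderOf g then (η : G → ℂ) g else 0) with hf
  have h0 : classInner f f = 0 := by
    rw [hf, classInner_sum_left]
    simp only [classInner_sum_right, classInner_smul_left, classInner_smul_right]
    rw [Finset.sum_congr rfl fun η hη => Finset.sum_congr rfl fun χ hχ => by
      rw [singular_inner s (hS η hη) (hS χ hχ)]]
    simp only [Finset.sum_div, Finset.mul_sum]
    rw [Finset.sum_congr rfl fun η _ => Finset.sum_comm, Finset.sum_comm]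
    refine Finset.sum_eq_zero fun y hy => ?_
    have hy1 := (Finset.mem_filter.1 hy).2
    set d : ℂ := (C⟨P⟩.relIndex T : ℂ) * Nat.card P
    calc _ = (∑ η ∈ S, a η * ga M (y : G) (fw M P c (Subgroup.zpowers (y : G))) η) *
          conj (∑ η ∈ S, a η * ga M (y : G) (fw M P c (Subgroup.zpowers (y : G))) η) / d := by
            rw [map_sum, Finset.sum_mul_sum, Finset.sum_div]
            refine Finset.sum_congr rfl fun η _ => ?_
            rw [Finset.sum_div]
            refine Finset.sum_congr rfl fun χ _ => ?_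
            rw [map_mul]
            ring
      _ = 0 := by rw [h y hy1, zero_mul, zero_div]
  have hfz := congrFun ((classInner_self_eq_zero f).1 h0) g
  rw [hf, Finset.sum_apply] at hfz
  simpa [if_pos hg] using hfz

omit s in
/-- An integral combination vanishing on the singular elements has degree divisible by the
`p`-part of the order. -/
theorem pow_dvd_degree (hM : IsPModular p M) (S : Finset (IrrCharacter G)) (a : IrrCharacter G → ℤ)
    (h0 : ∀ g : G, p ∣ orderOf g → ∑ η ∈ S, (a η : ℂ) * (η : G → ℂ) g = 0) :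
    (p : ℤ) ^ (Nat.card G).factorization p ∣ ∑ η ∈ S, a η * (deg (η : G → ℂ) : ℤ) := by
  have h := div_mem_of_vanish hM S (fun η => (a η : ℂ)) (fun η _ => intCast_mem_place _) h0 1
  rw [show Subgroup.centralizer ({(1 : G)} : Set G) = ⊤ from Subgroup.ext fun x => by
    simp [Subgroup.mem_centralizer_singleton_iff], Subgroup.card_top] at h
  have hsum : (∑ η ∈ S, (a η : ℂ) * (η : G → ℂ) 1) = ((∑ η ∈ S, a η * (deg (η : G → ℂ) : ℤ) : ℤ) : ℂ) := by
    push_cast
    exact Finset.sum_congr rfl fun η _ => by rw [IsCharacter.apply_one_eq_deg (isCharacter_of_irr η.2)]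
  rw [hsum] at h
  refine pow_dvd_of_div_mem_place hM _ _ ?_
  have h' := mul_mem h (natCast_mem_place (M := M)
    (Nat.card G / p ^ (Nat.card G).factorization p))
  convert h' using 1
  have hne : ((Nat.card G / p ^ (Nat.card G).factorization p : ℕ) : ℂ) ≠ 0 :=
    Nat.cast_ne_zero.2 (Nat.ordCompl_pos p Nat.card_pos.ne').ne'
  have hcard : (Nat.card G : ℂ) = (p : ℂ) ^ (Nat.card G).factorization p *
      ((Nat.card G / p ^ (Nat.card G).factorization p : ℕ) : ℂ) := by
    exact_mod_cast (Nat.ordProj_mul_ordCompl_eq_self (Nat.card G) p).symm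
  have hp0 : (p : ℂ) ≠ 0 := Nat.cast_ne_zero.2 (Fact.out : p.Prime).ne_zero
  rw [hcard]
  field_simp

end Cfsg.Lib.Blocks.CyclicDefect
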