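import Mathlib
import Cfsg.Agent.Blocks.CyclicDefect.Singular
import Cfsg.Agent.Blocks.MajorHeightBound

/-!
# Values at singular elements through the sections below a cyclic defect group
-/

set_option autoImplicit false
set_option linter.unusedSectionVars false
set_option linter.style.haveILetI false

namespace Cfsg.Lib.Blocks.CyclicDefect

open Cfsg.Lib.Chars Cfsg.Lib.Blocks.Frobenius Cfsg.Lib.Blocks.IBr Cfsg.Lib.Blocks.Star
open scoped ComplexConjugate Classical

universe u

local notation "C⟨" Q "⟩" => Subgroup.centralizer (SetLike.coe Q)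

section RankOne

variable {K : Type u} [Group K] [Fintype K] {M : Ideal AlgInt} {p : ℕ} [Fact p.Prime]
  {b : Set (IrrCharacter K)}

/-- The modular character of a block of regular rank one is divisible like a column. -/
theorem phi_mul_defect_div (hM : IsPModular p M) (hb : IsPBlock M b) (hl : blockRank p b = 1)
    {i : Ix M K} (hi : InBlk M b i) {y : K} (hy : ¬ p ∣ orderOf y) :
    phi p M i y * (p : ℂ) ^ blockDefect p b /
      (Nat.card (Subgroup.centralizer ({y} : Set K)) : ℂ) ∈ place M := by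
  obtain ⟨φ, d, ⟨n, hn⟩, hval, hsum⟩ := exists_of_blockRank_one hM hb hl
  rw [finsum_mem_eq_sum_of_inter_support_eq _ (t := Finset.univ.filter (· ∈ b)) (by simp)] at hsum
  have hφint : ∀ y : K, ¬ p ∣ orderOf y → φ y ∈ place M := fun y hy => by
    rw [hn y hy, finsum_mem_eq_sum_of_inter_support_eq _ (t := Finset.univ.filter (· ∈ b)) (by simp)]
    exact sum_mem fun ψ _ => mul_mem (intCast_mem_place _)
      (isIntegral_mem_place hM (IsCharacter.isIntegral (isCharacter_of_irr ψ.2) _))
  have hker : ∀ y w : K, ¬ p ∣ orderOf y → ¬ p ∣ orderOf w →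
      colKer b y w = (p : ℂ) ^ blockDefect p b * (φ y * conj (φ w)) := fun y w hy hw => by
    rw [colKer_eq, Finset.sum_congr rfl fun χ hχ => by
      rw [hval χ (Finset.mem_filter.1 hχ).2 y hy, hval χ (Finset.mem_filter.1 hχ).2 w hw, map_mul,
        Complex.conj_natCast, show (d χ : ℂ) * φ y * ((d χ : ℂ) * conj (φ w)) =
          ((d χ ^ 2 : ℕ) : ℂ) * (φ y * conj (φ w)) by push_cast; ring],
      ← Finset.sum_mul, ← Nat.cast_sum, hsum, Nat.cast_pow]
  -- a value that is a unit
  obtain ⟨θ, hθ, h0⟩ := exists_height_zero hM hb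
  obtain ⟨s, hs⟩ := exists_defectClass hM hb
  have hsreg : ¬ p ∣ orderOf s := fun h => by
    refine hs.2.1 ?_
    rw [blockCoeff_eq_zero_of_singular hM hb h]
    exact ⟨0, 1, Ideal.zero_mem M, fun h1 => hM.2.1.ne_top ((Ideal.eq_top_iff_one M).2 h1), by simp⟩
  have hθs : IsUnitAt M ((θ : K → ℂ) s) := by
    have hcc : IsUnitAt M (centralChar (θ : K → ℂ) s) := isUnitAt_iff.2
      ⟨centralChar_mem_place hM θ s, fun h => hs.2.2 θ hθ
        ((memLocalIdeal_iff_small hM (isAlgebraic_of_isIntegral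
          (isIntegral_centralChar_irrChar θ s))).2 h)⟩
    have hv := deg_factorization_eq hM hb hs hθ
    rw [h0, zero_add] at hv
    have h1 : (deg (θ : K → ℂ) : ℂ) * centralChar (θ : K → ℂ) s =
        ((Subgroup.centralizer ({s} : Set K)).index : ℂ) * (θ : K → ℂ) s := by
      rw [centralChar, irr_apply_one_eq_deg θ, mul_div_cancel₀ _
        (Nat.cast_ne_zero.2 (deg_irr_pos θ).ne')]
    have h2 := congrArg (place M).valuation h1
    rw [map_mul, map_mul, hcc, mul_one, valuation_natCast hM (deg_irr_pos θ).ne',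
      valuation_natCast hM Subgroup.index_ne_zero_of_finite, hv] at h2
    exact mul_left_cancel₀ (pow_pos (valuation_prime_pos hM) _).ne'
      (h2.symm.trans (mul_one _).symm)
  have hφs : IsUnitAt M (φ s) := by
    refine isUnitAt_iff.2 ⟨hφint s hsreg, fun h => (isUnitAt_iff.1 hθs).2 ?_⟩
    rw [hval θ hθ s hsreg, small_iff, map_mul]
    exact lt_of_le_of_lt (mul_le_of_le_one_left zero_le
      ((ValuationSubring.valuation_le_one_iff _ _).2 (natCast_mem_place _))) (small_iff.1 h)
  have hsinv : ¬ p ∣ orderOf s⁻¹ := by rwa [orderOf_inv]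
  have hconj : conj (φ s⁻¹) = φ s := by
    rw [hn s⁻¹ hsinv, hn s hsreg,
      finsum_mem_eq_sum_of_inter_support_eq _ (t := Finset.univ.filter (· ∈ b)) (by simp),
      finsum_mem_eq_sum_of_inter_support_eq _ (t := Finset.univ.filter (· ∈ b)) (by simp), map_sum]
    exact Finset.sum_congr rfl fun ψ _ => by
      rw [map_mul, map_intCast, IsCharacter.conj_inv (isCharacter_of_irr ψ.2), Complex.conj_conj]
  have hφdiv : φ y * (p : ℂ) ^ blockDefect p b /
      (Nat.card (Subgroup.centralizer ({y} : Set K)) : ℂ) ∈ place M := by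
    have h := colKer_div_mem hM hb y s⁻¹
    rw [hker y s⁻¹ hy hsinv, hconj] at h
    have h' := mul_mem hφs.inv.mem_place h
    rwa [show (φ s)⁻¹ * ((p : ℂ) ^ blockDefect p b * (φ y * φ s) /
      (Nat.card (Subgroup.centralizer ({y} : Set K)) : ℂ)) = φ y * (p : ℂ) ^ blockDefect p b /
        (Nat.card (Subgroup.centralizer ({y} : Set K)) : ℂ) by field_simp [hφs.ne_zero]] at h'
  obtain ⟨a, ha⟩ := exists_int_phi hM i
  rw [phi_eq_sum_block hM hb hi ha hy, Finset.sum_congr rfl fun χ hχ => by
    rw [hval χ (Finset.mem_filter.1 hχ).2 y hy, ← mul_assoc], ← Finset.sum_mul, mul_assoc, mul_div_assoc]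
  exact mul_mem (sum_mem fun χ _ => mul_mem (intCast_mem_place _) (natCast_mem_place _)) hφdiv

end RankOne

variable {G : Type u} [Group G] [Fintype G] {M : Ideal AlgInt} {p : ℕ} [Fact p.Prime]

/-- **Block parts along a section of rank one.** -/
theorem blockPart_eq_ga (hM : IsPModular p M) {y : G}
    {b : Set (IrrCharacter C⟨Subgroup.zpowers y⟩)} (hb : IsPBlock M b) (hl : blockRank p b = 1) :
    ∃ i : Ix M C⟨Subgroup.zpowers y⟩, InBlk M b i ∧
      ∀ (χ : IrrCharacter G) (w : C⟨Subgroup.zpowers y⟩), ¬ p ∣ orderOf w →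
        blockPart b (secFn y (χ : G → ℂ)) w = ga M y b χ * phi p M i w := by
  obtain ⟨i, hi, hs⟩ := exists_single hM hb hl
  refine ⟨i, hi, fun χ w hw => ?_⟩
  have hga : ga M y b χ = gdec M χ y i := by
    rw [ga, hs, Finset.sum_singleton, gdec, upC_eq_emb]
  choose a ha using fun j : Ix M C⟨Subgroup.zpowers y⟩ => exists_int_phi hM j
  rw [Star.blockPart_congr_regular hM hb
    (θ' := fun c => ∑ ψ : IrrCharacter C⟨Subgroup.zpowers y⟩,
      (∑ j, gdec M χ y j * (a j ψ : ℂ)) * (ψ : C⟨Subgroup.zpowers y⟩ → ℂ) c) (fun c hc => by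
        rw [secFn, apply_eq_sum_gdec hM χ y hc]
        simp only [Finset.sum_mul]
        rw [Finset.sum_comm]
        refine Finset.sum_congr rfl fun j _ => ?_
        rw [ha j c hc, Finset.mul_sum]
        exact Finset.sum_congr rfl fun ψ _ => by ring) hw,
    blockPart_irrSum]
  simp only [Finset.sum_mul]
  rw [Finset.sum_comm]
  have hterm : ∀ j, ∑ ψ ∈ Finset.univ.filter (· ∈ b),
      gdec M χ y j * (a j ψ : ℂ) * (ψ : C⟨Subgroup.zpowers y⟩ → ℂ) w =
      if j = i then gdec M χ y i * phi p M i w else 0 := fun j => by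
    rw [Finset.sum_congr rfl fun ψ _ => mul_assoc _ _ _, ← Finset.mul_sum,
      phi_part hM hb j (ha j) hw]
    by_cases hj : InBlk M b j
    · obtain rfl : j = i := Finset.mem_singleton.1 (hs ▸ Finset.mem_filter.2 ⟨Finset.mem_univ j, hj⟩)
      rw [if_pos hj, if_pos rfl]
    · have hne : j ≠ i := fun e => hj (e ▸ hi)
      rw [if_neg hj, if_neg hne, mul_zero]
  rw [Finset.sum_congr rfl fun j _ => hterm j, Finset.sum_ite_eq', if_pos (Finset.mem_univ i), hga]

/-- The centralizer of an element read inside the centralizer of its `p`-part. -/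
lemma card_centralizer_section {x : G} (hx : IsPElem p x) (y : C⟨Subgroup.zpowers x⟩)
    (hy : ¬ p ∣ orderOf y) :
    Nat.card (Subgroup.centralizer ({y} : Set C⟨Subgroup.zpowers x⟩)) =
      Nat.card (Subgroup.centralizer ({x * (y : G)} : Set G)) := by
  have hp : p.Prime := Fact.out
  have hcomm : ∀ w ∈ C⟨Subgroup.zpowers x⟩, Commute x w := fun w hw => commute_of_mem_centralizer (H := C⟨Subgroup.zpowers x⟩) rfl hw
  have hpp : IsPPart p (x * (y : G)) x :=
    isPPart_mul (hcomm y y.2) hx (by rw [Subgroup.orderOf_coe]; exact hy)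
  have hin : ∀ g ∈ Subgroup.centralizer ({x * (y : G)} : Set G),
      g ∈ C⟨Subgroup.zpowers x⟩ ∧ Commute g (y : G) := by
    intro g hg
    rw [Subgroup.mem_centralizer_singleton_iff] at hg
    have hconj : IsPPart p (x * (y : G)) (g * x * g⁻¹) := by
      refine ⟨g * (y : G) * g⁻¹, ?_, ?_, ?_, ?_⟩
      · calc g * x * g⁻¹ * (g * (y : G) * g⁻¹) = g * (x * (y : G)) * g⁻¹ := by group
          _ = x * (y : G) := by rw [hg, mul_inv_cancel_right]
      · calc g * x * g⁻¹ * (g * (y : G) * g⁻¹) = g * (x * (y : G)) * g⁻¹ := by group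
          _ = g * ((y : G) * x) * g⁻¹ := by rw [(hcomm y y.2).eq]
          _ = g * (y : G) * g⁻¹ * (g * x * g⁻¹) := by group
      · rw [show g * x * g⁻¹ = MulAut.conj g x from rfl, MulEquiv.orderOf_eq]; exact hx
      · rw [show g * (y : G) * g⁻¹ = MulAut.conj g (y : G) from rfl, MulEquiv.orderOf_eq,
          Subgroup.orderOf_coe]; exact hy
    have hgx : g * x = x * g := mul_inv_eq_iff_eq_mul.1 (IsPPart.eq hp hconj hpp)
    refine ⟨by rw [centralizer_zpowers, Subgroup.mem_centralizer_singleton_iff]; exact hgx, ?_⟩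
    show g * (y : G) = (y : G) * g
    refine mul_left_cancel (a := x) ?_
    rw [← mul_assoc, ← hgx, mul_assoc, hg, mul_assoc]
  refine Nat.card_congr
    { toFun := fun g => ⟨g.1.1, Subgroup.mem_centralizer_singleton_iff.2 ?_⟩
      invFun := fun g => ⟨⟨g.1, (hin g.1 g.2).1⟩,
        Subgroup.mem_centralizer_singleton_iff.2 (Subtype.ext (hin g.1 g.2).2.eq)⟩
      left_inv := fun _ => rfl
      right_inv := fun _ => rfl }
  have h1 : (g.1 : G) * (y : G) = (y : G) * (g.1 : G) :=
    congrArg Subtype.val (Subgroup.mem_centralizer_singleton_iff.1 g.2)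
  rw [← mul_assoc, ← (hcomm g.1 g.1.2).eq, mul_assoc, h1, mul_assoc]

variable {B : Set (IrrCharacter G)} {P T : Subgroup G} {c : Set (IrrCharacter C⟨P⟩)}
  (s : FreePair p M B P T c)
include s

/-- **Singular values.** The value of the members of the block at a singular element is an
integral combination of contributions, with coefficients divisible like a column. -/
theorem singular_expansion {g : G} (hg : p ∣ orderOf g) :
    ∃ (k : ℕ) (y : Fin k → P) (t : Fin k → ℂ),
      (∀ i, y i ≠ 1 ∧ t i ∈ place M ∧ t i * (Nat.card P : ℂ) /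
        (Nat.card (Subgroup.centralizer ({g} : Set G)) : ℂ) ∈ place M) ∧
      ∀ χ ∈ B, (χ : G → ℂ) g = ∑ i, t i * (sgnW p M P T c (Subgroup.zpowers (y i : G)) *
        ga M (y i : G) (fw M P c (Subgroup.zpowers (y i : G))) χ) := by
  have hM := s.modular
  have hab := s.comm
  obtain ⟨x, hx⟩ := exists_isPPart' (Fact.out : p.Prime) g
  obtain ⟨w, rfl, hxw, hxo, hw⟩ := id hx
  have hx1 : x ≠ 1 := by
    rintro rfl
    rw [one_mul] at hg
    exact hw hg
  have hwH : w ∈ C⟨Subgroup.zpowers x⟩ := by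
    rw [centralizer_zpowers, Subgroup.mem_centralizer_singleton_iff]; exact hxw.symm.eq
  have hw' : ¬ p ∣ orderOf (⟨w, hwH⟩ : C⟨Subgroup.zpowers x⟩) := by rwa [Subgroup.orderOf_mk]
  set S := (blocksFinset M C⟨Subgroup.zpowers x⟩).filter
    (fun b => IsInducedBlock M C⟨Subgroup.zpowers x⟩ b B) with hS
  have hex : ∀ b : S, ∃ (y : P) (t : ℂ), (y ≠ 1 ∧ t ∈ place M ∧ t * (Nat.card P : ℂ) /
      (Nat.card (Subgroup.centralizer ({x * w} : Set G)) : ℂ) ∈ place M) ∧
      ∀ χ : IrrCharacter G, blockPart (b : Set _) (secFn x (χ : G → ℂ)) ⟨w, hwH⟩ =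
        t * (sgnW p M P T c (Subgroup.zpowers (y : G)) *
          ga M (y : G) (fw M P c (Subgroup.zpowers (y : G))) χ) := by
    rintro ⟨b, hb⟩
    have hb' := (Finset.mem_filter.1 hb).2
    have hpair : IsBrauerPairOf p M B (Subgroup.zpowers x) b :=
      (isBrauerPairOf_iff hM B _ b).2 ⟨isPGroup_zpowers (Fact.out : p.Prime) hxo, hb'⟩
    obtain ⟨a, y, fy, hy, hfy, rfl, hgf⟩ := exists_below_conj hM s.defect s.pair hab hpair
    have hy1 : y ≠ 1 := fun h => hx1 (by rw [h, mul_one, mul_inv_cancel])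
    obtain rfl : fy = fw M P c (Subgroup.zpowers y) :=
      hfy.unique hM s.pair.1 hab hy (s.toAbPair.setting.below y hy)
    obtain ⟨hfb, hl⟩ := s.rank_at hy hy1
    obtain ⟨i, hi, hpart⟩ := blockPart_eq_ga hM hfb hl
    have hcs := isConjSub_zpowers a y
    have hbeq : b = irrEquiv (conjSubEquiv hcs) '' fw M P c (Subgroup.zpowers y) := by
      rw [← conjSet_eq_image hcs]
      refine bi_injective hM hb'.1 (IsPBlock.conjSet hcs hfb) ?_
      rw [bi_conjSet hcs]
      exact hgf.symm
    set E := conjSubEquiv hcs with hE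
    set w' : C⟨Subgroup.zpowers y⟩ := E ⟨w, hwH⟩ with hw'def
    have hw'' : ¬ p ∣ orderOf w' := by
      rw [hw'def, show orderOf (E ⟨w, hwH⟩) = _ from orderOf_injective E.toMonoidHom E.injective _]
      exact hw'
    obtain ⟨hsq, -⟩ := s.sgnW_sq (Subgroup.zpowers_le.2 hy) (s.zpowers_ne hy1)
    set σ := sgnW p M P T c (Subgroup.zpowers y)
    have hσ : σ ∈ place M := by
      rcases mul_self_eq_one_iff.1 hsq with h | h <;> rw [h]
      exacts [one_mem _, neg_mem (one_mem _)]
    refine ⟨⟨y, hy⟩, σ * phi p M i w', ⟨fun h => hy1 (congrArg Subtype.val h),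
      mul_mem hσ (phi_mem_place i w'), ?_⟩, fun χ => ?_⟩
    · have hdef : (p : ℂ) ^ blockDefect p (fw M P c (Subgroup.zpowers y)) = (Nat.card P : ℂ) := by
        have h := (s.toAbPair.setting.section_data (fQ := fw M P c) hy).2
        rw [s.toAbPair.card_pow, Nat.cast_pow, ← h]
        rfl
      have h := mul_mem hσ (phi_mul_defect_div hM hfb hl hi hw'')
      rw [hdef, card_centralizer_section (Star.isPElem_of_mem s.pair.1.1 hy) w' hw''] at h
      have hcard : Nat.card (Subgroup.centralizer ({a * y * a⁻¹ * w} : Set G)) =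
          Nat.card (Subgroup.centralizer ({y * (w' : G)} : Set G)) := by
        rw [← card_map_conj (Subgroup.centralizer ({y * (w' : G)} : Set G)) a]
        refine congrArg (fun K : Subgroup G => Nat.card K) ?_
        ext z
        rw [Subgroup.mem_map_equiv, Subgroup.mem_centralizer_singleton_iff,
          Subgroup.mem_centralizer_singleton_iff, MulAut.conj_symm_apply]
        have : y * (w' : G) = a⁻¹ * (a * y * a⁻¹ * w) * a := by
          show y * (a⁻¹ * w * a) = _
          group
        rw [this]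
        constructor
        · intro e
          calc a⁻¹ * z * a * (a⁻¹ * (a * y * a⁻¹ * w) * a) = a⁻¹ * (z * (a * y * a⁻¹ * w)) * a := by
                group
            _ = a⁻¹ * (a * y * a⁻¹ * w * z) * a := by rw [e]
            _ = _ := by group
        · intro e
          calc z * (a * y * a⁻¹ * w) = a * (a⁻¹ * z * a * (a⁻¹ * (a * y * a⁻¹ * w) * a)) * a⁻¹ := by
                group
            _ = a * (a⁻¹ * (a * y * a⁻¹ * w) * a * (a⁻¹ * z * a)) * a⁻¹ := by rw [e]
            _ = _ := by group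
      rw [hcard]
      convert h using 1
      ring
    · have hsec : secFn (a * y * a⁻¹) (χ : G → ℂ) = fun v => secFn y (χ : G → ℂ) (E v) := by
        funext v
        show (χ : G → ℂ) (a * y * a⁻¹ * (v : G)) = (χ : G → ℂ) (y * (a⁻¹ * (v : G) * a))
        rw [← isClassFunction_irr χ (y * (a⁻¹ * (v : G) * a)) a]
        congr 1
        group
      show blockPart b _ _ = _
      rw [hbeq, hsec, blockPart_irrEquiv, hpart χ _ hw'']
      linear_combination (-(phi p M i w') * ga M y (fw M P c (Subgroup.zpowers y)) χ) * hsq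
  choose y t hyt using hex
  refine ⟨Fintype.card S, fun i => y ((Fintype.equivFin S).symm i),
    fun i => t ((Fintype.equivFin S).symm i), fun i => (hyt _).1, fun χ hχ => ?_⟩
  have h := apply_mul_eq_sum_blockPart hM hxo rfl s.pair.2.1 hχ
    (y := (⟨w, hwH⟩ : C⟨Subgroup.zpowers x⟩)) hw'
  rw [← hS] at h
  rw [h, ← Finset.sum_coe_sort S]
  refine (Fintype.sum_equiv (Fintype.equivFin S).symm _ _ fun i => ?_).symm
  exact ((hyt _).2 χ).symm

end Cfsg.Lib.Blocks.CyclicDefect
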