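import Mathlib
import Cfsg.Agent.Blocks.CyclicDefect.Structure
import Cfsg.Agent.Blocks.KleinColumns

/-!
# Perfect isometries between blocks with the same exceptional pattern
-/

set_option autoImplicit false
set_option linter.unusedSectionVars false
set_option linter.style.haveILetI false

namespace Cfsg.Lib.Blocks.CyclicDefect

open Cfsg Cfsg.Lib.Chars Cfsg.Lib.Blocks
open scoped ComplexConjugate Classical

universe u v w

/-- The exceptional value. -/
noncomputable def orbVal {Q : Type w} [Group Q] [Fintype Q] (A : Subgroup (MulAut Q))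
    (l : Q →* ℂˣ) (y : Q) : ℂ :=
  ∑ a : A, ((l ((a : MulAut Q) y) : ℂˣ) : ℂ)

/-- A set of irreducible characters with the pattern of a block with cyclic defect group `Q` and
inertial automorphisms `A`. -/
structure Side (M : Ideal AlgInt) (p : ℕ) (Q : Type w) [Group Q] [Fintype Q]
    (A : Subgroup (MulAut Q)) {G : Type u} [Group G] [Fintype G]
    (B : Set (IrrCharacter G)) where
  X : Finset (IrrCharacter G)
  Ψ : (Q →* ℂˣ) → IrrCharacter G
  δ : IrrCharacter G → ℤ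
  δ₀ : ℤ
  card_X : X.card = Nat.card A
  mem_X : ∀ χ ∈ X, χ ∈ B
  mem_Ψ : ∀ l, l ≠ 1 → Ψ l ∈ B ∧ Ψ l ∉ X
  cover : ∀ η ∈ B, η ∈ X ∨ ∃ l, l ≠ 1 ∧ Ψ l = η
  eq_iff : ∀ l k, l ≠ 1 → k ≠ 1 → (Ψ l = Ψ k ↔ OrbRel A l k)
  sign : ∀ χ ∈ X, δ χ = 1 ∨ δ χ = -1
  sign₀ : δ₀ = 1 ∨ δ₀ = -1
  regular : ∀ l, l ≠ 1 → ∀ g : G, ¬ p ∣ orderOf g →
    (δ₀ : ℂ) * (Ψ l : G → ℂ) g + ∑ χ ∈ X, (δ χ : ℂ) * (χ : G → ℂ) g = 0
  singular : ∀ g : G, p ∣ orderOf g → ∃ (k : ℕ) (y : Fin k → Q) (t : Fin k → ℂ),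
    (∀ i, y i ≠ 1 ∧ t i ∈ place M ∧ t i * (Nat.card Q : ℂ) /
      (Nat.card (Subgroup.centralizer ({g} : Set G)) : ℂ) ∈ place M) ∧
    (∀ χ ∈ X, (χ : G → ℂ) g = -(δ χ : ℂ) * ∑ i, t i) ∧
    ∀ l, l ≠ 1 → (Ψ l : G → ℂ) g = (δ₀ : ℂ) * ∑ i, t i * orbVal A l (y i)

variable {Q : Type w} [CommGroup Q] [Fintype Q] {A : Subgroup (MulAut Q)}
  [Fintype (Q →* ℂˣ)]

lemma sum_orbVal (A : Subgroup (MulAut Q)) {y : Q} (hy : y ≠ 1) :
    ∑ l ∈ Finset.univ.erase (1 : Q →* ℂˣ), orbVal A l y = -(Nat.card A : ℂ) := by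
  simp only [orbVal]
  rw [Finset.sum_comm, Finset.sum_congr rfl (g := fun _ => (-1 : ℂ)) fun a _ => ?_,
    Finset.sum_const, Finset.card_univ, nsmul_eq_mul, Nat.card_eq_fintype_card]
  · ring
  · rw [Finset.sum_erase_eq_sub (Finset.mem_univ _), Homocyclic.sum_chars,
      if_neg fun h => hy ((map_eq_one_iff _ (a : MulAut Q).injective).1 h)]
    simp

/-- The products of two exceptional values. -/
theorem exists_sum_orbVal_mul (u w : Q) :
    ∃ N : ℕ, ∑ l ∈ Finset.univ.erase (1 : Q →* ℂˣ), orbVal A l u * orbVal A l w =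
      (Nat.card A : ℂ) * ((Nat.card Q : ℂ) * N - Nat.card A) := by
  refine ⟨(Finset.univ.filter fun a : A => (a : MulAut Q) u * w = 1).card, ?_⟩
  simp only [orbVal, Finset.sum_mul, Finset.mul_sum]
  rw [Finset.sum_comm, Finset.sum_congr rfl fun a _ => Finset.sum_comm]
  have key : ∀ a b : A, ∑ l ∈ Finset.univ.erase (1 : Q →* ℂˣ),
      ((l ((a : MulAut Q) u) : ℂˣ) : ℂ) * ((l ((b : MulAut Q) w) : ℂˣ) : ℂ) =
      (if ((b⁻¹ * a : A) : MulAut Q) u * w = 1 then (Fintype.card Q : ℂ) else 0) - 1 := fun a b => by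
    rw [Finset.sum_congr rfl (g := fun l : Q →* ℂˣ =>
      ((l ((a : MulAut Q) u * (b : MulAut Q) w) : ℂˣ) : ℂ)) fun l _ => by rw [map_mul, Units.val_mul],
      Finset.sum_erase_eq_sub (Finset.mem_univ _), Homocyclic.sum_chars]
    simp only [MonoidHom.one_apply, Units.val_one]
    congr 1
    refine if_congr ?_ rfl rfl
    rw [show (a : MulAut Q) u * (b : MulAut Q) w =
      (b : MulAut Q) (((b⁻¹ * a : A) : MulAut Q) u * w) by simp [map_mul, MulAut.mul_apply],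
      map_eq_one_iff _ (b : MulAut Q).injective]
  have hinner : ∀ b : A, ∑ a : A, ((if ((b⁻¹ * a : A) : MulAut Q) u * w = 1 then
      (Fintype.card Q : ℂ) else 0) - 1) = (Fintype.card Q : ℂ) *
      (Finset.univ.filter fun a : A => (a : MulAut Q) u * w = 1).card - Nat.card A := fun b => by
    rw [Finset.sum_sub_distrib, Finset.sum_const, Finset.card_univ, nsmul_one,
      Nat.card_eq_fintype_card, Fintype.sum_equiv (Equiv.mulLeft b⁻¹)
        (fun a : A => if ((b⁻¹ * a : A) : MulAut Q) u * w = 1 then (Fintype.card Q : ℂ) else 0)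
        (fun a : A => if (a : MulAut Q) u * w = 1 then (Fintype.card Q : ℂ) else 0) (fun a => rfl),
      ← Finset.sum_filter, Finset.sum_const, nsmul_eq_mul]
    ring
  rw [Finset.sum_congr rfl fun b _ => Finset.sum_congr rfl fun a _ => key a b,
    Finset.sum_congr rfl fun b _ => hinner b, Finset.sum_const, Finset.card_univ, nsmul_eq_mul,
    Nat.card_eq_fintype_card, Nat.card_eq_fintype_card]

variable {M : Ideal AlgInt} {p : ℕ} {G : Type u} [Group G] [Fintype G] {H : Type v} [Group H]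
  [Fintype H] {B : Set (IrrCharacter G)} {C : Set (IrrCharacter H)}

/-- Sums over the characters through the orbits. -/
theorem Side.sum_split (S : Side M p Q A B) (hfree : FreeAut A) (F : IrrCharacter G → ℂ) :
    ∑ η ∈ Finset.univ.filter (· ∈ B), F η = ∑ η ∈ S.X, F η +
      (Nat.card A : ℂ)⁻¹ * ∑ l ∈ Finset.univ.erase (1 : Q →* ℂˣ), F (S.Ψ l) := by
  have hX : S.X ⊆ Finset.univ.filter (· ∈ B) := fun χ hχ =>
    Finset.mem_filter.2 ⟨Finset.mem_univ _, S.mem_X χ hχ⟩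
  rw [← Finset.sum_sdiff hX, add_comm]
  congr 1
  rw [← Finset.sum_fiberwise_of_maps_to (g := S.Ψ)
    (t := Finset.univ.filter (· ∈ B) \ S.X) (fun l hl => Finset.mem_sdiff.2
      ⟨Finset.mem_filter.2 ⟨Finset.mem_univ _, (S.mem_Ψ l (Finset.ne_of_mem_erase hl)).1⟩,
        (S.mem_Ψ l (Finset.ne_of_mem_erase hl)).2⟩), Finset.mul_sum]
  refine Finset.sum_congr rfl fun η hη => ?_
  obtain ⟨h1, h2⟩ := Finset.mem_sdiff.1 hη
  obtain h | ⟨l, hl, rfl⟩ := S.cover η (Finset.mem_filter.1 h1).2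
  · exact absurd h h2
  rw [Finset.sum_congr rfl (g := fun _ => F (S.Ψ l)) fun k hk => by rw [(Finset.mem_filter.1 hk).2],
    Finset.sum_const, nsmul_eq_mul]
  have hcard : ((Finset.univ.erase (1 : Q →* ℂˣ)).filter fun k => S.Ψ k = S.Ψ l) =
      Finset.univ.image fun a : A => trc (a : MulAut Q) l := by
    ext k
    simp only [Finset.mem_filter, Finset.mem_erase, Finset.mem_univ, and_true, Finset.mem_image,
      true_and]
    constructor
    · rintro ⟨hk, he⟩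
      obtain ⟨a, ha, rfl⟩ := (S.eq_iff l k hl hk).1 he.symm
      exact ⟨⟨a, ha⟩, rfl⟩
    · rintro ⟨a, rfl⟩
      exact ⟨trc_ne_one hl, ((S.eq_iff l _ hl (trc_ne_one hl)).2 ⟨a, a.2, rfl⟩).symm⟩
  rw [hcard, Finset.card_image_of_injective _ fun a b h => Subtype.ext (mul_inv_eq_one.1
    (hfree.dual (A.mul_mem a.2 (A.inv_mem b.2)) hl (by
      rw [← trc_trc, show trc (a : MulAut Q) l = trc (b : MulAut Q) l from h, trc_trc, mul_inv_cancel,
        trc_one]))), Finset.card_univ, ← Nat.card_eq_fintype_card, ← mul_assoc,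
    inv_mul_cancel₀ (Nat.cast_ne_zero.2 Nat.card_pos.ne'), one_mul]

/-- **The perfect isometry between two sides.** -/
theorem perfect_of_sides [Fact p.Prime] (hM : IsPModular p M) (hfree : FreeAut A)
    (SG : Side M p Q A B) (SH : Side M p Q A C) :
    ∃ (I : IrrCharacter H → IrrCharacter G) (ε : IrrCharacter H → ℤ),
      IsPerfectIsometry p M C B I ε ∧
      (∀ η ∈ SH.X, I η ∈ SG.X ∧ ε η = SH.δ η * SG.δ (I η)) ∧
      ∀ l, l ≠ 1 → I (SH.Ψ l) = SG.Ψ l ∧ ε (SH.Ψ l) = SH.δ₀ * SG.δ₀ := by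
  have hA0 : (Nat.card A : ℂ) ≠ 0 := Nat.cast_ne_zero.2 Nat.card_pos.ne'
  let σ : SH.X ≃ SG.X := Finset.equivOfCardEq (SH.card_X.trans SG.card_X.symm)
  let lab : IrrCharacter H → (Q →* ℂˣ) := fun η =>
    if h : ∃ l, l ≠ 1 ∧ SH.Ψ l = η then h.choose else 1
  let I : IrrCharacter H → IrrCharacter G := fun η =>
    if h : η ∈ SH.X then (σ ⟨η, h⟩ : IrrCharacter G) else SG.Ψ (lab η)
  let ε : IrrCharacter H → ℤ := fun η =>
    if η ∈ SH.X then SH.δ η * SG.δ (I η) else SH.δ₀ * SG.δ₀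
  have hIX : ∀ (η : IrrCharacter H) (h : η ∈ SH.X), I η = σ ⟨η, h⟩ := fun η h => dif_pos h
  have hIΨ : ∀ l, l ≠ 1 → I (SH.Ψ l) = SG.Ψ l := fun l hl => by
    have hex : ∃ k, k ≠ 1 ∧ SH.Ψ k = SH.Ψ l := ⟨l, hl, rfl⟩
    show (if h : SH.Ψ l ∈ SH.X then (σ ⟨SH.Ψ l, h⟩ : IrrCharacter G) else SG.Ψ (lab (SH.Ψ l))) = _
    rw [dif_neg (SH.mem_Ψ l hl).2, show lab (SH.Ψ l) = hex.choose from dif_pos hex]
    exact (SG.eq_iff _ _ hex.choose_spec.1 hl).2
      ((SH.eq_iff _ _ hex.choose_spec.1 hl).1 hex.choose_spec.2)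
  have hεX : ∀ η ∈ SH.X, ε η = SH.δ η * SG.δ (I η) := fun η h => if_pos h
  have hεΨ : ∀ l, l ≠ 1 → ε (SH.Ψ l) = SH.δ₀ * SG.δ₀ := fun l hl => if_neg (SH.mem_Ψ l hl).2
  have hbij : Set.BijOn I C B := by
    refine ⟨fun η hη => ?_, fun η hη η' hη' h => ?_, fun χ hχ => ?_⟩
    · obtain h | ⟨l, hl, rfl⟩ := SH.cover η hη
      · rw [hIX η h]; exact SG.mem_X _ (σ ⟨η, h⟩).2
      · rw [hIΨ l hl]; exact (SG.mem_Ψ l hl).1
    · obtain h1 | ⟨l, hl, rfl⟩ := SH.cover η hη <;> obtain h2 | ⟨k, hk, rfl⟩ := SH.cover η' hη'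
      · rw [hIX η h1, hIX η' h2] at h
        exact congrArg Subtype.val (σ.injective (Subtype.ext h))
      · rw [hIX η h1, hIΨ k hk] at h
        exact absurd (h ▸ (σ ⟨η, h1⟩).2) (SG.mem_Ψ k hk).2
      · rw [hIΨ l hl, hIX η' h2] at h
        exact absurd (h.symm ▸ (σ ⟨η', h2⟩).2) (SG.mem_Ψ l hl).2
      · rw [hIΨ l hl, hIΨ k hk] at h
        exact (SH.eq_iff l k hl hk).2 ((SG.eq_iff l k hl hk).1 h)
    · obtain h | ⟨l, hl, rfl⟩ := SG.cover χ hχ
      · refine ⟨σ.symm ⟨χ, h⟩, SH.mem_X _ (σ.symm ⟨χ, h⟩).2, ?_⟩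
        rw [hIX _ (σ.symm ⟨χ, h⟩).2, Subtype.coe_eta, Equiv.apply_symm_apply]
      · exact ⟨SH.Ψ l, (SH.mem_Ψ l hl).1, hIΨ l hl⟩
  have hε : ∀ η ∈ C, ε η = 1 ∨ ε η = -1 := fun η hη => by
    obtain h | ⟨l, hl, rfl⟩ := SH.cover η hη
    · rw [hεX η h]
      rcases SH.sign η h with a | a <;>
        rcases SG.sign (I η) (by rw [hIX η h]; exact (σ ⟨η, h⟩).2) with b | b <;> rw [a, b] <;> simp
    · rw [hεΨ l hl]
      rcases SH.sign₀ with a | a <;> rcases SG.sign₀ with b | b <;> rw [a, b] <;> simp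
  have hsumσ : ∀ F : IrrCharacter G → ℂ, ∑ η ∈ SH.X, F (I η) = ∑ χ ∈ SG.X, F χ := fun F => by
    rw [← Finset.sum_coe_sort SH.X, ← Finset.sum_coe_sort SG.X]
    exact Fintype.sum_equiv σ _ _ fun η => by rw [hIX η η.2]
  have hsq : ∀ d : ℤ, (d = 1 ∨ d = -1) → (d : ℂ) * (d : ℂ) = 1 := fun d hd => by
    rcases hd with rfl | rfl <;> norm_num
  set μ : G → H → ℂ := fun x y =>
    ∑ η ∈ Finset.univ.filter (· ∈ C), (ε η : ℂ) * (I η : G → ℂ) x * (η : H → ℂ) y with hμdef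
  have hker : ∀ x y, signedBijectionKernel C I ε x y = μ x y := fun x y =>
    finsum_mem_eq_sum_of_inter_support_eq _ (t := Finset.univ.filter (· ∈ C)) (by simp)
  have hμ : ∀ x y, μ x y = ∑ η ∈ SH.X, (SH.δ η : ℂ) * (SG.δ (I η) : ℂ) * (I η : G → ℂ) x *
      (η : H → ℂ) y + (Nat.card A : ℂ)⁻¹ * ∑ l ∈ Finset.univ.erase (1 : Q →* ℂˣ),
        (SH.δ₀ : ℂ) * (SG.δ₀ : ℂ) * (SG.Ψ l : G → ℂ) x * (SH.Ψ l : H → ℂ) y := fun x y => by
    rw [hμdef]
    simp only
    rw [SH.sum_split hfree]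
    congr 1
    · exact Finset.sum_congr rfl fun η hη => by rw [hεX η hη]; push_cast; ring
    · congr 1
      exact Finset.sum_congr rfl fun l hl => by
        rw [hεΨ l (Finset.ne_of_mem_erase hl), hIΨ l (Finset.ne_of_mem_erase hl)]; push_cast; ring
  have hcardX : (SH.X.card : ℂ) = Nat.card A := by rw [SH.card_X]
  -- one argument singular and the other regular
  have hSR : ∀ x y, p ∣ orderOf x → ¬ p ∣ orderOf y → μ x y = 0 := fun x y hx hy => by
    obtain ⟨k, z, t, ht, hX, hΨ⟩ := SG.singular x hx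
    set S : ℂ := ∑ η ∈ SH.X, (SH.δ η : ℂ) * (η : H → ℂ) y
    have h1 : ∑ η ∈ SH.X, (SH.δ η : ℂ) * (SG.δ (I η) : ℂ) * (I η : G → ℂ) x * (η : H → ℂ) y =
        -(∑ i, t i) * S := by
      rw [Finset.mul_sum]
      refine Finset.sum_congr rfl fun η hη => ?_
      have hm : I η ∈ SG.X := by rw [hIX η hη]; exact (σ ⟨η, hη⟩).2
      rw [hX _ hm]
      linear_combination (-(SH.δ η : ℂ) * (∑ i, t i) * (η : H → ℂ) y) * hsq _ (SG.sign _ hm)
    have h2 : ∑ l ∈ Finset.univ.erase (1 : Q →* ℂˣ),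
        (SH.δ₀ : ℂ) * (SG.δ₀ : ℂ) * (SG.Ψ l : G → ℂ) x * (SH.Ψ l : H → ℂ) y =
        -S * ∑ i, t i * ∑ l ∈ Finset.univ.erase (1 : Q →* ℂˣ), orbVal A l (z i) := by
      rw [Finset.sum_congr rfl fun i _ => Finset.mul_sum _ _ _, Finset.sum_comm, Finset.mul_sum]
      refine Finset.sum_congr rfl fun l hl => ?_
      have hr := SH.regular l (Finset.ne_of_mem_erase hl) y hy
      rw [hΨ l (Finset.ne_of_mem_erase hl)]
      linear_combination ((SH.δ₀ : ℂ) * (SH.Ψ l : H → ℂ) y * ∑ i, t i * orbVal A l (z i)) *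
        hsq _ SG.sign₀ + (∑ i, t i * orbVal A l (z i)) * hr
    have h3 : ∑ i, t i * ∑ l ∈ Finset.univ.erase (1 : Q →* ℂˣ), orbVal A l (z i) =
        -(Nat.card A : ℂ) * ∑ i, t i := by
      rw [Finset.mul_sum]
      exact Finset.sum_congr rfl fun i _ => by rw [sum_orbVal A (ht i).1]; ring
    rw [hμ, h1, h2, h3]
    field_simp
    ring
  have hRS : ∀ x y, ¬ p ∣ orderOf x → p ∣ orderOf y → μ x y = 0 := fun x y hx hy => by
    obtain ⟨k, z, t, ht, hX, hΨ⟩ := SH.singular y hy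
    set S : ℂ := ∑ χ ∈ SG.X, (SG.δ χ : ℂ) * (χ : G → ℂ) x
    have h1 : ∑ η ∈ SH.X, (SH.δ η : ℂ) * (SG.δ (I η) : ℂ) * (I η : G → ℂ) x * (η : H → ℂ) y =
        -(∑ i, t i) * S := by
      rw [show S = _ from (hsumσ fun χ => (SG.δ χ : ℂ) * (χ : G → ℂ) x).symm, Finset.mul_sum]
      refine Finset.sum_congr rfl fun η hη => ?_
      rw [hX η hη]
      linear_combination (-(SG.δ (I η) : ℂ) * (∑ i, t i) * (I η : G → ℂ) x) * hsq _ (SH.sign _ hη)
    have h2 : ∑ l ∈ Finset.univ.erase (1 : Q →* ℂˣ),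
        (SH.δ₀ : ℂ) * (SG.δ₀ : ℂ) * (SG.Ψ l : G → ℂ) x * (SH.Ψ l : H → ℂ) y =
        -S * ∑ i, t i * ∑ l ∈ Finset.univ.erase (1 : Q →* ℂˣ), orbVal A l (z i) := by
      rw [Finset.sum_congr rfl fun i _ => Finset.mul_sum _ _ _, Finset.sum_comm, Finset.mul_sum]
      refine Finset.sum_congr rfl fun l hl => ?_
      have hr := SG.regular l (Finset.ne_of_mem_erase hl) x hx
      rw [hΨ l (Finset.ne_of_mem_erase hl)]
      linear_combination ((SG.δ₀ : ℂ) * (SG.Ψ l : G → ℂ) x * ∑ i, t i * orbVal A l (z i)) *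
        hsq _ SH.sign₀ + (∑ i, t i * orbVal A l (z i)) * hr
    have h3 : ∑ i, t i * ∑ l ∈ Finset.univ.erase (1 : Q →* ℂˣ), orbVal A l (z i) =
        -(Nat.card A : ℂ) * ∑ i, t i := by
      rw [Finset.mul_sum]
      exact Finset.sum_congr rfl fun i _ => by rw [sum_orbVal A (ht i).1]; ring
    rw [hμ, h1, h2, h3]
    field_simp
    ring
  -- both arguments singular
  have hSS : ∀ x y, p ∣ orderOf x → p ∣ orderOf y →
      μ x y / (Nat.card (Subgroup.centralizer ({x} : Set G)) : ℂ) ∈ place M ∧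
      μ x y / (Nat.card (Subgroup.centralizer ({y} : Set H)) : ℂ) ∈ place M := fun x y hx hy => by
    obtain ⟨k, z, t, ht, hX, hΨ⟩ := SG.singular x hx
    obtain ⟨k', z', t', ht', hX', hΨ'⟩ := SH.singular y hy
    choose N hN using fun i j => exists_sum_orbVal_mul (A := A) (z i) (z' j)
    have h1 : ∑ η ∈ SH.X, (SH.δ η : ℂ) * (SG.δ (I η) : ℂ) * (I η : G → ℂ) x * (η : H → ℂ) y =
        (Nat.card A : ℂ) * ∑ i, ∑ j, t i * t' j := by
      rw [← Finset.sum_mul_sum, ← hcardX, ← nsmul_eq_mul, ← Finset.sum_const]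
      refine Finset.sum_congr rfl fun η hη => ?_
      have hm : I η ∈ SG.X := by rw [hIX η hη]; exact (σ ⟨η, hη⟩).2
      rw [hX _ hm, hX' η hη]
      linear_combination ((∑ i, t i) * ∑ j, t' j) * ((SG.δ (I η) : ℂ) * (SG.δ (I η) : ℂ)) *
        hsq _ (SH.sign _ hη) + ((∑ i, t i) * ∑ j, t' j) * hsq _ (SG.sign _ hm)
    have h2 : ∑ l ∈ Finset.univ.erase (1 : Q →* ℂˣ),
        (SH.δ₀ : ℂ) * (SG.δ₀ : ℂ) * (SG.Ψ l : G → ℂ) x * (SH.Ψ l : H → ℂ) y =
        ∑ i, ∑ j, t i * t' j * ∑ l ∈ Finset.univ.erase (1 : Q →* ℂˣ),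
          orbVal A l (z i) * orbVal A l (z' j) := by
      rw [Finset.sum_congr rfl fun i _ => Finset.sum_congr rfl fun j _ => Finset.mul_sum _ _ _,
        Finset.sum_congr rfl fun i _ => Finset.sum_comm, Finset.sum_comm]
      refine Finset.sum_congr rfl fun l hl => ?_
      rw [hΨ l (Finset.ne_of_mem_erase hl), hΨ' l (Finset.ne_of_mem_erase hl),
        Finset.sum_congr rfl fun i _ => Finset.sum_congr rfl fun j _ =>
          show t i * t' j * (orbVal A l (z i) * orbVal A l (z' j)) =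
            (t i * orbVal A l (z i)) * (t' j * orbVal A l (z' j)) by ring, ← Finset.sum_mul_sum]
      linear_combination ((∑ i, t i * orbVal A l (z i)) * ∑ j, t' j * orbVal A l (z' j)) *
        ((SG.δ₀ : ℂ) * (SG.δ₀ : ℂ)) * hsq _ SH.sign₀ +
        ((∑ i, t i * orbVal A l (z i)) * ∑ j, t' j * orbVal A l (z' j)) * hsq _ SG.sign₀
    have hval : μ x y = ∑ i, ∑ j, t i * t' j * ((Nat.card Q : ℂ) * N i j) := by
      rw [hμ, h1, h2]
      simp only [hN, Finset.mul_sum, ← Finset.sum_add_distrib]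
      refine Finset.sum_congr rfl fun i _ => Finset.sum_congr rfl fun j _ => ?_
      field_simp
      ring
    rw [hval]
    simp only [Finset.sum_div]
    constructor
    · refine sum_mem fun i _ => sum_mem fun j _ => ?_
      convert mul_mem (mul_mem (ht i).2.2 (ht' j).2.1) (natCast_mem_place (M := M) (N i j)) using 1
      ring
    · refine sum_mem fun i _ => sum_mem fun j _ => ?_
      convert mul_mem (mul_mem (ht i).2.1 (ht' j).2.2) (natCast_mem_place (M := M) (N i j)) using 1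
      ring
  -- both arguments regular
  have hεint : ∀ η, (ε η : ℂ) ∈ place M := fun η => intCast_mem_place _
  have hcharint : ∀ {K : Type u} [Group K] [Fintype K] (η : IrrCharacter K) (g : K),
      (η : K → ℂ) g ∈ place M := fun η g =>
    isIntegral_mem_place hM (IsCharacter.isIntegral (isCharacter_of_irr η.2) g)
  have hG : ∀ x y, ¬ p ∣ orderOf y →
      μ x y / (Nat.card (Subgroup.centralizer ({x} : Set G)) : ℂ) ∈ place M := fun x y hy => by
    let a : IrrCharacter G → ℂ := fun χ => ∑ η ∈ Finset.univ.filter (· ∈ C),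
      if I η = χ then (ε η : ℂ) * (η : H → ℂ) y else 0
    have ha : ∀ g, ∑ χ : IrrCharacter G, a χ * (χ : G → ℂ) g = μ g y := fun g => by
      simp only [a, Finset.sum_mul, ite_mul, zero_mul]
      rw [Finset.sum_comm]
      refine Finset.sum_congr rfl fun η _ => ?_
      rw [Finset.sum_ite_eq, if_pos (Finset.mem_univ _)]
      ring
    rw [← ha]
    refine div_mem_of_vanish hM Finset.univ a (fun χ _ => sum_mem fun η _ => ?_)
      (fun g hg => by rw [ha]; exact hSR g y hg hy) x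
    split_ifs
    exacts [mul_mem (hεint η) (isIntegral_mem_place hM (IsCharacter.isIntegral (isCharacter_of_irr η.2) y)),
      zero_mem _]
  have hH : ∀ x y, ¬ p ∣ orderOf x →
      μ x y / (Nat.card (Subgroup.centralizer ({y} : Set H)) : ℂ) ∈ place M := fun x y hx => by
    have ha : ∀ g, ∑ η ∈ Finset.univ.filter (· ∈ C), ((ε η : ℂ) * (I η : G → ℂ) x) * (η : H → ℂ) g =
        μ x g := fun g => rfl
    rw [← ha]
    exact div_mem_of_vanish hM _ _ (fun η _ => mul_mem (hεint η) (hcharint (I η) x))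
      (fun g hg => by rw [ha]; exact hRS x g hx hg) y
  refine ⟨I, ε, ⟨hbij, hε, fun x y => ?_⟩, fun η hη =>
    ⟨by rw [hIX η hη]; exact (σ ⟨η, hη⟩).2, hεX η hη⟩, fun l hl => ⟨hIΨ l hl, hεΨ l hl⟩⟩
  have halg : IsAlgebraic ℚ (μ x y) := isAlgebraic_of_isIntegral <|
    IsIntegral.sum _ fun η _ => (show IsIntegral ℤ ((ε η : ℤ) : ℂ) by simpa using (isIntegral_algebraMap : IsIntegral ℤ (algebraMap ℤ ℂ (ε η)))).mul
      (IsCharacter.isIntegral (isCharacter_of_irr (I η).2) x) |>.mul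
      (IsCharacter.isIntegral (isCharacter_of_irr η.2) y)
  rw [hker]
  have hmem : ∀ n : ℕ, μ x y / (n : ℂ) ∈ place M → MemLocalRing M (μ x y / (n : ℂ)) := fun n hn =>
    memLocalRing_of_mem_place hM (halg.mul (isAlgebraic_algebraMap (n : ℚ)).inv) hn
  by_cases hx : p ∣ orderOf x <;> by_cases hy : p ∣ orderOf y
  · exact ⟨hmem _ (hSS x y hx hy).1, hmem _ (hSS x y hx hy).2,
      Or.inl ⟨fun h => absurd hx h, fun h => absurd hy h⟩⟩
  · have h0 := hSR x y hx hy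
    refine ⟨hmem _ ?_, hmem _ ?_, Or.inr h0⟩ <;> rw [h0, zero_div] <;> exact zero_mem _
  · have h0 := hRS x y hx hy
    refine ⟨hmem _ ?_, hmem _ ?_, Or.inr h0⟩ <;> rw [h0, zero_div] <;> exact zero_mem _
  · exact ⟨hmem _ (hG x y hy), hmem _ (hH x y hx), Or.inl ⟨fun _ => hy, fun _ => hx⟩⟩

end Cfsg.Lib.Blocks.CyclicDefect
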