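import Mathlib
import Cfsg.Agent.Blocks.CyclicDefect.Expansion
import Cfsg.Agent.Blocks.CyclicDefect.Side

/-!
# A block with cyclic defect group as a side of a perfect isometry
-/

set_option autoImplicit false
set_option linter.unusedSectionVars false
set_option linter.style.haveILetI false

namespace Cfsg.Lib.Blocks.CyclicDefect

open Cfsg.Lib.Chars Cfsg.Lib.Blocks.Frobenius
open scoped ComplexConjugate Classical

universe u

local notation "C⟨" Q "⟩" => Subgroup.centralizer (SetLike.coe Q)

variable {G : Type u} [Group G] [Fintype G] {M : Ideal AlgInt} {p : ℕ} [Fact p.Prime]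
  {B : Set (IrrCharacter G)} {P T : Subgroup G} {c : Set (IrrCharacter C⟨P⟩)}
  {A : Subgroup (MulAut P)}

lemma sum_univ_irrel {α : Type*} (i₁ i₂ : Fintype α) (f : α → ℂ) :
    @Finset.sum α ℂ _ (@Finset.univ α i₁) f = @Finset.sum α ℂ _ (@Finset.univ α i₂) f := by
  rw [Subsingleton.elim i₁ i₂]

/-- **The pattern of a block with cyclic defect group.** -/
theorem exists_block_side (s : FreePair p M B P T c) (E : Exceptional M p B P T c A)
    (hA : Nat.card A = C⟨P⟩.relIndex T) : Nonempty (Side M p P A B) := by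
  refine ⟨{ X := E.X, Ψ := E.Ψ, δ := E.δ, δ₀ := E.δ₀, card_X := E.card_X.trans hA.symm,
            mem_X := E.mem_X, mem_Ψ := E.mem_Ψ, cover := E.cover, eq_iff := E.eq_iff,
            sign := E.sign, sign₀ := E.sign₀, regular := E.regular, singular := ?_ }⟩
  intro g hg
  obtain ⟨k, y, t, ht, hval⟩ := singular_expansion s hg
  refine ⟨k, y, t, ht, fun χ hχ => ?_, fun l hl => ?_⟩
  · rw [hval χ (E.mem_X χ hχ), Finset.mul_sum]
    exact Finset.sum_congr rfl fun i _ => by rw [E.value_X χ hχ (y i) (ht i).1]; ring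
  · rw [hval _ (E.mem_Ψ l hl).1, Finset.mul_sum]
    refine Finset.sum_congr rfl fun i _ => ?_
    rw [E.value_Ψ l hl (y i) (ht i).1, orbVal, ← mul_assoc, ← mul_assoc, mul_comm (t i)]
    exact congrArg _ (sum_univ_irrel _ _ _)

end Cfsg.Lib.Blocks.CyclicDefect
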