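import Mathlib
import Cfsg.Agent.Blocks.CyclicDefect.Side
import Cfsg.Agent.Chars.Inertia
import Cfsg.Agent.Chars.Galois
import Cfsg.Agent.Chars.Construct
import Cfsg.Agent.Chars.Induced

/-!
# The pattern of the characters of a Frobenius group with cyclic kernel

A group of order `q e` with a self-centralizing cyclic subgroup of order `q = p ^ a`, `e ∣ p - 1`,
has `e` linear characters and one induced character for every orbit of nontrivial characters of
the kernel.
-/

set_option autoImplicit false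
set_option linter.unusedSectionVars false
set_option linter.style.haveILetI false

namespace Cfsg.Lib.Blocks.CyclicDefect

open Cfsg Cfsg.Lib.Chars Cfsg.Lib.Blocks
open scoped ComplexConjugate Classical

universe u v w

/-- Subgroups of a finite cyclic group are determined by their orders. -/
lemma eq_of_card_eq_of_cyclic {G : Type u} [Group G] [Finite G] [IsCyclic G] {U V : Subgroup G}
    (h : Nat.card U = Nat.card V) : U = V := by
  haveI := Fintype.ofFinite G
  have key : ∀ W : Subgroup G, (Finset.univ.filter fun x => x ∈ W) =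
      Finset.univ.filter fun x : G => x ^ Nat.card W = 1 := fun W => by
    refine Finset.eq_of_subset_of_card_le (fun x hx => ?_) ?_
    · refine Finset.mem_filter.2 ⟨Finset.mem_univ _, ?_⟩
      exact congrArg Subtype.val (pow_card_eq_one' (x := (⟨x, (Finset.mem_filter.1 hx).2⟩ : W)))
    · refine (IsCyclic.card_pow_eq_one_le Nat.card_pos).trans (le_of_eq ?_)
      rw [Nat.card_eq_fintype_card, Fintype.card_subtype]
  ext x
  have hx : x ∈ Finset.univ.filter (fun x => x ∈ U) ↔ x ∈ Finset.univ.filter (fun x => x ∈ V) := by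
    rw [key, key, h]
  simpa using hx

/-- Groups of automorphisms of a cyclic `p`-group of order dividing `p - 1` are determined by
their orders. -/
lemma eq_of_card_eq_mulAut {p : ℕ} [Fact p.Prime] {P : Type u} [Group P] [Finite P]
    (hcyc : IsCyclic P) {a : ℕ} (hP : Nat.card P = p ^ a) {U V : Subgroup (MulAut P)}
    (hU : Nat.card U ∣ p - 1) (h : Nat.card U = Nat.card V) : U = V := by
  by_cases hp2 : p = 2
  · subst hp2
    have h1 : Nat.card U = 1 := Nat.dvd_one.1 hU
    rw [Subgroup.eq_bot_of_card_eq U h1, Subgroup.eq_bot_of_card_eq V (h.symm.trans h1)]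
  haveI : IsCyclic (MulAut P) := by
    haveI := ZMod.isCyclic_units_of_prime_pow p Fact.out hp2 a
    rw [(IsCyclic.mulAutMulEquiv P).isCyclic, hP]
    infer_instance
  exact eq_of_card_eq_of_cyclic h

/-- Sums over a group through the image of a homomorphism. -/
lemma sum_comp_hom {F : Type u} [Group F] [Fintype F] {K : Type v} [Group K] (π : F →* K)
    [Fintype π.range] (f : K → ℂ) :
    ∑ g : F, f (π g) = (Nat.card π.ker : ℂ) * ∑ a : π.range, f a := by
  rw [← Finset.sum_fiberwise_of_maps_to (g := π.rangeRestrict) (t := Finset.univ)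
    (fun g _ => Finset.mem_univ _), Finset.mul_sum]
  refine Finset.sum_congr rfl fun a _ => ?_
  rw [Finset.sum_congr rfl (g := fun _ => f a) fun g hg => by
    rw [← (Finset.mem_filter.1 hg).2]; rfl, Finset.sum_const, nsmul_eq_mul]
  congr 2
  obtain ⟨g₀, hg₀⟩ := π.rangeRestrict_surjective a
  rw [← Fintype.card_subtype, ← Nat.card_eq_fintype_card]
  refine Nat.card_congr
    { toFun := fun g => ⟨g₀⁻¹ * g.1, ?_⟩
      invFun := fun k => ⟨g₀ * k.1, ?_⟩
      left_inv := fun g => Subtype.ext (mul_inv_cancel_left _ _)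
      right_inv := fun k => Subtype.ext (inv_mul_cancel_left _ _) }
  · have h := congrArg Subtype.val (g.2.trans hg₀.symm)
    simp only [MonoidHom.coe_rangeRestrict] at h
    rw [MonoidHom.mem_ker, map_mul, map_inv, h, inv_mul_cancel]
  · refine Subtype.ext ?_
    rw [← hg₀]
    show π (g₀ * k.1) = π g₀
    rw [map_mul, MonoidHom.mem_ker.1 k.2, mul_one]

/-- **The pattern of a Frobenius group with cyclic kernel.** -/
theorem exists_frobenius_side {M : Ideal AlgInt} {p : ℕ} [Fact p.Prime] {P : Type w} [Group P]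
    [Fintype P] (hcyc : IsCyclic P) {n : ℕ} (hn : Nat.card P = p ^ n) (hn1 : 1 ≤ n)
    {A : Subgroup (MulAut P)} (hA : FreeAut A) (hAp : Nat.card A ∣ p - 1)
    (F : Type v) [Group F] [Fintype F] (hF : Nat.card F = Nat.card P * Nat.card A) (Q : Subgroup F)
    (hQ : IsCyclic Q) (hQcard : Nat.card Q = Nat.card P)
    (hQC : Subgroup.centralizer (Q : Set F) = Q) :
    ∃ S : Side M p P A (Set.univ : Set (IrrCharacter F)),
      ∀ η : IrrCharacter F, (∃ x ∈ Q, (η : F → ℂ) x ≠ (η : F → ℂ) 1) →
        ∃ l, l ≠ 1 ∧ S.Ψ l = η := by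
  have hp : p.Prime := Fact.out
  set e := Nat.card A with he
  have hp1 : 0 < p - 1 := by have := hp.two_le; omega
  have he0 : 0 < e := Nat.card_pos
  have hep : e < p := lt_of_le_of_lt (Nat.le_of_dvd hp1 hAp) (by omega)
  have hpe : ¬ p ∣ e := fun h => absurd (Nat.le_of_dvd he0 h) (by omega)
  -- the kernel is normal
  have hidxQ : Q.index = e := by
    have h := Subgroup.card_mul_index Q
    rw [hQcard, hF] at h
    exact Nat.eq_of_mul_eq_mul_left Nat.card_pos h
  haveI hQN : Q.Normal := by
    have hQp : IsPGroup p Q := IsPGroup.of_card (n := n) (by rw [hQcard, hn])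
    have hpQ : ¬ p ∣ Q.index := hidxQ.symm ▸ hpe
    let S : Sylow p F := hQp.toSylow hpQ
    have h1 : Nat.card (Sylow p F) = 1 := by
      have hd : Nat.card (Sylow p F) ∣ e := by
        rw [← hidxQ]
        exact S.card_dvd_index
      have hm := card_sylow_modEq_one p F
      have hle := Nat.le_of_dvd he0 hd
      rw [Nat.ModEq, Nat.mod_eq_of_lt (lt_of_le_of_lt hle hep), Nat.mod_eq_of_lt hp.one_lt] at hm
      exact hm
    haveI : Subsingleton (Sylow p F) := (Nat.card_eq_one_iff_unique.1 h1).1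
    exact Sylow.normal_of_subsingleton S
  haveI := hQ
  haveI := hcyc
  let φ : P ≃* Q := mulEquivOfCyclicCardEq hQcard.symm
  let π : F →* MulAut P := (MulAut.congr φ.symm).toMonoidHom.comp MulAut.conjNormal
  have hπ : ∀ (g : F) (y : P), (φ (π g y) : F) = g * φ y * g⁻¹ := fun g y => by
    simp [π, MulAut.congr]
  have hker : π.ker = Q := by
    ext g
    rw [MonoidHom.mem_ker]
    constructor
    · intro h
      rw [← hQC, Subgroup.mem_centralizer_iff]
      intro x hx
      have h1 := hπ g (φ.symm ⟨x, hx⟩)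
      rw [h, MulAut.one_apply, MulEquiv.apply_symm_apply] at h1
      exact (eq_mul_inv_iff_mul_eq.1 h1)
    · intro hg
      refine MulEquiv.ext fun y => φ.injective (Subtype.ext ?_)
      rw [hπ, MulAut.one_apply]
      rw [← hQC, Subgroup.mem_centralizer_iff] at hg
      rw [← hg (φ y : F) (φ y).2, mul_inv_cancel_right]
  have hrange : π.range = A := by
    have h1 : Nat.card π.range = e := by rw [← Subgroup.index_ker, hker, hidxQ]
    exact eq_of_card_eq_mulAut hcyc hn (h1.symm ▸ hAp) (h1.trans he)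
  have hmemA : ∀ g, π g ∈ A := fun g => hrange ▸ ⟨g, rfl⟩
  letI : CommGroup P := IsCyclic.commGroup
  haveI : Fintype (P →* ℂˣ) := Fintype.ofFinite _
  -- the induced characters
  let θ : (P →* ℂˣ) → Q → ℂ := fun l m => ((l (φ.symm m) : ℂˣ) : ℂ)
  have hθ : ∀ l, IsIrrCharacter Q (θ l) := fun l =>
    isIrrCharacter_linear (l.comp φ.symm.toMonoidHom)
  have hθinj : Function.Injective θ := fun l k h => MonoidHom.ext fun y => Units.ext (by
    have := congrFun h (φ y)
    simpa [θ] using this)
  have hconj : ∀ g l, conjN Q g (θ l) = θ (trc (π g) l) := fun g l => funext fun m => by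
    show ((l (φ.symm ⟨g * m * g⁻¹, _⟩) : ℂˣ) : ℂ) = ((l (π g (φ.symm m)) : ℂˣ) : ℂ)
    congr 2
    refine φ.injective (Subtype.ext ?_)
    rw [MulEquiv.apply_symm_apply, hπ, MulEquiv.apply_symm_apply]
  have hnorm : ∀ l k, (Nat.card Q : ℂ) * classInner (indFun Q (θ l)) (indFun Q (θ k)) =
      (Nat.card {g : F // trc (π g) l = k} : ℂ) := fun l k => by
    rw [classInner_indFun_eq_card Q (hθ l) (hθ k)]
    congr 1
    exact Nat.card_congr (Equiv.subtypeEquivRight fun g => by rw [hconj, hθinj.eq_iff])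
  have hfix : ∀ l, l ≠ 1 → ∀ g, trc (π g) l = l ↔ g ∈ Q := fun l hl g => by
    constructor
    · intro h
      rw [← hker, MonoidHom.mem_ker]
      exact hA.dual (hmemA g) hl h
    · intro hg
      rw [← hker, MonoidHom.mem_ker] at hg
      rw [hg, trc_one]
  have hIrr : ∀ l, l ≠ 1 → IsIrrCharacter F (indFun Q (θ l)) := fun l hl => by
    refine isIrrCharacter_of_norm_one (IsCharacter.indFun (isCharacter_of_irr (hθ l))) ?_
    refine mul_left_cancel₀ (show (Nat.card Q : ℂ) ≠ 0 from Nat.cast_ne_zero.2 Nat.card_pos.ne') ?_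
    rw [hnorm, mul_one]
    congr 1
    exact Nat.card_congr (Equiv.subtypeEquivRight fun g => hfix l hl g)
  have hval : ∀ l (y : P), indFun Q (θ l) (φ y : F) = orbVal A l y := fun l y => by
    rw [indFun_normal_mem Q]
    have h1 : ∀ g : F, θ l ⟨g * (φ y : F) * g⁻¹, hQN.conj_mem _ (φ y).2 g⟩ =
        ((l (π g y) : ℂˣ) : ℂ) := fun g => by
      show ((l (φ.symm _) : ℂˣ) : ℂ) = _
      congr 2
    rw [Finset.sum_congr rfl fun g _ => h1 g, sum_comp_hom π (fun a => ((l (a y) : ℂˣ) : ℂ)),
      hker, inv_mul_cancel_left₀ (Nat.cast_ne_zero.2 Nat.card_pos.ne'), orbVal]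
    exact Fintype.sum_equiv (MulEquiv.subgroupCongr hrange).toEquiv _ _ fun a => rfl
  let Ψ : (P →* ℂˣ) → IrrCharacter F := fun l =>
    if h : l = 1 then ⟨fun _ => 1, by simpa using isIrrCharacter_linear (1 : F →* ℂˣ)⟩
    else ⟨indFun Q (θ l), hIrr l h⟩
  have hΨ : ∀ l, l ≠ 1 → (Ψ l : F → ℂ) = indFun Q (θ l) := fun l hl => by
    simp only [Ψ, dif_neg hl]
  -- the linear characters
  have hab : ∀ u v : F ⧸ Q, u * v = v * u := fun u v => by
    induction u using QuotientGroup.induction_on
    induction v using QuotientGroup.induction_on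
    rename_i u v
    rw [← QuotientGroup.mk_mul, ← QuotientGroup.mk_mul, QuotientGroup.eq, ← hker, MonoidHom.mem_ker,
      map_mul, map_inv, inv_mul_eq_one, map_mul, map_mul]
    haveI : IsMulCommutative (MulAut P) := ⟨⟨fun r s => by
      apply (IsCyclic.mulAutMulEquiv P).injective
      rw [map_mul, map_mul, mul_comm]⟩⟩
    exact mul_comm' _ _
  letI : CommGroup (F ⧸ Q) := { (inferInstance : Group (F ⧸ Q)) with mul_comm := hab }
  haveI : Fintype (F ⧸ Q →* ℂˣ) := Fintype.ofFinite _
  let lin : (F ⧸ Q →* ℂˣ) → IrrCharacter F := fun μ =>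
    ⟨_, isIrrCharacter_linear (μ.comp (QuotientGroup.mk' Q))⟩
  have hlin : ∀ μ g, (lin μ : F → ℂ) g = ((μ (g : F ⧸ Q) : ℂˣ) : ℂ) := fun _ _ => rfl
  have hlininj : Function.Injective lin := fun μ ν h => MonoidHom.ext fun u => by
    induction u using QuotientGroup.induction_on
    exact Units.ext (congrFun (congrArg Subtype.val h) _)
  set X := Finset.univ.image lin with hX
  have hXQ : ∀ χ ∈ X, ∀ g ∈ Q, (χ : F → ℂ) g = 1 := fun χ hχ g hg => by
    obtain ⟨μ, -, rfl⟩ := Finset.mem_image.1 hχ
    rw [hlin, (QuotientGroup.eq_one_iff g).2 hg, map_one, Units.val_one]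
  have hsumX : ∀ g : F, ∑ χ ∈ X, (χ : F → ℂ) g = if g ∈ Q then (e : ℂ) else 0 := fun g => by
    rw [hX, Finset.sum_image hlininj.injOn]
    simp only [hlin]
    rw [Homocyclic.sum_chars]
    simp only [QuotientGroup.eq_one_iff, ← Nat.card_eq_fintype_card, ← Subgroup.index_eq_card, hidxQ]
  have hone : indFun Q (θ 1) = fun g => ∑ χ ∈ X, (χ : F → ℂ) g := funext fun g => by
    rw [hsumX]
    by_cases hg : g ∈ Q
    · rw [if_pos hg, show g = ((φ (φ.symm ⟨g, hg⟩) : Q) : F) by simp, hval, he]
      simp [orbVal, Nat.card_eq_fintype_card]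
    · rw [if_neg hg, indFun_normal_not_mem Q _ hg]
  have hΨQ : ∀ l, l ≠ 1 → Ψ l ∉ X := fun l hl hmem => by
    have h1 : classInner (indFun Q (θ l)) (indFun Q (θ 1)) = 0 := by
      have h := hnorm l 1
      have hem : IsEmpty {g : F // trc (π g) l = 1} := ⟨fun g => trc_ne_one hl g.2⟩
      rw [Nat.card_of_isEmpty (α := {g : F // trc (π g) l = 1}), Nat.cast_zero] at h
      exact (mul_eq_zero.1 h).resolve_left (Nat.cast_ne_zero.2 Nat.card_pos.ne')
    rw [hone, show (fun g => ∑ χ ∈ X, (χ : F → ℂ) g) = ∑ χ ∈ X, (χ : F → ℂ) from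
      (funext fun g => (Finset.sum_apply g _ _).symm), classInner_sum_right, ← hΨ l hl,
      Finset.sum_congr rfl fun χ _ => classInner_irrCharacter (Ψ l) χ, Finset.sum_ite_eq,
      if_pos hmem] at h1
    exact one_ne_zero h1
  have hcover : ∀ η : IrrCharacter F, η ∈ X ∨ ∃ l, l ≠ 1 ∧ Ψ l = η := fun η => by
    obtain ⟨ξ, hξ⟩ : ∃ ξ : IrrCharacter Q,
        classInner (fun m : Q => (η : F → ℂ) m) (ξ : Q → ℂ) ≠ 0 := by
      by_contra hno
      push Not at hno
      have h := classFunction_expand_apply (isClassFunction_isChar (IsCharacter.restrict (isCharacter_of_irr η.2) Q)) 1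
      rw [Finset.sum_eq_zero fun ξ _ => by rw [hno ξ, zero_mul]] at h
      exact IsIrrCharacter.apply_one_ne_zero η.2 h
    obtain ⟨f, hf⟩ := exists_hom_of_deg_one (isCharacter_of_irr ξ.2)
      (irr_deg_one_of_comm (fun u v : Q => IsCyclic.commGroup.mul_comm u v) ξ.2)
    have hθeq : (ξ : Q → ℂ) = θ (f.comp φ.toMonoidHom) := by
      rw [hf]; funext m; simp [θ]
    rw [hθeq, ← frobenius_reciprocity' Q _ (isClassFunction_irr η)] at hξ
    by_cases hl : f.comp φ.toMonoidHom = 1
    · left
      by_contra hX'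
      rw [hl, hone, show (fun g => ∑ χ ∈ X, (χ : F → ℂ) g) = ∑ χ ∈ X, (χ : F → ℂ) from
        (funext fun g => (Finset.sum_apply g _ _).symm), classInner_sum_right,
        Finset.sum_eq_zero fun χ hχ => by
          rw [classInner_irrCharacter η χ, if_neg fun h => hX' (by rw [h]; exact hχ)]] at hξ
      exact hξ rfl
    · refine Or.inr ⟨_, hl, ?_⟩
      by_contra hne
      rw [← hΨ _ hl, classInner_irrCharacter, if_neg (Ne.symm hne)] at hξ
      exact hξ rfl
  have hsing : ∀ g : F, p ∣ orderOf g → g ∈ Q := fun g hg => by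
    by_contra hgQ
    have hk : π g ^ e = 1 := by
      exact congrArg Subtype.val (pow_card_eq_one' (x := (⟨π g, hmemA g⟩ : A)))
    have hgk : g ^ e ∈ Q := by rw [← hker, MonoidHom.mem_ker, map_pow, hk]
    have h1 : g ^ e = 1 := by
      by_contra h1
      refine hgQ ?_
      rw [← hker, MonoidHom.mem_ker]
      refine hA _ (hmemA g) (φ.symm ⟨g ^ e, hgk⟩) (fun h => h1 ?_) ?_
      · simpa using congrArg (fun y => (φ y : F)) h
      · refine φ.injective (Subtype.ext ?_)
        rw [hπ, MulEquiv.apply_symm_apply]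
        group
    exact hpe (hg.trans (orderOf_dvd_of_pow_eq_one h1))
  refine ⟨{ X := X, Ψ := Ψ, δ := fun _ => -1, δ₀ := 1, card_X := ?_,
            mem_X := fun χ _ => Set.mem_univ χ, mem_Ψ := fun l hl => ⟨Set.mem_univ _, hΨQ l hl⟩,
            cover := fun η _ => hcover η, eq_iff := ?_, sign := fun _ _ => Or.inr rfl,
            sign₀ := Or.inl rfl, regular := ?_, singular := ?_ }, fun η hη => ?_⟩
  · rw [hX, Finset.card_image_of_injective _ hlininj, Finset.card_univ, ← Nat.card_eq_fintype_card,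
      CommGroup.card_monoidHom_of_hasEnoughRootsOfUnity, ← Subgroup.index_eq_card, hidxQ]
  · intro l k hl hk
    constructor
    · intro h
      have h1 : classInner (indFun Q (θ l)) (indFun Q (θ k)) = 1 := by
        rw [← hΨ l hl, ← hΨ k hk, h, classInner_irrCharacter, if_pos rfl]
      have h2 := hnorm l k
      rw [h1, mul_one] at h2
      obtain ⟨g, hg⟩ : Nonempty {g : F // trc (π g) l = k} := by
        by_contra hne
        haveI := not_nonempty_iff.1 hne
        rw [Nat.card_of_isEmpty (α := {g : F // trc (π g) l = k}), Nat.cast_zero, Nat.cast_eq_zero] at h2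
        exact Nat.card_pos.ne' h2
      exact ⟨π g, hmemA g, hg.symm⟩
    · rintro ⟨b, hb, rfl⟩
      refine Subtype.ext ?_
      rw [hΨ l hl, hΨ _ hk]
      funext g
      by_cases hg : g ∈ Q
      · rw [show g = ((φ (φ.symm ⟨g, hg⟩) : Q) : F) by simp, hval, hval, orbVal, orbVal]
        exact (Fintype.sum_equiv (Equiv.mulLeft (⟨b, hb⟩ : A)) _ _ fun a => rfl).symm
      · rw [indFun_normal_not_mem Q _ hg, indFun_normal_not_mem Q _ hg]
  · intro l hl g hg
    rw [Finset.sum_congr rfl (g := fun χ : IrrCharacter F => -(χ : F → ℂ) g) fun χ _ => by simp,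
      Finset.sum_neg_distrib, hsumX, hΨ l hl, Int.cast_one, one_mul]
    by_cases hgQ : g ∈ Q
    · obtain rfl : g = 1 := by
        obtain ⟨k, hk⟩ := IsPGroup.iff_orderOf.1
          (IsPGroup.of_card (n := n) (by rw [hQcard, hn]) : IsPGroup p Q) ⟨g, hgQ⟩
        rw [Subgroup.orderOf_mk] at hk
        rcases k with _ | k
        · exact orderOf_eq_one_iff.1 (hk.trans (pow_zero p))
        · exact absurd (hk ▸ dvd_pow_self p (Nat.succ_ne_zero k)) hg
      rw [if_pos hgQ, show (1 : F) = ((φ 1 : Q) : F) by simp, hval]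
      simp [orbVal, Nat.card_eq_fintype_card, he]
    · rw [if_neg hgQ, indFun_normal_not_mem Q _ hgQ]
      ring
  · intro g hg
    have hgQ := hsing g hg
    have hg1 : g ≠ 1 := fun h => by
      rw [h, orderOf_one] at hg
      exact hp.not_dvd_one hg
    have hC : Subgroup.centralizer ({g} : Set F) = Q := by
      ext h
      rw [Subgroup.mem_centralizer_singleton_iff]
      constructor
      · intro hh
        rw [← hker, MonoidHom.mem_ker]
        refine hA _ (hmemA h) (φ.symm ⟨g, hgQ⟩) (fun e => hg1 ?_) ?_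
        · simpa using congrArg (fun y => (φ y : F)) e
        · refine φ.injective (Subtype.ext ?_)
          rw [hπ, MulEquiv.apply_symm_apply]
          show h * g * h⁻¹ = g
          rw [hh, mul_inv_cancel_right]
      · intro hh
        rw [← hQC, Subgroup.mem_centralizer_iff] at hh
        exact (hh g hgQ).symm
    refine ⟨1, fun _ => φ.symm ⟨g, hgQ⟩, fun _ => 1, fun i => ⟨fun h => hg1 ?_, one_mem _, ?_⟩,
      fun χ hχ => ?_, fun l hl => ?_⟩
    · simpa using congrArg (fun y => (φ y : F)) h
    · rw [hC, hQcard, one_mul, div_self (Nat.cast_ne_zero.2 Nat.card_pos.ne')]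
      exact one_mem _
    · rw [hXQ χ hχ g hgQ]
      simp
    · rw [hΨ l hl]
      conv_lhs => rw [show g = ((φ (φ.symm ⟨g, hgQ⟩) : Q) : F) by simp, hval]
      simp
  · obtain h | h := hcover η
    · obtain ⟨x, hx, hne⟩ := hη
      exact absurd ((hXQ η h x hx).trans (hXQ η h 1 Q.one_mem).symm) hne
    · exact h

end Cfsg.Lib.Blocks.CyclicDefect
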