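import Mathlib
import Cfsg.Agent.Blocks.CyclicDefect.BlockSide
import Cfsg.Agent.Blocks.CyclicDefect.FrobeniusSide
import Cfsg.Agent.Blocks.CyclicDefect.Rank
import Cfsg.Agent.Blocks.SectionRanks

/-!
# The Brauer correspondent in the normalizer of the subgroup of order `p`
-/

set_option autoImplicit false
set_option linter.unusedSectionVars false
set_option linter.style.haveILetI false

namespace Cfsg.Lib.Blocks.CyclicDefect

open Cfsg.Lib.Chars Cfsg.Lib.Blocks.Frobenius Cfsg.Lib.Blocks.IBr Cfsg.Lib.Blocks.Star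
open scoped ComplexConjugate Classical

universe u

/-- The composite of orbit relations with an isomorphism. -/
lemma trc_comp {P P' : Type*} [Group P] [Fintype P] [Group P'] [Fintype P'] (φ : P' ≃* P)
    (a : MulAut P') (l : P →* ℂˣ) :
    trc a (l.comp φ.toMonoidHom) = (trc (MulAut.congr φ a) l).comp φ.toMonoidHom :=
  MonoidHom.ext fun y => by simp [trc, MulAut.congr]

/-- **Transport of a side along an isomorphism of the defect group.** -/
theorem exists_side_map {M : Ideal AlgInt} {p : ℕ} {P P' : Type*} [Group P] [Fintype P] [Group P']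
    [Fintype P'] {G : Type u} [Group G] [Fintype G] {B : Set (IrrCharacter G)} (φ : P' ≃* P)
    {A' : Subgroup (MulAut P')} {A : Subgroup (MulAut P)}
    (hA : A'.map (MulAut.congr φ).toMonoidHom = A) (S : Side M p P' A' B) :
    Nonempty (Side M p P A B) := by
  have hmem : ∀ a, a ∈ A' ↔ MulAut.congr φ a ∈ A := fun a => by
    rw [← hA, Subgroup.mem_map]
    refine ⟨fun h => ⟨a, h, rfl⟩, ?_⟩
    rintro ⟨b, hb, h⟩
    rwa [← (MulAut.congr φ).injective h]
  let e : A' ≃ A :=
    { toFun := fun a => ⟨MulAut.congr φ a, (hmem a).1 a.2⟩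
      invFun := fun a => ⟨(MulAut.congr φ).symm a, (hmem _).2 (by
        rw [MulEquiv.apply_symm_apply]; exact a.2)⟩
      left_inv := fun a => Subtype.ext ((MulAut.congr φ).symm_apply_apply _)
      right_inv := fun a => Subtype.ext ((MulAut.congr φ).apply_symm_apply _) }
  have hne : ∀ l : P →* ℂˣ, l ≠ 1 → l.comp φ.toMonoidHom ≠ 1 := fun l hl h => hl
    (MonoidHom.ext fun y => by simpa using DFunLike.congr_fun h (φ.symm y))
  have hinj : ∀ l k : P →* ℂˣ, l.comp φ.toMonoidHom = k.comp φ.toMonoidHom → l = k := fun l k h =>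
    MonoidHom.ext fun y => by simpa using DFunLike.congr_fun h (φ.symm y)
  have horb : ∀ (l : P →* ℂˣ) (y : P'),
      orbVal A' (l.comp φ.toMonoidHom) y = orbVal A l (φ y) := fun l y =>
    Fintype.sum_equiv e _ _ fun a => by simp [e, MulAut.congr]
  refine ⟨{ X := S.X, Ψ := fun l => S.Ψ (l.comp φ.toMonoidHom), δ := S.δ, δ₀ := S.δ₀,
            card_X := S.card_X.trans (Nat.card_congr e), mem_X := S.mem_X,
            mem_Ψ := fun l hl => S.mem_Ψ _ (hne l hl), cover := ?_, eq_iff := ?_,
            sign := S.sign, sign₀ := S.sign₀, regular := fun l hl => S.regular _ (hne l hl),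
            singular := ?_ }⟩
  · intro η hη
    obtain h | ⟨l, hl, rfl⟩ := S.cover η hη
    · exact Or.inl h
    · refine Or.inr ⟨l.comp φ.symm.toMonoidHom, fun h => hl ?_, ?_⟩
      · exact MonoidHom.ext fun y => by simpa using DFunLike.congr_fun h (φ y)
      · congr 1
        exact MonoidHom.ext fun y => by simp
  · intro l k hl hk
    rw [S.eq_iff _ _ (hne l hl) (hne k hk)]
    constructor
    · rintro ⟨a, ha, h⟩
      rw [trc_comp] at h
      exact ⟨_, (hmem a).1 ha, hinj _ _ h⟩
    · rintro ⟨a, ha, rfl⟩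
      refine ⟨(MulAut.congr φ).symm a, (hmem _).2 (by rw [MulEquiv.apply_symm_apply]; exact ha), ?_⟩
      rw [trc_comp, MulEquiv.apply_symm_apply]
  · intro g hg
    obtain ⟨k, y, t, ht, hX, hΨ⟩ := S.singular g hg
    refine ⟨k, fun i => φ (y i), t, fun i => ⟨fun h => (ht i).1 ((map_eq_one_iff _ φ.injective).1 h),
      (ht i).2.1, by rw [← Nat.card_congr φ.toEquiv]; exact (ht i).2.2⟩, hX, fun l hl => ?_⟩
    rw [hΨ _ (hne l hl)]
    simp only [horb]

local notation "C⟨" Q "⟩" => Subgroup.centralizer (SetLike.coe Q)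

variable {G : Type u} [Group G] [Fintype G] {M : Ideal AlgInt} {p : ℕ} [Fact p.Prime]

/-- The normalizer of a cyclic group normalizes its subgroup of order `p`. -/
lemma normalizer_le_of_bottom {P Z : Subgroup G} (hP : IsPGroup p P) (hcyc : IsCyclic P)
    (hP1 : P ≠ ⊥) (hZ : Z ≤ P) (hZc : Nat.card Z = p) :
    Subgroup.normalizer (P : Set G) ≤ Subgroup.normalizer (Z : Set G) := by
  obtain ⟨z, hzP, hzord, -, hzpow⟩ := exists_bottom (p := p) hP hcyc hP1
  have hZz : Z = Subgroup.zpowers z := Subgroup.eq_of_le_of_card_ge (fun u hu => hzpow u (hZ hu) (by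
    have h := congrArg Subtype.val (pow_card_eq_one' (x := (⟨u, hu⟩ : Z)))
    rwa [hZc] at h)) (by rw [Nat.card_zpowers, hzord, hZc])
  subst hZz
  intro g hg
  refine mem_normalizer_of_conj hzord (hzpow _ ((Subgroup.mem_normalizer_iff.1 hg z).1 hzP) ?_)
  rw [conj_pow, ← hzord, pow_orderOf_eq_one, mul_one, mul_inv_cancel]

/-- **The correspondent has the same pattern.** -/
theorem exists_corresponding_sides (hM : IsPModular p M) {B : Set (IrrCharacter G)} {P H : Subgroup G}
    [Fintype H] (hB : IsPBlock M B) (hPD : IsDefectGroup p M B P) (hP1 : P ≠ ⊥) (hcyc : IsCyclic P)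
    (hN : Subgroup.normalizer (P : Set G) ≤ H) {c : Set (IrrCharacter H)}
    (hcD : IsDefectGroup p M c (P.subgroupOf H)) (hc : IsInducedBlock M H c B) :
    ∃ (A : Subgroup (MulAut P)), FreeAut A ∧ Nonempty (Side M p P A B) ∧
      Nonempty (Side M p P A c) ∧ Nat.card c = Nat.card B ∧ blockRank p c = blockRank p B := by
  have hPH : P ≤ H := le_trans Subgroup.le_normalizer hN
  have hCH : C⟨P⟩ ≤ H := (Subgroup.centralizer_le_normalizer _).trans hN
  let P' := P.subgroupOf H
  letI := Fintype.ofFinite (Subgroup.centralizer ((P' : Subgroup H) : Set H))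
  obtain ⟨c', hmax⟩ := exists_pair_of_defect hM hc.1 hcD
  obtain ⟨b, hb, rfl⟩ := exists_downSet hM hPH hCH hmax.1.1.2
  -- the pair of the group
  have hind : IsInducedBlock M C⟨P⟩ b B := by
    have hs : IsSubOf H C⟨P⟩ (Subgroup.centralizer ((P' : Subgroup H) : Set H)) := fun x => by
      rw [centralizer_subgroupOf_eq hPH, Subgroup.mem_subgroupOf]
    refine IsInducedBlock.trans' hM hs hCH hb ?_ hc
    have hd := ((isBrauerPairOf_iff hM c P' _).1 hmax.1).2
    rwa [show inSub hs hCH b = downSet hPH b from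
      bi_injective hM (isPBlock_inSub _ _ hb) (isPBlock_downSet hPH hCH hb) (emb_injective H (by
        rw [emb_bi_inSub, emb_bi_downSet hPH hCH]))]
  have hpair : IsBrauerPairOf p M B P b :=
    (isBrauerPairOf_iff hM B P b).2 ⟨IsDefectGroup.isPGroup hPD, hind⟩
  let T := Subgroup.normalizer (P : Set G) ⊓ stabElem (bi M C⟨P⟩ b)
  have hT : IsPairStab P b T := (isPairStab_iff hM hb).2 rfl
  have hTH : T ≤ H := inf_le_left.trans hN
  have hT' := isPairStab_down hM hPH hCH hb hT
  -- the correspondent's defect group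
  let φ : P' ≃* P := Subgroup.subgroupOfEquivOfLe hPH
  have hcyc' : IsCyclic P' := φ.isCyclic.2 hcyc
  have hP'1 : P' ≠ ⊥ := fun h => hP1 (Subgroup.eq_bot_of_card_eq P (by
    rw [← Nat.card_congr φ.toEquiv, h, Subgroup.card_bot]))
  obtain ⟨hdvd, s⟩ := inertia_props hM hPD hpair hcyc hP1 hT
  obtain ⟨hdvd', s'⟩ := inertia_props hM hcD hmax.1 hcyc' hP'1 hT'
  have hidx : (Subgroup.centralizer ((P' : Subgroup H) : Set H)).relIndex (T.subgroupOf H) =
      C⟨P⟩.relIndex T := by
    rw [centralizer_subgroupOf_eq hPH, Subgroup.relIndex_subgroupOf hTH]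
  obtain ⟨E⟩ := exists_exceptional hM hPD hpair hcyc hP1 hT
  obtain ⟨E'⟩ := exists_exceptional hM hcD hmax.1 hcyc' hP'1 hT'
  obtain ⟨S⟩ := exists_block_side s E (card_inertAut hT)
  obtain ⟨S'⟩ := exists_block_side s' E' (card_inertAut hT')
  obtain ⟨m, hm, hk, hl⟩ := card_and_rank hM hPD hpair hcyc hP1 hT
  obtain ⟨m', hm', hk', hl'⟩ := card_and_rank hM hcD hmax.1 hcyc' hP'1 hT'
  rw [hidx] at hm' hk' hl'
  rw [Nat.card_congr φ.toEquiv, ← hm, Nat.add_left_inj] at hm'
  haveI : Nontrivial P := (Subgroup.nontrivial_iff_ne_bot P).2 hP1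
  have he0 : 0 < C⟨P⟩.relIndex T := Nat.pos_of_ne_zero fun h => by
    rw [h, Nat.zero_mul] at hm
    exact absurd hm (Finite.one_lt_card (α := P)).ne
  obtain rfl : m' = m := Nat.eq_of_mul_eq_mul_left he0 hm'
  obtain ⟨n, -, hn⟩ := (IsPGroup.nontrivial_iff_card (IsDefectGroup.isPGroup hPD)).1 inferInstance
  have hA : ((inertAut hT').range).map (MulAut.congr φ).toMonoidHom = (inertAut hT).range := by
    have h1 : Nat.card (((inertAut hT').range).map (MulAut.congr φ).toMonoidHom) =
        C⟨P⟩.relIndex T := by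
      rw [← hidx, ← card_inertAut hT']
      exact (Nat.card_congr ((inertAut hT').range.equivMapOfInjective _
        (MulAut.congr φ).injective).toEquiv).symm
    exact eq_of_card_eq_mulAut hcyc hn (h1.symm ▸ hdvd) (h1.trans (card_inertAut hT).symm)
  exact ⟨_, freeAut_inertAut s, ⟨S⟩, exists_side_map φ hA S', hk'.trans hk.symm, hl'.trans hl.symm⟩

end Cfsg.Lib.Blocks.CyclicDefect
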