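import Mathlib
import Cfsg.Agent.Blocks.CyclicDefect.Singular

/-!
# Degrees and heights in a block with cyclic defect group
-/

set_option autoImplicit false
set_option linter.unusedSectionVars false
set_option linter.style.haveILetI false

namespace Cfsg.Lib.Blocks.CyclicDefect

open Cfsg.Lib.Chars Cfsg.Lib.Blocks.Frobenius Cfsg.Lib.Blocks.IBr Cfsg.Lib.Blocks.Star
open scoped ComplexConjugate Classical

universe u

local notation "C⟨" Q "⟩" => Subgroup.centralizer (SetLike.coe Q)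

lemma factorization_eq_iff {p : ℕ} (hp : p.Prime) {x : ℕ} (hx : x ≠ 0) (v : ℕ) :
    x.factorization p = v ↔ (p : ℤ) ^ v ∣ x ∧ ¬ (p : ℤ) ^ (v + 1) ∣ x := by
  have h : ∀ k, (p : ℤ) ^ k ∣ x ↔ k ≤ x.factorization p := fun k => by
    rw [← hp.pow_dvd_iff_le_factorization hx, ← Int.natCast_dvd_natCast]
    push_cast; rfl
  rw [h, h]
  omega

lemma sign_dvd {q δ : ℤ} (hδ : δ = 1 ∨ δ = -1) (x : ℤ) : q ∣ δ * x ↔ q ∣ x := by
  rcases hδ with rfl | rfl <;> simp

variable {G : Type u} [Group G] [Fintype G] {M : Ideal AlgInt} {p : ℕ} [Fact p.Prime]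
  {B : Set (IrrCharacter G)} {P T : Subgroup G} {c : Set (IrrCharacter C⟨P⟩)}
  {A : Subgroup (MulAut P)}

/-- The degrees of the non-exceptional characters, signed, are congruent. -/
theorem Exceptional.congr_X (E : Exceptional M p B P T c A) (s : FreePair p M B P T c)
    {χ χ' : IrrCharacter G} (hχ : χ ∈ E.X) (hχ' : χ' ∈ E.X) :
    (p : ℤ) ^ (Nat.card G).factorization p ∣
      E.δ χ * (deg (χ : G → ℂ) : ℤ) - E.δ χ' * (deg (χ' : G → ℂ) : ℤ) := by
  rcases eq_or_ne χ χ' with rfl | hne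
  · simp
  let a : IrrCharacter G → ℤ := fun η => if η = χ then E.δ χ else -E.δ χ'
  have ha : a χ = E.δ χ ∧ a χ' = -E.δ χ' := ⟨if_pos rfl, if_neg hne.symm⟩
  have h := pow_dvd_degree s.modular {χ, χ'} a fun g hg =>
    vanish_singular s {χ, χ'} (fun η hη => by
      rcases Finset.mem_insert.1 hη with rfl | h
      · exact E.mem_X _ hχ
      · rw [Finset.mem_singleton.1 h]; exact E.mem_X _ hχ') (fun η => (a η : ℂ)) (fun y hy => by
      have h1 := E.value_X χ hχ y hy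
      have h2 := E.value_X χ' hχ' y hy
      obtain ⟨hs, -⟩ := s.sgnW_sq (Subgroup.zpowers_le.2 y.2)
        (s.zpowers_ne fun e => hy (Subtype.ext e))
      have hδ : ∀ η ∈ E.X, (E.δ η : ℂ) * (E.δ η : ℂ) = 1 := fun η hη => by
        rcases E.sign η hη with e | e <;> rw [e] <;> norm_num
      rw [Finset.sum_pair hne, ha.1, ha.2]
      set σ := sgnW p M P T c (Subgroup.zpowers (y : G))
      set u := ga M (y : G) (fw M P c (Subgroup.zpowers (y : G))) χ
      set u' := ga M (y : G) (fw M P c (Subgroup.zpowers (y : G))) χ'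
      push_cast
      linear_combination ((E.δ χ : ℂ) * σ) * h1 - ((E.δ χ' : ℂ) * σ) * h2 -
        ((E.δ χ : ℂ) * u - (E.δ χ' : ℂ) * u') * hs - σ * hδ χ hχ + σ * hδ χ' hχ') hg
  rw [Finset.sum_pair hne, ha.1, ha.2, neg_mul, ← sub_eq_add_neg] at h
  exact h

/-- The degree relation. -/
theorem Exceptional.degree_relation (E : Exceptional M p B P T c A) {l : P →* ℂˣ} (hl : l ≠ 1) :
    E.δ₀ * (deg (E.Ψ l : G → ℂ) : ℤ) + ∑ χ ∈ E.X, E.δ χ * (deg (χ : G → ℂ) : ℤ) = 0 := by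
  have h := E.regular l hl 1 (by rw [orderOf_one]; exact (Fact.out : p.Prime).not_dvd_one)
  simp only [IsCharacter.apply_one_eq_deg (isCharacter_of_irr (Subtype.prop _))] at h
  exact_mod_cast h

/-- An exceptional degree is `-e δ₀ δ_χ χ(1)` modulo the `p`-part of the group order. -/
theorem Exceptional.congr_Ψ (E : Exceptional M p B P T c A) (s : FreePair p M B P T c)
    {l : P →* ℂˣ} (hl : l ≠ 1) {χ : IrrCharacter G} (hχ : χ ∈ E.X) :
    (p : ℤ) ^ (Nat.card G).factorization p ∣ (deg (E.Ψ l : G → ℂ) : ℤ) -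
      -((C⟨P⟩.relIndex T : ℤ) * E.δ₀ * E.δ χ * (deg (χ : G → ℂ) : ℤ)) := by
  have h := E.degree_relation hl
  have hsum : (p : ℤ) ^ (Nat.card G).factorization p ∣
      ∑ η ∈ E.X, (E.δ η * (deg (η : G → ℂ) : ℤ) - E.δ χ * (deg (χ : G → ℂ) : ℤ)) :=
    Finset.dvd_sum fun η hη => E.congr_X s hη hχ
  rw [Finset.sum_sub_distrib, Finset.sum_const, E.card_X, nsmul_eq_mul] at hsum
  refine (sign_dvd E.sign₀ _).1 ?_
  have hs : E.δ₀ * E.δ₀ = 1 := by rcases E.sign₀ with e | e <;> simp [e]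
  rw [← dvd_neg]
  refine hsum.trans (dvd_of_eq ?_)
  linear_combination h + ((C⟨P⟩.relIndex T : ℤ) * E.δ χ * (deg (χ : G → ℂ) : ℤ)) * hs

/-- **All heights are zero.** -/
theorem Exceptional.height_zero (E : Exceptional M p B P T c A) (s : FreePair p M B P T c)
    (hP1 : P ≠ ⊥) (he : ¬ p ∣ C⟨P⟩.relIndex T) {η : IrrCharacter G} (hη : η ∈ B) :
    blockHeight p B (η : G → ℂ) = 0 := by
  have hp : p.Prime := Fact.out
  set n := (Nat.card G).factorization p with hn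
  set v := sInf ((fun ψ : IrrCharacter G => (charDegree (ψ : G → ℂ)).factorization p) '' B) with hv
  suffices h : ∀ η ∈ B, (deg (η : G → ℂ)).factorization p = v by
    show (deg (η : G → ℂ)).factorization p - v = 0
    rw [h η hη, Nat.sub_self]
  have hvn : v < n := by
    have h1 : 0 < blockDefect p B := Nat.pos_of_ne_zero fun h0 => hP1 (by
      have := s.toAbPair.card_pow
      rw [h0, pow_zero] at this
      exact Subgroup.eq_bot_of_card_eq P this)
    exact Nat.lt_of_sub_pos (show 0 < n - v from h1)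
  have hne : ∀ η : IrrCharacter G, deg (η : G → ℂ) ≠ 0 := fun η => (deg_irr_pos η).ne'
  let D : IrrCharacter G → Prop := fun η =>
    (p : ℤ) ^ v ∣ (deg (η : G → ℂ) : ℤ) ∧ ¬ (p : ℤ) ^ (v + 1) ∣ (deg (η : G → ℂ) : ℤ)
  suffices h : ∀ η ∈ B, D η from fun η hη => (factorization_eq_iff hp (hne η) v).2 (h η hη)
  have hle : ∀ k, k ≤ v + 1 → (p : ℤ) ^ k ∣ (p : ℤ) ^ n := fun k hk => pow_dvd_pow _ (by omega)
  have hXX : ∀ χ ∈ E.X, ∀ χ' ∈ E.X, D χ → D χ' := fun χ hχ χ' hχ' hd => by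
    have key : ∀ k, k ≤ v + 1 →
        ((p : ℤ) ^ k ∣ (deg (χ : G → ℂ) : ℤ) ↔ (p : ℤ) ^ k ∣ (deg (χ' : G → ℂ) : ℤ)) :=
      fun k hk => by
        rw [← sign_dvd (E.sign χ hχ), ← sign_dvd (E.sign χ' hχ') (deg (χ' : G → ℂ) : ℤ)]
        exact (dvd_iff_dvd_of_dvd_sub ((hle k hk).trans (E.congr_X s hχ hχ')))
    exact ⟨(key v (by omega)).1 hd.1, fun h => hd.2 ((key _ le_rfl).2 h)⟩
  have hXY : ∀ χ ∈ E.X, ∀ l, l ≠ 1 → (D χ ↔ D (E.Ψ l)) := fun χ hχ l hl => by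
    have key : ∀ k, k ≤ v + 1 →
        ((p : ℤ) ^ k ∣ (deg (χ : G → ℂ) : ℤ) ↔ (p : ℤ) ^ k ∣ (deg (E.Ψ l : G → ℂ) : ℤ)) :=
      fun k hk => by
        rw [dvd_iff_dvd_of_dvd_sub ((hle k hk).trans (E.congr_Ψ s hl hχ)), dvd_neg,
          mul_assoc, mul_assoc, ← mul_assoc (C⟨P⟩.relIndex T : ℤ)]
        have hcop : IsCoprime ((p : ℤ) ^ k) ((C⟨P⟩.relIndex T : ℤ) * E.δ₀) := by
          refine IsCoprime.pow_left ?_
          rw [(Nat.prime_iff_prime_int.1 hp).coprime_iff_not_dvd, mul_comm, sign_dvd E.sign₀,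
            Int.natCast_dvd_natCast]
          exact he
        exact ⟨fun h => dvd_mul_of_dvd_right (dvd_mul_of_dvd_right h _) _,
          fun h => (sign_dvd (E.sign χ hχ) _).1 (hcop.dvd_of_dvd_mul_left h)⟩
    exact and_congr (key v (by omega)) (not_congr (key _ le_rfl))
  obtain ⟨χ₁, hχ₁, h0⟩ := exists_height_zero s.modular s.pair.2.1
  have hD₁ : D χ₁ := by
    refine (factorization_eq_iff hp (hne χ₁) v).1 (le_antisymm (Nat.sub_eq_zero_iff_le.1 h0) ?_)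
    exact Nat.sInf_le ⟨χ₁, hχ₁, rfl⟩
  obtain ⟨χ₂, hχ₂⟩ : E.X.Nonempty := Finset.card_pos.1 (by
    rw [E.card_X]
    exact Nat.pos_of_ne_zero fun h => he (by rw [h]; exact dvd_zero p))
  have hD₂ : D χ₂ := by
    obtain h | ⟨l, hl, rfl⟩ := E.cover χ₁ hχ₁
    · exact hXX _ h _ hχ₂ hD₁
    · exact (hXY _ hχ₂ l hl).2 hD₁
  intro η hη
  obtain h | ⟨l, hl, rfl⟩ := E.cover η hη
  · exact hXX _ hχ₂ _ h hD₂
  · exact (hXY _ hχ₂ l hl).1 hD₂

end Cfsg.Lib.Blocks.CyclicDefect
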