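import Mathlib
import Cfsg.Agent.Blocks.LocalDefect

/-!
# The stabilizer of a pair, written out with conjugate characters
-/

set_option autoImplicit false
set_option linter.unusedSectionVars false
set_option linter.style.haveILetI false

namespace Cfsg.Lib.Blocks.CyclicDefect

open Cfsg.Lib.Chars Cfsg.Lib.Blocks
open scoped Classical

universe u

local notation "C⟨" Q "⟩" => Subgroup.centralizer (SetLike.coe Q)

variable {G : Type u} [Group G] [Fintype G]

/-- The explicit form of the stabilizer is the predicate. -/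
theorem isPairStab_of_explicit {D : Subgroup G} {b : Set (IrrCharacter C⟨D⟩)} {T : Subgroup G}
    (hT : ∀ g : G, g ∈ T ↔ (g ∈ Subgroup.normalizer (D : Set G) ∧
      ∀ θ ∈ b, ∀ θ' : IrrCharacter C⟨D⟩, (∀ h h' : C⟨D⟩, (h' : G) = g * h * g⁻¹ →
        (θ' : C⟨D⟩ → ℂ) h' = (θ : C⟨D⟩ → ℂ) h) → θ' ∈ b)) :
    IsPairStab D b T := fun g => by
  rw [hT g]
  refine and_congr_right fun hg => ?_
  have hgC := centralizer_le_normalizer_centralizer hg le_rfl
  have hc := isConjSub_of_mem_normalizer hgC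
  constructor
  · refine fun h => ⟨hgC, fun θ hθ => ⟨irrEquiv (conjSubEquiv hc) θ, h θ hθ _ ?_, ?_⟩⟩
    all_goals
      intro k k' hk
      rw [irrEquiv_apply]
      exact congrArg _ (Subtype.ext (by simp [conjSubEquiv, hk, mul_assoc]))
  · rintro ⟨-, h⟩ θ hθ θ' hθ'
    obtain ⟨θ'', h'', hrel⟩ := h θ hθ
    suffices θ' = θ'' from this ▸ h''
    refine Subtype.ext (funext fun k' => ?_)
    have hmem : g⁻¹ * (k' : G) * g ∈ C⟨D⟩ := (hc (k' : G)).1 k'.2
    have he : (k' : G) = g * ((⟨_, hmem⟩ : C⟨D⟩) : G) * g⁻¹ := by simp [mul_assoc]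
    rw [hθ' ⟨_, hmem⟩ k' he, hrel ⟨_, hmem⟩ k' he]

end Cfsg.Lib.Blocks.CyclicDefect
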